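import Mathlib
import Cfsg.Agent.Gr.SC
import Cfsg.Agent.Gr.GDef

/-! The collinearity graph on the class of `zz`. -/

set_option autoImplicit false

namespace Cfsg.Agent.Gr

/-- The class of `zz`. -/
def ZC : Set K := conjugatesOf zz

/-- `x` lies in the extraspecial group of `z`. -/
def InQ (z x : K) : Prop := ∃ g : K, g * z * g⁻¹ = zz ∧ g * x * g⁻¹ ∈ QK

/-- Collinearity. -/
def adjZ (a b : K) : Prop := b ∈ ZC ∧ b ≠ a ∧ InQ a b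

variable {a b x z : K}

theorem zz_mem_ZC : zz ∈ ZC := IsConj.refl _

theorem mem_ZC : z ∈ ZC ↔ ∃ g : K, g * z * g⁻¹ = zz :=
  ⟨fun h => isConj_iff.1 (IsConj.symm h), fun h => (isConj_iff.2 h).symm⟩

theorem conj_mem_ZC (g : K) : g * z * g⁻¹ ∈ ZC ↔ z ∈ ZC :=
  ⟨fun h => IsConj.trans h (isConj_iff.2 ⟨g, rfl⟩).symm, fun h => IsConj.trans h (isConj_iff.2 ⟨g, rfl⟩)⟩

theorem InQ.mem (h : InQ z x) : z ∈ ZC := let ⟨g, e, _⟩ := h; mem_ZC.2 ⟨g, e⟩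

theorem InQ.of_conj (h : InQ z x) {g : K} (e : g * z * g⁻¹ = zz) : g * x * g⁻¹ ∈ QK := by
  obtain ⟨k, e1, e2⟩ := h
  have h1 : g * k⁻¹ * zz * (g * k⁻¹)⁻¹ = zz := by
    conv_lhs => rw [← e1]
    rw [← e]; group
  have := conj_mem_QK (g := g * k⁻¹) (mul_inv_eq_iff_eq_mul.1 h1).symm e2
  rwa [show g * k⁻¹ * (k * x * k⁻¹) * (g * k⁻¹)⁻¹ = g * x * g⁻¹ by group] at this

theorem inQ_zz : InQ zz x ↔ x ∈ QK :=
  ⟨fun h => by simpa using h.of_conj (g := 1) (by simp), fun h => ⟨1, by simp, by simpa using h⟩⟩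

theorem InQ.conj (h : InQ z x) (g : K) : InQ (g * z * g⁻¹) (g * x * g⁻¹) := by
  obtain ⟨k, e1, e2⟩ := h
  exact ⟨k * g⁻¹, by rw [← e1]; group, by
    rwa [show k * g⁻¹ * (g * x * g⁻¹) * (k * g⁻¹)⁻¹ = k * x * k⁻¹ by group]⟩

theorem inQ_conj (g : K) : InQ (g * z * g⁻¹) (g * x * g⁻¹) ↔ InQ z x :=
  ⟨fun h => by simpa [mul_assoc] using h.conj g⁻¹, fun h => h.conj g⟩

theorem adjZ_conj (g : K) : adjZ (g * a * g⁻¹) (g * b * g⁻¹) ↔ adjZ a b :=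
  and_congr (conj_mem_ZC g) (and_congr (by rw [ne_eq, conj_eq_iff]) (inQ_conj g))

theorem adjZ_zz : adjZ zz b ↔ b ∈ ZC ∧ b ≠ zz ∧ b ∈ QK := by rw [adjZ, inQ_zz]

theorem InQ.mul (h : InQ z a) (k : InQ z b) : InQ z (a * b) := by
  obtain ⟨g, e1, e2⟩ := h
  exact ⟨g, e1, by rw [conj_mul']; exact QK.mul_mem e2 (k.of_conj e1)⟩

theorem InQ.self (h : z ∈ ZC) : InQ z z :=
  let ⟨g, e⟩ := mem_ZC.1 h; ⟨g, e, by rw [e]; exact ⟨1, 0, rfl⟩⟩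

end Cfsg.Agent.Gr
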