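import Mathlib
import Cfsg.Agent.Gr.Am.ZDef
import Cfsg.Agent.Gr.GE3
import Cfsg.Agent.Gr.GM1
import Cfsg.Agent.Gr.MinC
import Cfsg.Agent.Gr.TriV

/-! Basic geometry of the collinearity graph on the class of `zz`. -/

set_option autoImplicit false

namespace Cfsg.Agent.Gr

open Cfsg.Agent.Spor Cfsg.Agent.Spor.Leech Relation

/-- The standard neighbour of `zz`. -/
noncomputable abbrev zs : K := tq 1 (om, 0)

namespace ZH

variable {a b d s t u x y z : K} {v w : Λ} {e f : ZMod 2}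

theorem cj_inv (g x : K) : g⁻¹ * (g * x * g⁻¹) * g⁻¹⁻¹ = x := by group

theorem not_DD (hz : z ∈ ZC) : z ∉ DD := fun h => by
  obtain ⟨g, e⟩ := mem_ZC.1 hz
  exact zz_not_mem_DD (e ▸ conj_mem_DD g h)

theorem sq (hz : z ∈ ZC) : z * z = 1 := by
  obtain ⟨g, e⟩ := mem_ZC.1 hz
  have := zz_mul_self
  rw [← e, ← conj_mul'] at this
  simpa using this

theorem ne_one (hz : z ∈ ZC) : z ≠ 1 := by
  obtain ⟨g, e⟩ := mem_ZC.1 hz
  rintro rfl
  exact zz_ne_one (by simpa using e.symm)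

theorem comm (h : InQ z x) : z * x = x * z := by
  obtain ⟨g, e1, e2⟩ := h
  have := GE.QK_zz e2
  rwa [← e1, GE.cj_comm] at this

theorem inQ_iff (ht : t ∈ DD) : InQ z t ↔ t * z ∈ O2 t := by
  constructor
  · rintro ⟨g, e1, e2⟩
    obtain ⟨e, v, hv, k⟩ := exists_tq (conj_mem_DD g ht) e2
    rw [← mem_O2_conj g ht, conj_mul', e1, k, tq_mul_zz]
    exact ⟨tq_cls_mem _ hv, (lm_tq_iff _ _ hv hv).2.2.2 (Or.inr ⟨rfl, by
      rcases zmod2_cases e with rfl | rfl <;> decide⟩)⟩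
  · intro h
    obtain ⟨g, g1, g2⟩ := O2_conj_zz ht h
    exact ⟨g, by rwa [DD_mul_cancel ht] at g2, g1 ▸ ⟨0, c0, rfl⟩⟩

theorem inQ_of_O1 (ht : t ∈ DD) (h : InQ z t) (h1 : s ∈ O1 t) (h2 : s ∈ O1 (t * z)) : InQ z s := by
  have h3 := ((inQ_iff ht).1 h).1
  obtain ⟨g, e1, e2⟩ := h
  obtain ⟨e, v, hv, k⟩ := exists_tq (conj_mem_DD g ht) e2
  rw [← mem_O1_conj g ht, k] at h1
  rw [← mem_O1_conj g h3, conj_mul', e1, k, tq_mul_zz] at h2
  exact ⟨g, e1, mem_QK_of_2B hv h1 h2⟩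

theorem O1_of_inQ (ht : t ∈ DD) (h : InQ z t) (k : InQ z s) (h1 : s ∈ O1 t) : s ∈ O1 (t * z) := by
  have h3 := ((inQ_iff ht).1 h).1
  obtain ⟨g, e1, e2⟩ := h
  obtain ⟨e, v, hv, k1⟩ := exists_tq (conj_mem_DD g ht) e2
  obtain ⟨f, w, hw, k2⟩ := exists_tq (conj_mem_DD g h1.1) (k.of_conj e1)
  rw [← mem_O1_conj g ht, k1, k2, GE.tq_O1 hv hw] at h1
  rwa [← mem_O1_conj g h3, conj_mul', e1, k1, tq_mul_zz, k2, GE.tq_O1 hv hw]

theorem t0_QK : t0 ∈ QK := ⟨0, c0, rfl⟩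

theorem s0_QK : s0 ∈ QK := ⟨0, _, rfl⟩

theorem y3_QK : y3 ∈ QK := y3_v3 ▸ GE.tq_QK _ _

theorem inQ_tri (ht : t ∈ DD) (hs : s ∈ O1 t) (hy : y ∈ RR t s) :
    InQ (t * s * y) t ∧ InQ (t * s * y) s ∧ InQ (t * s * y) y := by
  obtain ⟨g, g1, g2, g3⟩ := RR_std ht hs hy
  have e : g * (t * s * y) * g⁻¹ = zz := by rw [conj_mul', conj_mul', g1, g2, g3, tri_prod]
  exact ⟨⟨g, e, g1 ▸ t0_QK⟩, ⟨g, e, g2 ▸ s0_QK⟩, ⟨g, e, g3 ▸ y3_QK⟩⟩

theorem mem_RR (ht : t ∈ DD) (hs : s ∈ O1 t) (h1 : InQ z t) (h2 : InQ z s) : t * s * z ∈ RR t s := by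
  have h3 := O1_mul_DD ht hs
  have h4 := (inQ_iff h3).1 (h1.mul h2)
  exact (mem_RR_iff ht hs).2 ⟨O1_symm h4.1 (O1_of_inQ h3 (h1.mul h2) h1 (O1_symm ht (O1_mul ht hs))), h4.2⟩

theorem cancel (ht : t ∈ DD) (hs : s ∈ O1 t) (x : K) : t * s * (t * s * x) = x :=
  DD_mul_cancel (O1_mul_DD ht hs) x

theorem adj_of_col (ht : t ∈ DD) (hs : s ∈ O1 t) (hy : y ∈ RR t s) (hd : d ∈ RR t s) (h : lm y d = 0) :
    adjZ (t * s * y) (t * s * d) := by
  refine ⟨(inQ_tri ht hs hd).1.mem, fun e => ?_, ?_⟩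
  · rw [mul_left_cancel e, lm_self hy.1.1] at h
    exact one_ne_zero h
  obtain ⟨h1, h2, -⟩ := inQ_tri ht hs hy
  refine (h1.mul h2).mul ?_
  obtain ⟨g, g1, g2, g3⟩ := RR_std ht hs hy
  refine ⟨g, by rw [conj_mul', conj_mul', g1, g2, g3, tri_prod], GE.col_QK ?_ ?_⟩
  · rw [NN_eq, ← g1, ← g2]; exact (mem_RR_conj g ht hs.1).2 hd
  · rw [← g3, lm_cj g hy.1.1 hd.1.1, h]

theorem col_of_adj (ht : t ∈ DD) (hs : s ∈ O1 t) (hy : y ∈ RR t s) (hd : d ∈ RR t s)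
    (h : adjZ (t * s * y) (t * s * d)) : lm y d = 0 := by
  obtain ⟨h1, h2, -⟩ := inQ_tri ht hs hy
  have h3 := (h1.mul h2).mul h.2.2
  rw [cancel ht hs] at h3
  have c1 : Commute (t * s) d := Commute.mul_left (O1_comm ht hd.1) (O1_comm hs.1 hd.2.1)
  have c2 : Commute (t * s * (t * s * y)) d := c1.mul_left (comm h3)
  rw [cancel ht hs] at c2
  rcases lm_of_comm hy.1.1 hd.1.1 c2 with k | k | k
  · exact (h.2.1 (by rw [eq_of_lm hy.1.1 hd.1.1 k])).elim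
  · obtain ⟨g, g1, g2, g3⟩ := RR_std ht hs hy
    refine (Et_not_QK (u := g * d * g⁻¹) ⟨?_, ?_, ?_⟩ (h3.of_conj ?_)).elim
    · rw [← g1]; exact (mem_O1_conj g ht).2 hd.1
    · rw [← g2]; exact (mem_O1_conj g hs.1).2 hd.2.1
    · rw [← g3]; exact (mem_O1_conj g hy.1.1).2 ⟨hd.1.1, k⟩
    · rw [conj_mul', conj_mul', g1, g2, g3, tri_prod]
  · exact k

theorem om_ne : ((om, 0) : LL) ≠ 0 ∧ qL (om, 0) ≠ 1 ∧ ((om, 0) : LL) ∉ ShS := by
  have h : ∀ e, tq e (om, 0) ∈ ZC := isConj_zz_om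
  refine ⟨fun k => ne_one (h 0) (by rw [k, tq_zero]), fun k => zz_ne_one ?_,
    fun k => not_DD (h 0) (tq_mem_DD_iff.2 k)⟩
  rw [← sq (h 0), tq_mul_self, k, zz]

theorem zs_mem : zs ∈ ZC := isConj_zz_om 1

theorem adj_std0 (h : adjZ zz b) : ∃ g : K, zz * g = g * zz ∧ g * b * g⁻¹ = zs := by
  obtain ⟨h1, h2, e, c, rfl⟩ := adjZ_zz.1 h
  have h0 : c ≠ 0 := by
    rintro rfl
    rcases zmod2_cases e with rfl | rfl
    exacts [ne_one h1 tq_zero, h2 rfl]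
  obtain ⟨k, hk⟩ := MinD.exists_csm (a := c) (b := (om, 0)) (.inr (.inr ⟨⟨fun q => zz_ne_one (by
    rw [← sq h1, tq_mul_self, q, zz]), h0, fun q => not_DD h1 (tq_mem_DD_iff.2 q)⟩, om_ne.2.1, om_ne.1, om_ne.2.2⟩))
  obtain ⟨γ, rfl, g1⟩ := exists_lift_one k h0 (e + 1)
  exact ⟨act γ, zz_comm_act γ, by rw [act_conj, g1, hk, ← add_assoc, z2_add_self, zero_add]⟩

theorem adj_std (h : adjZ a b) : ∃ g : K, g * a * g⁻¹ = zz ∧ g * b * g⁻¹ = zs := by
  obtain ⟨g, e⟩ := mem_ZC.1 h.2.2.mem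
  obtain ⟨k, k1, k2⟩ := adj_std0 (e ▸ (adjZ_conj g).2 h)
  exact ⟨k * g, by rw [← conj_conj, e, ← k1, mul_inv_cancel_right], by rw [← conj_conj, k2]⟩

theorem adj_zs : adjZ zz zs :=
  adjZ_zz.2 ⟨zs_mem, fun e => om_ne.1 (tq_inj.1 e).2, GE.tq_QK _ _⟩

theorem adj_zs' : adjZ zs zz :=
  ⟨zz_mem_ZC, adj_zs.2.1.symm, tau * tau, by rw [← conj_conj, tau_conj_one, tau_conj_zero], by
    rw [← conj_conj, tau_conj_zz, tau_conj_one]; exact GE.tq_QK _ _⟩

theorem symm (h : adjZ a b) : adjZ b a := by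
  obtain ⟨g, g1, g2⟩ := adj_std h
  rw [← adjZ_conj g, g1, g2]
  exact adj_zs'

/-- The third point of a line. -/
theorem adj_mul (h : adjZ a b) : adjZ a (a * b) ∧ adjZ b (a * b) := by
  have key : ∀ {a b : K}, adjZ a b → adjZ a (a * b) := fun {a b} h => by
    obtain ⟨g, g1, g2⟩ := adj_std h
    rw [← adjZ_conj g, conj_mul', g1, g2, zz_mul_tq]
    exact adjZ_zz.2 ⟨isConj_zz_om _, fun e => om_ne.1 (tq_inj.1 e).2, GE.tq_QK _ _⟩
  exact ⟨key h, comm h.2.2 ▸ key (symm h)⟩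

theorem ex_O1 (ht : t ∈ DD) (h : InQ z t) : ∃ s ∈ O1 t, InQ z s := by
  obtain ⟨m, m1, m2⟩ := GM.exists_mid ht ((inQ_iff ht).1 h)
  exact ⟨m, m1, inQ_of_O1 ht h m1 m2⟩

theorem ex_DD (hz : z ∈ ZC) : ∃ t ∈ DD, InQ z t := by
  obtain ⟨g, e⟩ := mem_ZC.1 hz
  exact ⟨g⁻¹ * t0 * g⁻¹⁻¹, conj_mem_DD _ t0_mem, g, e, by simpa [mul_assoc] using t0_QK⟩

/-- Two minimal vectors have a common neighbour. -/
theorem ex_nbr (hv : nm v = 32) (hw : nm w = 32) :
    ∃ r, nm r = 32 ∧ ip v r = 16 ∧ (ip w r = 16 ∨ ip w r = -16) := by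
  have key : ∀ {v w v' w' r : Λ}, nm v = 32 → nm w = 32 → nm v' = 32 → nm w' = 32 → ip v w = ip v' w' →
      nm r = 32 → ip v' r = 16 → ip w' r = 16 → ∃ r, nm r = 32 ∧ ip v r = 16 ∧ ip w r = 16 :=
    fun hv hw hv' hw' h hr a b => by
      obtain ⟨g, g1, g2⟩ := trans_pair hv' hw' hv hw h.symm
      exact ⟨g • _, by rw [nm_smul, hr], by rw [← g1, ip_smul, a], by rw [← g2, ip_smul, b]⟩
  have pos : ∀ {w : Λ}, nm w = 32 → 0 ≤ ip v w → ∃ r, nm r = 32 ∧ ip v r = 16 ∧ ip w r = 16 := fun {w} hw h => by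
    have z1 := TriV.z01
    have z2 : (0 : ZMod 23) ≠ 2 := by decide
    have z3 : (1 : ZMod 23) ≠ 2 := by decide
    have n02 : (some 2 : Pt) ≠ some 0 := by simpa using z2.symm
    rcases ip_cases32 hv hw with k | k | k | k | k | k | k
    · obtain ⟨g, g1⟩ := trans32 nm_v1 hv
      exact ⟨g • v2, by rw [nm_smul, nm_v2], by rw [← g1, ip_smul, ip_v1_v2], by rw [k, ← g1, ip_smul, ip_v1_v2]⟩
    · rw [k, ip_neg_right, ip_self, hv] at h; omega
    · refine key hv hw nm_v1 nm_v2 (k.trans ip_v1_v2.symm) (nm_v44 n02 1 (-1)) ?_ ?_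
      · rw [ip_comm, TriV.ip_v1]; simp [v44_apply, z2]
      · rw [ip_comm, TriV.ip_v2]; simp [v44_apply, z1.symm, z2, z3]
    · refine key hv hw (nm_v44 p12 1 1) (w' := odd1 none (-3) rfl) (by rw [nm_odd1]; rfl) ?_
        (nm_v44 p01 (-1) 1) ?_ ?_
      · rw [k, ip_comm, ip_v44]; simp [odd1_apply]
      · rw [ip_v44]; simp [v44_apply, z1]
      · rw [ip_v44]; simp [odd1_apply]
    · refine key hv hw nm_v1 (nm_v44 p01 1 1) ?_ (nm_v44 p02 1 1) ?_ ?_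
      · rw [k, ip_comm, TriV.ip_v1]; simp [v44_apply]
      · rw [ip_comm, TriV.ip_v1]; simp [v44_apply, z1]
      · rw [ip_v44]; simp [v44_apply, z1.symm]
    all_goals omega
  rcases le_total 0 (ip v w) with h | h
  · obtain ⟨r, a, b, c⟩ := pos hw h
    exact ⟨r, a, b, .inl c⟩
  · obtain ⟨r, a, b, c⟩ := pos (w := -w) (by rwa [nm_neg]) (by rw [ip_neg_right]; omega)
    exact ⟨r, a, b, .inr (by rw [ip_neg_left] at c; omega)⟩

open Finset in
theorem common16 {y : Λ} (hy : nm y = 32) (h1 : ip y v1 = 16) (h2 : ip y v2 = 16) :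
    ∃ w : Λ, nm w = 32 ∧ ip w v1 = 16 ∧ ip w v2 = 16 ∧ ip w y = 16 := by
  rw [TriV.ip_v1] at h1
  rw [TriV.ip_v2] at h2
  have z1 := TriV.z01
  rcases shape32 y.2 hy with ⟨p, q, -, a, b, h⟩ | ⟨o, -, h8, h⟩ | ⟨c, p, -, a, h⟩
  · by_cases e : (y : Vec) (some 0) = -4
    · obtain ⟨k, hk⟩ := exists_notMem (t := {none, some 0, some 1, p, q})
        (card_le_five.trans_lt (by norm_num))
      simp only [mem_insert, mem_singleton, not_or] at hk
      exact TriV.common_k hk.1 hk.2.1 hk.2.2.1 (by rw [h k hk.2.2.2.1 hk.2.2.2.2, e]; rfl)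
    have k : ∀ i, (y : Vec) i = 0 ∨ (y : Vec) i = 4 ∨ (y : Vec) i = -4 := fun i => by
      by_cases e : i = p
      · rw [e]; rw [Int.abs_eq_natAbs] at a; omega
      by_cases e' : i = q
      · rw [e']; rw [Int.abs_eq_natAbs] at b; omega
      exact .inl (h i e e')
    have k0 := k none
    have k1 := k (some 0)
    have e : y = v44 none (some 1) 1 1 := sub_eq_zero.1 (nm_eq_zero.1 (by
      rw [nm_sub, hy, nm_v44 p02, ip_v44]; simp only [Units.val_one]; omega))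
    obtain ⟨o, ho, h8, hs⟩ := exists_octad_superset (s := {none, some 0, some 1})
      (card_le_three.trans (by norm_num))
    obtain ⟨k, hk, hk'⟩ := exists_mem_notMem (s := o) (t := {none, some 0, some 1})
      (by rw [h8]; exact card_le_three.trans_lt (by norm_num))
    simp only [mem_insert, mem_singleton, not_or] at hk'
    have m0 : none ∈ o := hs (by simp)
    have m1 : some 0 ∈ o := hs (by simp)
    have m2 : some 1 ∈ o := hs (by simp)
    refine ⟨two o ho - v44 (some 0) k 1 1, ?_, ?_, ?_, ?_⟩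
    · rw [nm_sub, nm_two, h8, nm_v44 (Ne.symm hk'.2.1), ip_v44]; simp [two_apply, m1, hk]
    · rw [TriV.ip_v1]; simp [two_apply, v44_apply, m0, m1, Ne.symm hk'.1, Ne.symm hk'.2.1]
    · rw [TriV.ip_v2]; simp [two_apply, v44_apply, m2, m1, Ne.symm hk'.2.2, Ne.symm hk'.2.1, z1.symm]
    · rw [e, ip_v44]; simp [two_apply, v44_apply, m0, m2, Ne.symm hk'.2.2, Ne.symm hk'.1, z1.symm]
  · obtain ⟨k, hk, hk'⟩ := exists_mem_notMem (s := o) (t := {none, some 0, some 1})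
      (by rw [h8]; exact card_le_three.trans_lt (by norm_num))
    simp only [mem_insert, mem_singleton, not_or] at hk'
    refine TriV.common_k hk'.1 hk'.2.1 hk'.2.2 ?_
    have a := h none
    have b := h (some 0)
    rw [h k, if_pos hk]
    rw [Int.abs_eq_natAbs] at a b
    split_ifs at a b <;> omega
  · obtain ⟨k, hk⟩ := exists_notMem (t := {none, some 0, some 1, p})
      (card_le_four.trans_lt (by norm_num))
    simp only [mem_insert, mem_singleton, not_or] at hk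
    refine TriV.common_k hk.1 hk.2.1 hk.2.2.1 ?_
    rw [h k hk.2.2.2]
    by_cases e : p = some 0
    · have b := h none (e ▸ p01)
      rw [e] at a
      rw [Int.abs_eq_natAbs] at a b
      omega
    have b := h _ (Ne.symm e)
    by_cases e' : p = none
    · have d := h (some 1) (e' ▸ p02.symm)
      rw [Int.abs_eq_natAbs] at b d
      omega
    · have d := h _ (Ne.symm e')
      rw [Int.abs_eq_natAbs] at b d
      omega

/-- Minimal vectors with mutual inner product `16` are at most 24. -/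
theorem card_le_24 (W : Finset Λ) (h1 : ∀ w ∈ W, nm w = 32) (h2 : ∀ w ∈ W, ∀ r ∈ W, w ≠ r → ip w r = 16) :
    W.card ≤ 24 := by
  classical
  have h : LinearIndependent ℤ fun w : W => ((w : Λ) : Vec) := by
    rw [Fintype.linearIndependent_iff]
    intro g hg
    have h0 : ∑ w : W, g w • (w : Λ) = 0 := Subtype.ext (by simpa using hg)
    have h3 : ∀ r : W, g r = -∑ w : W, g w := fun r => by
      have := congrArg (ip · r) h0
      simp only [ip_sum_left, ip_zsmul_left, ip_zero_left] at this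
      rw [Finset.sum_congr rfl (g := fun w : W => 16 * g w + if w = r then 16 * g r else 0) fun w _ => by
        split_ifs with e
        · rw [e, ip_self, h1 _ r.2]; ring
        · rw [h2 _ w.2 _ r.2 fun k => e (Subtype.ext k)]; ring, Finset.sum_add_distrib, ← Finset.mul_sum] at this
      simp only [Finset.sum_ite_eq', Finset.mem_univ, if_true] at this
      omega
    have h4 := Finset.sum_congr rfl fun r (_ : r ∈ Finset.univ) => h3 r
    rw [Finset.sum_const, nsmul_eq_mul] at h4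
    have h5 : ((Finset.univ : Finset W).card + 1 : ℤ) * ∑ w : W, g w = 0 := by linear_combination h4
    intro r
    rw [h3, (mul_eq_zero.1 h5).resolve_left (Nat.cast_add_one_ne_zero _), neg_zero]
  have h6 := h.fintype_card_le_finrank
  rwa [Fintype.card_coe, Module.finrank_fintype_fun_eq_card, card_pt] at h6

end ZH

end Cfsg.Agent.Gr
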