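import Mathlib
import Cfsg.Agent.Gr.Am.ZA

/-! Common collinear neighbours of polar pairs and triples among the third vertices over an edge. -/

set_option autoImplicit false

namespace Cfsg.Agent.Gr.ZH

open Cfsg.Agent.Spor Cfsg.Agent.Spor.Leech Relation Cfsg.Agent.Gr.GE

variable {a b c d d' m s t u u' x y z : K} {v w r : Λ} {e f : ZMod 2} {h : Co0}

theorem ex_fixed (W : Finset Λ) (hW : W.card = 27) (φ : Λ → Λ) (h1 : ∀ w ∈ W, φ w ∈ W)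
    (h2 : ∀ w ∈ W, φ (φ w) = w) : ∃ w ∈ W, φ w = w := by
  by_contra k
  have := Finset.sum_involution (s := W) (f := fun _ => (1 : ZMod 2)) (fun w _ => φ w) (fun _ _ => rfl)
    (fun w hw _ e => k ⟨w, hw, e⟩) h1 h2
  rw [Finset.sum_const, hW] at this
  exact absurd this (by decide)

/-- The 27 vectors. -/
def W27 (h : Co0) (w : Λ) : Prop := nm w = 32 ∧ h • w = w ∧ ip v1 w = 16 ∧ ip v2 w = 16

theorem ex_W (hu : u ∈ Et) : ∃ h, Out8 u h ∧ h • v1 = v1 ∧ h • v2 = v2 ∧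
    ∃ W : Finset Λ, W.card = 27 ∧ ∀ w, w ∈ W ↔ W27 h w := by
  obtain ⟨h, o, h1, h2, h3, -⟩ := out_Et hu
  exact ⟨h, o, h1, h2, _, h3, fun w => by rw [Finset.mem_filter, mem_Min]; rfl⟩

theorem W27.col (k : W27 h w) (e : ZMod 2) : tq e (cls w) ∈ NN ∧ lm y3 (tq e (cls w)) = 0 :=
  col_y3.2 ⟨e, w, k.1, k.2.2.1, k.2.2.2, rfl⟩

theorem z2_two (e : ZMod 2) : e + 1 + 1 = e := by rcases zmod2_cases e with rfl | rfl <;> rfl

theorem root_of (o : Out8 u h) (hw : nm w = 32) (k : lm u (tq e (cls w)) = 1 / 8) :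
    lm u (tq (e + 1) (cls w)) = 0 := by
  obtain ⟨f, k1, k2⟩ := o.root w hw (o.fix w e hw k)
  by_cases q : f = e
  · rwa [← q]
  · rw [← z2_ne q, k] at k2; norm_num at k2

theorem F3_std (hu : u ∈ Et) (hu' : u' ∈ Et) (k : u' ∈ O1 u) :
    ∃ d ∈ NN, lm y3 d = 0 ∧ lm u d = 0 ∧ lm u' d = 0 := by
  obtain ⟨h, o, h1, h2, W, hW, mW⟩ := ex_W hu
  obtain ⟨h', o', h1', h2', -⟩ := ex_W hu'
  have hD := hu.1.1
  by_cases hQ : u * u' ∈ QK
  · obtain ⟨f, r, hr, q⟩ := exists_tq (O1_mul_DD hD k) hQ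
    have q1 := O1_mul hD k
    have ne : ∀ {x y : K}, x ∈ DD → y ∈ O1 x → u ∈ O1 x → u' ∈ O1 x → u ∈ O1 y → u' ∈ O1 y →
        lm (u * u') x = 0 := fun {x y} hx hy a1 a2 a3 a4 =>
      RR_lm hD k ⟨O1_symm hx a1, O1_symm hx a2, fun e => by
        have := RR_lm hD k ⟨O1_symm hy.1 a3, O1_symm hy.1 a4, fun e' => O1_ne hx hy (e'.trans e.symm)⟩
        rw [← e, hy.2] at this; norm_num at this⟩
    have a1 := ne t0_mem s0_mem hu.1 hu'.1 hu.2.1 hu'.2.1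
    have a2 := ne s0_mem.1 (O1_symm t0_mem s0_mem) hu.2.1 hu'.2.1 hu.1 hu'.1
    rw [q, t0_v1, (lm_tq_iff _ _ hr nm_v1).2.2, cls_eq_iff_short hr nm_v1] at a1
    rw [q, s0_v2, (lm_tq_iff _ _ hr nm_v2).2.2, cls_eq_iff_short hr nm_v2] at a2
    have i12 := ip_v1_v2
    have i11 := ip_self v1
    have i21 := ip_comm v1 v2
    have i22 := ip_self v2
    rw [nm_v1] at i11
    rw [nm_v2] at i22
    have b : ip r v1 = 0 ∧ ip r v2 = 0 := by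
      have c1 : ∀ {x y : Λ}, x = y → ip x v1 = ip y v1 := fun e => by rw [e]
      rcases a1 with a1 | ⟨a1 | a1, -⟩ <;> rcases a2 with a2 | ⟨a2 | a2, -⟩
      · exact ⟨a1, a2⟩
      all_goals
        exfalso
        first
          | (rw [a2, ip_neg_left] at a1; omega)
          | (rw [a2] at a1; omega)
          | (rw [a1, ip_neg_left] at a2; omega)
          | (rw [a1] at a2; omega)
          | (have := c1 (a1.symm.trans a2); (try simp only [ip_neg_left] at this); omega)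
    have hf : h • r = r := o.fix r f hr (q ▸ q1.2)
    have dv : ∀ w ∈ W, ∃ n : ℤ, ip r w = 16 * n := fun w hw =>
      o.even r w hr ((mW w).1 hw).1 hf ((mW w).1 hw).2.1
    obtain ⟨w, hw, e⟩ := ex_fixed W hW (fun w => w - (ip r w / 16) • r) (fun w hw => by
      obtain ⟨n, hn⟩ := dv w hw
      obtain ⟨w1, w2, w3, w4⟩ := (mW w).1 hw
      rw [hn, Int.mul_ediv_cancel_left _ (by norm_num)]
      refine (mW _).2 ⟨?_, by rw [smul_sub, co0_smul_zsmul, w2, hf], ?_, ?_⟩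
      · rw [nm_sub, nm_zsmul, ip_zsmul_right, ip_comm, hn, w1, hr]; ring
      · rw [ip_sub_right, ip_zsmul_right, w3, ip_comm, b.1]; ring
      · rw [ip_sub_right, ip_zsmul_right, w4, ip_comm, b.2]; ring) fun w hw => by
      obtain ⟨n, hn⟩ := dv w hw
      rw [hn, Int.mul_ediv_cancel_left _ (by norm_num), ip_sub_right, ip_zsmul_right, hn, ip_self, hr,
        show 16 * n - n * 32 = 16 * -n by ring, Int.mul_ediv_cancel_left _ (by norm_num), neg_smul]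
      abel
    obtain ⟨n, hn⟩ := dv w hw
    have w1 := (mW w).1 hw
    have e1 := congrArg (ip r) e
    rw [hn, Int.mul_ediv_cancel_left _ (by norm_num), ip_sub_right, ip_zsmul_right, hn, ip_self, hr] at e1
    obtain ⟨g, g1, g2⟩ := o.root w w1.1 w1.2.1
    have g3 := mul_O1 hD q1 ⟨tq_cls_mem g w1.1, g1⟩ (by
      rw [q, (lm_tq_iff _ _ hr w1.1).2.2]; exact .inl (by omega))
    rw [DD_mul_cancel hD] at g3
    exact ⟨_, (w1.col (g + 1)).1, (w1.col _).2, g2, root_of o' w1.1 (lm_symm _ _ ▸ g3.2)⟩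
  · have c : h * h' = h' * h := by
      have e1 := thU_eq (x := ⟨u, Et_subset hu⟩) (h := ⟨h, h1, h2⟩) o.act
      have e2 := thU_eq (x := ⟨u', Et_subset hu'⟩) (h := ⟨h', h1', h2'⟩) o'.act
      have e3 : (⟨u, Et_subset hu⟩ * ⟨u', Et_subset hu'⟩ : SS) = ⟨u', Et_subset hu'⟩ * ⟨u, Et_subset hu⟩ :=
        Subtype.ext (O1_comm hD k)
      have := congrArg thU e3
      rw [map_mul, map_mul, e1, e2] at this
      exact congrArg Subtype.val this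
    obtain ⟨w, hw, e⟩ := ex_fixed W hW (h' • ·) (fun w hw => by
      obtain ⟨w1, w2, w3, w4⟩ := (mW w).1 hw
      exact (mW _).2 ⟨by rw [nm_smul, w1], by rw [← mul_smul, c, mul_smul, w2],
        by rw [← h1', ip_smul, w3], by rw [← h2', ip_smul, w4]⟩) fun w _ => by
      rw [← mul_smul, o'.sq, one_smul]
    have w1 := (mW w).1 hw
    obtain ⟨g, g1, g2⟩ := o.root w w1.1 w1.2.1
    obtain ⟨g', g3, g4⟩ := o'.root w w1.1 e
    by_cases q : g = g'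
    · exact ⟨_, (w1.col (g + 1)).1, (w1.col _).2, g2, q ▸ g4⟩
    rw [z2_ne q] at g3 g4
    rw [z2_two] at g4
    exact (hQ (mem_QK_of_2B w1.1 (mul_O1 hD k ⟨tq_cls_mem g w1.1, g1⟩ g4)
      (O1_comm hD k ▸ mul_O1 k.1 (O1_symm hD k) ⟨tq_cls_mem _ w1.1, g3⟩ g2))).elim

theorem F1_std (hu : u ∈ Et) : ∃ d ∈ NN, lm y3 d = 0 ∧ lm u d = 0 := by
  obtain ⟨h, o, -, -, W, hW, mW⟩ := ex_W hu
  obtain ⟨w, hw⟩ : W.Nonempty := Finset.card_pos.1 (by omega)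
  have w1 := (mW w).1 hw
  obtain ⟨g, -, g2⟩ := o.root w w1.1 w1.2.1
  exact ⟨_, (w1.col (g + 1)).1, (w1.col _).2, g2⟩

theorem W27.ip (o : Out8 u h) (k : W27 h w) (k' : W27 h r) : w = r ∨ ip w r = 16 ∨ ip w r = 0 := by
  obtain ⟨n, hn⟩ := o.even w r k.1 k'.1 k.2.1 k'.2.1
  have key : ∀ {x : Λ}, nm x = 32 → Leech.ip x w = 16 → Leech.ip x r = 16 → Leech.ip w r = -16 → x = w + r :=
    fun hx a b q => sub_eq_zero.1 (nm_eq_zero.1 (by rw [nm_sub, hx, ip_add_right, a, b, nm_add, k.1, k'.1, q]; rfl))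
  rcases ip_cases32 k.1 k'.1 with q | q | q | q | q | q | q
  · exact .inl q.symm
  · have := k'.2.2.1
    rw [q, ip_neg_right, k.2.2.1] at this; omega
  · exact .inr (.inl q)
  · omega
  · exact .inr (.inr q)
  · omega
  · have := ip_v1_v2
    rw [(key nm_v1 k.2.2.1 k'.2.2.1 q).trans (key nm_v2 k.2.2.2 k'.2.2.2 q).symm, ip_self, nm_v2] at this
    omega

theorem W27.line (h1 : h • v1 = v1) (h2 : h • v2 = v2) (k : W27 h w) (k' : W27 h r) (q : Leech.ip w r = 0) :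
    W27 h (v1 + v2 - w - r) ∧ Leech.ip w (v1 + v2 - w - r) = 0 ∧
      ∀ x, W27 h x → Leech.ip x w + Leech.ip x r + Leech.ip x (v1 + v2 - w - r) = 32 := by
  obtain ⟨a1, a2, a3, a4⟩ := k
  obtain ⟨b1, b2, b3, b4⟩ := k'
  refine ⟨⟨?_, by rw [smul_sub, smul_sub, smul_add, h1, h2, a2, b2], ?_, ?_⟩, ?_, fun x hx => ?_⟩
  · simp only [nm_sub, nm_add, ip_sub_left, ip_add_left, nm_v1, nm_v2, ip_v1_v2, a1, a3, a4, b1, b3, b4, q]; rfl
  · simp only [ip_sub_right, ip_add_right, ip_self, nm_v1, ip_v1_v2, a3, b3]; rfl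
  · simp only [ip_sub_right, ip_add_right, ip_self, nm_v2, ip_comm v2 v1, ip_v1_v2, a4, b4]; rfl
  · simp only [ip_sub_right, ip_add_right, ip_self, ip_comm w v1, ip_comm w v2, a1, a3, a4, q]; rfl
  · simp only [ip_sub_right, ip_add_right, ip_comm x v1, ip_comm x v2, hx.2.2.1, hx.2.2.2]; ring

theorem F2_std (hu : u ∈ Et) (hd : d ∈ NN) (k1 : lm y3 d = 0) (k2 : lm u d = 0) (hd' : d' ∈ NN)
    (k3 : lm y3 d' = 0) (k4 : lm u d' = 0) : d = d' ∨ lm d d' = 0 ∨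
      ∃ c ∈ NN, lm y3 c = 0 ∧ lm u c = 0 ∧ lm d c = 0 ∧ lm c d' = 0 := by
  obtain ⟨h, o, h1, h2, W, hW, mW⟩ := ex_W hu
  have co : ∀ {d : K}, d ∈ NN → lm y3 d = 0 → lm u d = 0 → ∃ e w, W27 h w ∧ d = tq e (cls w) :=
    fun hd k1 k2 => by
      obtain ⟨e, w, a1, a2, a3, rfl⟩ := col_y3.1 ⟨hd, k1⟩
      refine ⟨e, w, ⟨a1, (o.zero w e a1 k2).resolve_right fun q => ?_, a2, a3⟩, rfl⟩
      have := ip_smul h v1 w
      rw [h1, q, ip_neg_right, a2] at this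
      omega
  obtain ⟨e, w, hw, rfl⟩ := co hd k1 k2
  obtain ⟨f, r, hr, rfl⟩ := co hd' k3 k4
  have val : ∀ {x y : Λ}, W27 h x → W27 h y → ip x y = 32 ∨ ip x y = 16 ∨ ip x y = 0 := fun hx hy =>
    (hx.ip o hy).imp_left fun q => by rw [← q, ip_self, hx.1]
  rcases hw.ip o hr with rfl | q | q
  · obtain ⟨g, g1, -⟩ := o.root w hw.1 hw.2.1
    have : ∀ {e : ZMod 2}, lm u (tq e (cls w)) = 0 → e = g + 1 := fun k =>
      z2_ne fun q => by rw [q, k] at g1; norm_num at g1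
    exact .inl (by rw [this k2, this k4])
  · obtain ⟨x, hx, a⟩ : ∃ x, W27 h x ∧ ip w x = 0 := by
      by_contra n
      have := card_le_24 W (fun x hx => ((mW x).1 hx).1) fun x hx y hy ne => by
        have hx' := (mW x).1 hx
        have hy' := (mW y).1 hy
        refine ((hx'.ip o hy').resolve_left ne).resolve_right fun q => ?_
        obtain ⟨l1, -, l3⟩ := hx'.line h1 h2 hy' q
        have := l3 w hw
        have a1 := val hw hx'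
        have a2 := val hw hy'
        have a3 := val hw l1
        have b1 : ip w x ≠ 0 := fun q => n ⟨_, hx', q⟩
        have b2 : ip w y ≠ 0 := fun q => n ⟨_, hy', q⟩
        have b3 : ip w (v1 + v2 - x - y) ≠ 0 := fun q => n ⟨_, l1, q⟩
        omega
      omega
    obtain ⟨y, hy, b1, b2⟩ : ∃ y, W27 h y ∧ ip w y = 0 ∧ ip y r = 0 := by
      obtain ⟨l1, l2, l3⟩ := hw.line h1 h2 hx a
      have := l3 r hr
      have a1 := val hr hx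
      have a2 := val hr l1
      rw [ip_comm] at q
      by_cases b : ip r x = 0
      · exact ⟨x, hx, a, ip_comm r x ▸ b⟩
      · exact ⟨_, l1, l2, by rw [ip_comm]; omega⟩
    obtain ⟨g, -, g2⟩ := o.root y hy.1 hy.2.1
    exact .inr (.inr ⟨_, (hy.col (g + 1)).1, (hy.col _).2, g2, (lm_tq_iff _ _ hw.1 hy.1).2.2.2 (.inl b1),
      (lm_tq_iff _ _ hy.1 hr.1).2.2.2 (.inl b2)⟩)
  · exact .inr (.inl ((lm_tq_iff _ _ hw.1 hr.1).2.2.2 (.inl q)))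

theorem F4_std (hy : y ∈ NN) (k : lm y3 y = 0) : ∃ x ∈ NN, lm y3 x = 0 ∧ x ∈ O1 y ∧ x ∈ O1 (y * zz) := by
  obtain ⟨e, w, a1, a2, a3, rfl⟩ := col_y3.1 ⟨hy, k⟩
  obtain ⟨r, b1, b2, b3, b4⟩ := common16 a1 (ip_comm v1 w ▸ a2) (ip_comm v2 w ▸ a3)
  have := col_y3.2 ⟨0, r, b1, ip_comm r v1 ▸ b2, ip_comm r v2 ▸ b3, rfl⟩
  rw [ip_comm] at b4
  exact ⟨_, this.1, this.2, GM.tq_O1 a1 b1 b4, by rw [tq_mul_zz]; exact GM.tq_O1 a1 b1 b4⟩

section General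

variable (ht : t ∈ DD) (hs : s ∈ O1 t) (ha : a ∈ RR t s)
include ht hs ha

theorem F3 (hb : b ∈ RR t s) (hc : c ∈ RR t s) (k1 : b ∈ O1 a) (k2 : c ∈ O1 a) (k3 : c ∈ O1 b) :
    ∃ d ∈ RR t s, lm a d = 0 ∧ lm b d = 0 ∧ lm c d = 0 := by
  obtain ⟨g, rfl, rfl, rfl⟩ := std ht hs ha
  obtain ⟨b, rfl⟩ := cj_surj g b
  obtain ⟨c, rfl⟩ := cj_surj g c
  have hb' := (cj_Et g).1 ⟨hb, k1⟩
  have hc' := (cj_Et g).1 ⟨hc, k2⟩
  obtain ⟨d, d1, d2, d3, d4⟩ := F3_std hb' hc' ((mem_O1_conj g hb'.1.1).1 k3)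
  exact ⟨_, (cj_NN g).2 d1, by rwa [lm_cj g y3_mem d1.1.1], by rwa [lm_cj g hb'.1.1 d1.1.1],
    by rwa [lm_cj g hc'.1.1 d1.1.1]⟩

theorem F1 (hb : b ∈ RR t s) (k1 : b ∈ O1 a) : ∃ d ∈ RR t s, lm a d = 0 ∧ lm b d = 0 := by
  obtain ⟨g, rfl, rfl, rfl⟩ := std ht hs ha
  obtain ⟨b, rfl⟩ := cj_surj g b
  have hb' := (cj_Et g).1 ⟨hb, k1⟩
  obtain ⟨d, d1, d2, d3⟩ := F1_std hb'
  exact ⟨_, (cj_NN g).2 d1, by rwa [lm_cj g y3_mem d1.1.1], by rwa [lm_cj g hb'.1.1 d1.1.1]⟩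

theorem F2 (hb : b ∈ RR t s) (k : b ∈ O1 a) (hd : d ∈ RR t s) (k1 : lm a d = 0) (k2 : lm b d = 0)
    (hd' : d' ∈ RR t s) (k3 : lm a d' = 0) (k4 : lm b d' = 0) : d = d' ∨ lm d d' = 0 ∨
      ∃ c ∈ RR t s, lm a c = 0 ∧ lm b c = 0 ∧ lm d c = 0 ∧ lm c d' = 0 := by
  obtain ⟨g, rfl, rfl, rfl⟩ := std ht hs ha
  obtain ⟨b, rfl⟩ := cj_surj g b
  obtain ⟨d, rfl⟩ := cj_surj g d
  obtain ⟨d', rfl⟩ := cj_surj g d'
  have hb' := (cj_Et g).1 ⟨hb, k⟩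
  rw [cj_NN] at hd hd'
  rw [lm_cj g y3_mem hd.1.1] at k1
  rw [lm_cj g y3_mem hd'.1.1] at k3
  rw [lm_cj g hb'.1.1 hd.1.1] at k2
  rw [lm_cj g hb'.1.1 hd'.1.1] at k4
  rcases F2_std hb' hd k1 k2 hd' k3 k4 with q | q | ⟨c, c1, c2, c3, c4, c5⟩
  · exact .inl (by rw [q])
  · exact .inr (.inl (by rwa [lm_cj g hd.1.1 hd'.1.1]))
  · exact .inr (.inr ⟨_, (cj_NN g).2 c1, by rwa [lm_cj g y3_mem c1.1.1], by rwa [lm_cj g hb'.1.1 c1.1.1],
      by rwa [lm_cj g hd.1.1 c1.1.1], by rwa [lm_cj g c1.1.1 hd'.1.1]⟩)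

theorem F4 (hy : y ∈ RR t s) (k : lm a y = 0) :
    ∃ x ∈ RR t s, lm a x = 0 ∧ x ∈ O1 y ∧ x ∈ O1 (y * (t * s * a)) := by
  obtain ⟨g, rfl, rfl, rfl⟩ := std ht hs ha
  obtain ⟨y, rfl⟩ := cj_surj g y
  rw [cj_NN] at hy
  rw [lm_cj g y3_mem hy.1.1] at k
  obtain ⟨x, x1, x2, x3, x4⟩ := F4_std hy k
  exact ⟨_, (cj_NN g).2 x1, by rwa [lm_cj g y3_mem x1.1.1], (mem_O1_conj g hy.1.1).2 x3, by
    rw [cj_z, ← conj_mul']; exact (mem_O1_conj g (col_mul0 hy k).1.1.1).2 x4⟩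

end General

end Cfsg.Agent.Gr.ZH
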