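import Mathlib
import Cfsg.Agent.Gr.Am.ZB

/-! Covers of the collinearity graph: components, and the part over an edge `t, s`. -/

set_option autoImplicit false

namespace Cfsg.Agent.Gr.ZH

open Relation

universe u

theorem rtg_map {α β : Type*} {R : α → α → Prop} {R' : β → β → Prop} (f : α → β)
    (h : ∀ a b, R a b → R' (f a) (f b)) {a b : α} (k : ReflTransGen R a b) : ReflTransGen R' (f a) (f b) := by
  induction k with
  | refl => exact .refl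
  | tail _ k ih => exact ih.tail (h _ _ k)

theorem rtg_symm {α : Type*} {R : α → α → Prop} (h : ∀ a b, R a b → R b a) {a b : α} (k : ReflTransGen R a b) :
    ReflTransGen R b a := by
  induction k with
  | refl => exact .refl
  | tail _ k ih => exact .head (h _ _ k) ih

section Generic

variable {Y : Type u} {S S' : Set K} {adj adj' : K → K → Prop} {T T' : K → K → K → Prop} {π : Y → K}
  {A : Y → Y → Prop}

theorem cov_conj (h : IsCov S adj T π A) (g : K) (h1 : ∀ x, x ∈ S → g * x * g⁻¹ ∈ S')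
    (h2 : ∀ x y, adj' (g * x * g⁻¹) (g * y * g⁻¹) ↔ adj x y)
    (h3 : ∀ x y z, T' (g * x * g⁻¹) (g * y * g⁻¹) (g * z * g⁻¹) → T x y z) :
    IsCov S' adj' T' (fun p => g * π p * g⁻¹) A :=
  ⟨fun a => h1 _ (h.mem a), h.symm, fun a b k => (h2 _ _).2 (h.map a b k), fun a x k => by
    obtain ⟨x, rfl⟩ := GE.cj_surj g x
    obtain ⟨b, b1, b2⟩ := h.lift a x ((h2 _ _).1 k)
    exact ⟨b, b1, by rw [b2]⟩, fun a b c k1 k2 e => h.uniq a b c k1 k2 ((conj_eq_iff _ _ _).1 e),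
    fun a b c k1 k2 t => h.tri a b c k1 k2 (h3 _ _ _ t), h.conn⟩

theorem comp_inj (SC : ∀ {Y : Type u} {p : Y → K} {A : Y → Y → Prop}, IsCov S adj T p A → Function.Injective p)
    (mem : ∀ a, π a ∈ S) (symm : ∀ a b, A a b → A b a) (map : ∀ a b, A a b → adj (π a) (π b))
    (lift : ∀ a x, adj (π a) x → ∃ b, A a b ∧ π b = x) (uniq : ∀ a b c, A a b → A a c → π b = π c → b = c)
    (tri : ∀ a b c, A a b → A a c → T (π a) (π b) (π c) → A b c) {a b : Y} (h : ReflTransGen A a b)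
    (e : π a = π b) : a = b := by
  have c : ∀ x (hx : ReflTransGen A a x), ReflTransGen (fun p q : {x // ReflTransGen A a x} => A p.1 q.1)
      ⟨a, .refl⟩ ⟨x, hx⟩ := fun x hx => by
    induction hx with
    | refl => exact .refl
    | tail h k ih => exact ih.tail k
  have C : IsCov S adj T (fun p : {x // ReflTransGen A a x} => π p.1) fun p q => A p.1 q.1 :=
    ⟨fun p => mem _, fun p q => symm _ _, fun p q => map _ _, fun p x k =>
      let ⟨b, b1, b2⟩ := lift _ x k; ⟨⟨b, p.2.tail b1⟩, b1, b2⟩,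
      fun p q r k1 k2 e => Subtype.ext (uniq _ _ _ k1 k2 e), fun p q r => tri _ _ _, fun p q =>
        (rtg_symm (fun p q => symm _ _) (c _ p.2)).trans (c _ q.2)⟩
  exact congrArg Subtype.val (SC C (a₁ := ⟨a, .refl⟩) (a₂ := ⟨b, h⟩) e)

/-- Paths inside the part over `P`. -/
def Rs (π : Y → K) (A : Y → Y → Prop) (P : K → Prop) : Y → Y → Prop :=
  ReflTransGen fun x y => A x y ∧ P (π x) ∧ P (π y)

variable {P Q : K → Prop} {p q r : Y}

theorem Rs.mono (h : Rs π A P p q) (k : ∀ x, P x → Q x) : Rs π A Q p q :=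
  rtg_map id (fun _ _ a => ⟨a.1, k _ a.2.1, k _ a.2.2⟩) h

theorem Rs.symm (H : IsCov S adj T π A) (h : Rs π A P p q) : Rs π A P q p :=
  rtg_symm (fun _ _ a => ⟨H.symm _ _ a.1, a.2.2, a.2.1⟩) h

theorem Rs.mem (h : Rs π A P p q) (hp : P (π p)) : P (π q) := by
  induction h with
  | refl => exact hp
  | tail _ k _ => exact k.2.2

theorem Rs.lift (H : IsCov S adj T π A) {z z' : K} (h : ReflTransGen (fun a b => adj a b ∧ P a ∧ P b) z z')
    (e : π p = z) : ∃ q, Rs π A P p q ∧ π q = z' := by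
  induction h with
  | refl => exact ⟨p, .refl, e⟩
  | tail _ k ih =>
    obtain ⟨q, q1, rfl⟩ := ih
    obtain ⟨r, r1, rfl⟩ := H.lift q _ k.1
    exact ⟨r, q1.tail ⟨r1, k.2⟩, rfl⟩

/-- Components over the members of a family form a cover of the index graph. -/
theorem level (H : IsCov S adj T π A) {I : Set K}
    (SC : ∀ {Y : Type u} {p : Y → K} {A : Y → Y → Prop}, IsCov I adj' T' p A → Function.Injective p)
    (F : K → K → Prop) (P0 : K → Prop) (hI : ∀ s s', adj' s s' → s' ∈ I) (sy : ∀ s s', adj' s s' → adj' s' s)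
    (hT : ∀ s a b, adj' s a → adj' s b → T' s a b → adj' a b ∧ ∃ z, F s z ∧ F a z ∧ F b z)
    (surj : ∀ s ∈ I, ∀ p z, F s (π p) → F s z → ∃ q, Rs π A (F s) p q ∧ π q = z)
    (ex2 : ∀ s s', adj' s s' → ∃ z, F s z ∧ F s' z)
    (U : ∀ s s' p q, adj' s s' → F s (π p) → F s' (π p) → F s' (π q) → Rs π A (F s) p q → Rs π A (F s') p q)
    (c1 : ∀ z, ∀ s ∈ I, ∀ s' ∈ I, F s z → F s' z → ReflTransGen (fun a b => adj' a b ∧ F a z ∧ F b z) s s')
    (c2 : ∀ z z', adj z z' → P0 z → P0 z' → ∃ s ∈ I, F s z ∧ F s z')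
    (h : Rs π A P0 p q) {s : K} (hs : s ∈ I) (hp : F s (π p)) (hq : F s (π q)) : Rs π A (F s) p q := by
  let Z := {x : K × Set Y // x.1 ∈ I ∧ ∃ p, F x.1 (π p) ∧ x.2 = {q | Rs π A (F x.1) p q}}
  let B : Z → Z → Prop := fun x y => adj' x.1.1 y.1.1 ∧ ∃ p ∈ x.1.2, p ∈ y.1.2
  let mk : ∀ s ∈ I, ∀ p, F s (π p) → Z := fun s hs p hp => ⟨(s, {q | Rs π A (F s) p q}), hs, p, hp, rfl⟩
  have m1 : ∀ (x : Z) p, p ∈ x.1.2 → F x.1.1 (π p) ∧ x.1.2 = {q | Rs π A (F x.1.1) p q} := by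
    intro x p hp
    obtain ⟨-, r, hr, e⟩ := x.2
    rw [e] at hp ⊢
    exact ⟨Rs.mem hp hr, Set.ext fun q => ⟨fun k => (Rs.symm H hp).trans k, fun k => ReflTransGen.trans hp k⟩⟩
  have ext : ∀ (x y : Z) p, x.1.1 = y.1.1 → p ∈ x.1.2 → p ∈ y.1.2 → x = y := fun x y p e a b =>
    Subtype.ext (Prod.ext e (by rw [(m1 x p a).2, (m1 y p b).2, e]))
  have mv : ∀ (x y : Z) p, B x y → p ∈ x.1.2 → F y.1.1 (π p) → p ∈ y.1.2 := by
    rintro x y p ⟨k, r, r1, r2⟩ a b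
    rw [(m1 y r r2).2]
    exact U _ _ r p k (m1 x r r1).1 (m1 y r r2).1 b (by rwa [(m1 x r r1).2] at a)
  have ov : ∀ (x : Z) z, F x.1.1 z → ∃ p ∈ x.1.2, π p = z := by
    intro x z hz
    obtain ⟨hs, r, hr, e⟩ := x.2
    rw [e]
    exact surj _ hs r z hr hz
  have w1 : ∀ p s hs s' hs' hp hp', ReflTransGen B (mk s hs p hp) (mk s' hs' p hp') := by
    intro p s hs s' hs' hp hp'
    have := c1 _ s hs s' hs' hp hp'
    induction this with
    | refl => exact .refl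
    | tail _ k ih => exact (ih (hI _ _ (sy _ _ k.1)) k.2.1).tail ⟨k.1, p, .refl, .refl⟩
  have w2 : ∀ s' hs' hq', ReflTransGen B (mk s hs p hp) (mk s' hs' q hq') := by
    clear hq
    induction h with
    | refl => exact fun s' hs' hq' => w1 _ _ hs _ hs' hp hq'
    | tail _ k ih =>
      intro s' hs' hq'
      obtain ⟨a, a1, a2, a3⟩ := c2 _ _ (H.map _ _ k.1) k.2.1 k.2.2
      refine (ih a a1 a2).trans ?_
      rw [ext (mk a a1 _ a2) (mk a a1 _ a3) _ rfl (ReflTransGen.single ⟨k.1, a2, a3⟩) ReflTransGen.refl]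
      exact w1 _ _ a1 _ hs' a3 hq'
  have e := comp_inj (π := fun x : Z => x.1.1) (A := B) SC (fun x => x.2.1)
    (fun x y k => ⟨sy _ _ k.1, let ⟨r, a, b⟩ := k.2; ⟨r, b, a⟩⟩) (fun x y k => k.1) (fun x s' k => by
      obtain ⟨z, z1, z2⟩ := ex2 _ _ k
      obtain ⟨r, r1, rfl⟩ := ov x z z1
      exact ⟨mk s' (hI _ _ k) r z2, ⟨k, r, r1, .refl⟩, rfl⟩) (fun x y z k1 k2 e => by
      obtain ⟨r, r1, r2⟩ := k1.2
      exact ext y z r e r2 (mv x z r k2 r1 (e ▸ (m1 y r r2).1))) (fun x y z k1 k2 t => by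
      obtain ⟨a, w, a1, a2, a3⟩ := hT _ _ _ k1.1 k2.1 t
      obtain ⟨r, r1, rfl⟩ := ov x w a1
      exact ⟨a, r, mv x y r k1 r1 a2, mv x z r k2 r1 a3⟩) (w2 s hs hq) rfl
  have : q ∈ (mk s hs q hq).1.2 := ReflTransGen.refl
  rwa [← e] at this

end Generic

variable {t s a b x z z' : K}

/-- Adjacency on the third vertices over `t, s`. -/
def adjR (t s a b : K) : Prop := a ∈ RR t s ∧ b ∈ RR t s ∧ b ∈ O1 a

theorem adjR_conj (ht : t ∈ DD) (hs : s ∈ O1 t) (g : K) :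
    adjR (g * t * g⁻¹) (g * s * g⁻¹) (g * a * g⁻¹) (g * b * g⁻¹) ↔ adjR t s a b := by
  simp only [adjR, mem_RR_conj g ht hs.1]
  exact and_congr_right fun h => and_congr_right fun _ => mem_O1_conj g h.1.1

theorem scR (ht : t ∈ DD) (hs : s ∈ O1 t) {Y : Type u} {π : Y → K} {A : Y → Y → Prop}
    (h : IsCov (RR t s) (adjR t s) (fun _ b c => adjR t s b c) π A) : Function.Injective π := by
  obtain ⟨g, g1, g2⟩ := O1_std0 ht hs
  have k : ∀ x y, adjE (g * x * g⁻¹) (g * y * g⁻¹) ↔ adjR t s x y := fun x y => by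
    rw [← adjR_conj ht hs g, g1, g2]; rfl
  exact Function.Injective.of_comp (f := fun x => g * x * g⁻¹) (SC_E (cov_conj h g (fun x hx => by
    rw [NN_eq, ← g1, ← g2]; exact (mem_RR_conj g ht hs.1).2 hx) k fun _ _ _ => (k _ _).1))

theorem wk_rtg {X : Type*} {R : X → X → Prop} {n : ℕ} {a b : X} (h : Wk R n a b) : ReflTransGen R a b := by
  induction h with
  | refl => exact .refl
  | step h _ ih => exact .head h ih

theorem connR (ht : t ∈ DD) (hs : s ∈ O1 t) (ha : a ∈ RR t s) (hb : b ∈ RR t s) :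
    ReflTransGen (adjR t s) a b := by
  obtain ⟨g, rfl, rfl, rfl⟩ := GE.std ht hs ha
  obtain ⟨b, rfl⟩ := GE.cj_surj g b
  exact rtg_map (fun x => g * x * g⁻¹) (fun _ _ h => (adjR_conj t0_mem s0_mem g).2 h)
    (wk_rtg (SCEH.wk4 y3_mem_NN ((GE.cj_NN g).1 hb)))

theorem inQ_line (h : adjZ a b) (hx : x ∈ DD) (h1 : InQ a x) (h2 : InQ b x) : InQ (a * b) x := by
  obtain ⟨g, g1, g2⟩ := adj_std h
  have k1 := h1.of_conj g1
  have k2 := h2.conj g
  have hy := conj_mem_DD g hx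
  rw [← inQ_conj g, conj_mul', g1]
  rw [g2] at k2 ⊢
  generalize g * x * g⁻¹ = y at k1 k2 hy
  rw [inQ_iff hy] at k2 ⊢
  have := GE.lm_zz hy k2.1 k1 (QK.mul_mem k1 (GE.tq_QK _ _)) (fun e => ne_one zs_mem (mul_eq_left.1 e.symm))
    fun e => adj_zs.2.1 (by
      rw [← mul_assoc, GE.QK_zz k1, mul_assoc, eq_comm, mul_eq_left, ← sq zz_mem_ZC] at e
      exact mul_left_cancel e)
  rw [← mul_assoc, ← GE.QK_zz k1, mul_assoc]
  exact ⟨this.1, this.2.trans k2.2⟩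

/-- Both `t` and `s` lie in the extraspecial group of `z`. -/
def Gm (t s z : K) : Prop := InQ z t ∧ InQ z s

theorem Gm.of_RR (ht : t ∈ DD) (hs : s ∈ O1 t) (ha : a ∈ RR t s) : Gm t s (t * s * a) :=
  ⟨(inQ_tri ht hs ha).1, (inQ_tri ht hs ha).2.1⟩

theorem Gm.RR (ht : t ∈ DD) (hs : s ∈ O1 t) (h : Gm t s z) : t * s * z ∈ RR t s := mem_RR ht hs h.1 h.2

theorem connE (ht : t ∈ DD) (hs : s ∈ O1 t) (h : Gm t s z) (h' : Gm t s z') :
    ReflTransGen (fun a b => adjZ a b ∧ Gm t s a ∧ Gm t s b) z z' := by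
  have := connR ht hs (h.RR ht hs) (h'.RR ht hs)
  rw [← cancel ht hs z, ← cancel ht hs z']
  generalize t * s * z' = b at this
  induction this with
  | refl => exact .refl
  | tail _ k ih =>
    obtain ⟨d, d1, d2, d3⟩ := F1 ht hs k.1 k.2.1 k.2.2
    exact (ih.tail ⟨adj_of_col ht hs k.1 d1 d2, .of_RR ht hs k.1, .of_RR ht hs d1⟩).tail
      ⟨symm (adj_of_col ht hs k.2.1 d1 d3), .of_RR ht hs d1, .of_RR ht hs k.2.1⟩

variable {Y : Type u} {π : Y → K} {A : Y → Y → Prop} (H : IsCov ZC adjZ (fun _ b c => adjZ b c) π A)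
  {p q q' r r' : Y}
include H

theorem move (h1 : A p r) (h2 : A r q) (h3 : A p r') (k1 : adjZ (π r) (π r')) (k2 : adjZ (π r') (π q)) :
    A r' q := H.tri r r' q (H.tri p r r' h1 h3 k1) h2 k2

theorem injE (ht : t ∈ DD) (hs : s ∈ O1 t) (hp : Gm t s (π p)) (h : Rs π A (Gm t s) p q) (e : π p = π q) :
    p = q := by
  let Z := {p : Y // Gm t s (π p)}
  let f : Z → K := fun p => t * s * π p.1
  let B : Z → Z → Prop := fun p q => adjR t s (f p) (f q) ∧ ∃ r : Z, A p.1 r.1 ∧ A r.1 q.1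
  have fm : ∀ p : Z, f p ∈ RR t s := fun p => p.2.RR ht hs
  have cf : ∀ p : Z, t * s * f p = π p.1 := fun p => cancel ht hs _
  have ad : ∀ {p q : Z}, lm (f p) (f q) = 0 → adjZ (π p.1) (π q.1) := fun {p q} k =>
    cf p ▸ cf q ▸ adj_of_col ht hs (fm p) (fm q) k
  have co : ∀ {p q : Z}, A p.1 q.1 → lm (f p) (f q) = 0 := fun {p q} k =>
    col_of_adj ht hs (fm p) (fm q) (by rw [cf, cf]; exact H.map _ _ k)
  have li : ∀ (p : Z) d, d ∈ RR t s → lm (f p) d = 0 → ∃ r : Z, A p.1 r.1 ∧ f r = d := fun p d hd k => by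
    obtain ⟨r, r1, r2⟩ := H.lift p.1 _ (cf p ▸ adj_of_col ht hs (fm p) hd k)
    exact ⟨⟨r, r2 ▸ .of_RR ht hs hd⟩, r1, by simp only [f, r2, cancel ht hs]⟩
  have sy : ∀ p q, B p q → B q p := fun p q k => ⟨⟨k.1.2.1, k.1.1, O1_symm k.1.1.1.1 k.1.2.2⟩,
    let ⟨r, a, b⟩ := k.2; ⟨r, H.symm _ _ b, H.symm _ _ a⟩⟩
  have all : ∀ {p q r : Z}, B p q → A p.1 r.1 → lm (f q) (f r) = 0 → A r.1 q.1 := by
    rintro p q r ⟨k, m, m1, m2⟩ a b
    have b' := ad (lm_symm _ _ ▸ b)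
    rcases F2 ht hs k.1 k.2.1 k.2.2 (fm m) (co m1) (co (H.symm _ _ m2)) (fm r) (co a) b with
      e | e | ⟨c, c1, c2, c3, c4, c5⟩
    · rwa [← H.uniq _ _ _ m1 a (mul_left_cancel e)]
    · exact move H m1 m2 a (ad e) b'
    · obtain ⟨n, n1, rfl⟩ := li p c c1 c2
      exact move H n1 (move H m1 m2 n1 (ad c4) (ad (lm_symm _ _ ▸ c3))) a (ad c5) b'
  have st : ∀ p q : Z, A p.1 q.1 → ReflTransGen B p q := fun p q k => by
    obtain ⟨a1, a2⟩ := adj_mul (H.map _ _ k)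
    obtain ⟨m, m1, m2⟩ := H.lift _ _ a1
    have m3 := H.tri _ _ _ k m1 (m2 ▸ a2)
    let m' : Z := ⟨m, m2 ▸ inQ_line (H.map _ _ k) ht p.2.1 q.2.1, m2 ▸ inQ_line (H.map _ _ k) hs.1 p.2.2 q.2.2⟩
    obtain ⟨x, x1, x2, x3, x4⟩ := F4 ht hs (fm m') (fm p) (co (p := m') (H.symm _ _ m1))
    obtain ⟨n, n1, rfl⟩ := li m' x x1 x2
    rw [cf, m2, mul_assoc, ← mul_assoc (π p.1), sq (H.mem _), one_mul] at x4
    exact .tail (.single ⟨⟨fm _, x1, x3⟩, m', m1, n1⟩) (sy _ _ ⟨⟨fm _, x1, x4⟩, m', m3, n1⟩)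
  have w : ∀ q (h : Rs π A (Gm t s) p q), ReflTransGen B ⟨p, hp⟩ ⟨q, h.mem hp⟩ := fun q h => by
    induction h with
    | refl => exact .refl
    | tail _ k ih => exact ih.trans (st _ _ k.1)
  refine congrArg Subtype.val (comp_inj (π := f) (A := B) (scR ht hs) fm sy (fun _ _ k => k.1) (fun p x k => ?_)
    (fun p q r k1 k2 e => ?_) (fun p q r k1 k2 k => ?_) (w q h) (congrArg (t * s * ·) e))
  · obtain ⟨d, d1, d2, d3⟩ := F1 ht hs k.1 k.2.1 k.2.2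
    obtain ⟨m, m1, rfl⟩ := li p d d1 d2
    obtain ⟨n, n1, rfl⟩ := li m x k.2.1 (lm_symm _ _ ▸ d3)
    exact ⟨n, ⟨k, m, m1, n1⟩, rfl⟩
  · obtain ⟨m, m1, m2⟩ := k1.2
    exact Subtype.ext (H.uniq _ _ _ m2 (all k2 m1 (e ▸ co (H.symm _ _ m2))) (mul_left_cancel e))
  · obtain ⟨d, d1, d2, d3, d4⟩ := F3 ht hs (fm p) (fm q) (fm r) k1.1.2.2 k2.1.2.2 k.2.2
    obtain ⟨m, m1, rfl⟩ := li p d d1 d2
    exact ⟨k, m, H.symm _ _ (all k1 m1 d3), all k2 m1 d4⟩

end Cfsg.Agent.Gr.ZH
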