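import Mathlib
import Cfsg.Agent.Gr.Am.ZE
import Cfsg.Agent.Gr.PCov

/-! The collinearity graph on the class of `zz` has no proper cover in which triangles lift. -/

set_option autoImplicit false

namespace Cfsg.Agent.Gr

open Relation Subgroup Cfsg.Agent.Spor Cfsg.Agent.Spor.Leech

universe u

namespace ZH

variable {t s s' a b x z z' : K}

/-- Adjacency on the neighbours of `t`. -/
def adjT (t a b : K) : Prop := a ∈ O1 t ∧ b ∈ RR t a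

theorem adjT_conj (ht : t ∈ DD) (g : K) :
    adjT (g * t * g⁻¹) (g * a * g⁻¹) (g * b * g⁻¹) ↔ adjT t a b := by
  simp only [adjT, mem_O1_conj g ht]
  exact and_congr_right fun h => mem_RR_conj g ht h.1

theorem adjT.symm (ht : t ∈ DD) (h : adjT t a b) : adjT t b a := ⟨h.2.1, RR_symm ht h.1 h.2⟩

theorem ex_t0 (ht : t ∈ DD) : ∃ g : K, g * t * g⁻¹ = t0 := isConj_iff.1 (IsConj.symm ht)

theorem scT (ht : t ∈ DD) {Y : Type u} {π : Y → K} {A : Y → Y → Prop}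
    (h : IsCov (O1 t) (adjT t) (fun _ b c => adjT t b c) π A) : Function.Injective π := by
  obtain ⟨g, g1⟩ := ex_t0 ht
  have k : ∀ x y, adjB (g * x * g⁻¹) (g * y * g⁻¹) ↔ adjT t x y := fun x y => by
    rw [← adjT_conj ht g, g1]; rfl
  exact Function.Injective.of_comp (f := fun x => g * x * g⁻¹) (SC_B (cov_conj h g (fun x hx => by
    rw [← g1]; exact (mem_O1_conj g ht).2 hx) k fun _ _ _ => (k _ _).1))

theorem connT (ht : t ∈ DD) (ha : a ∈ O1 t) (hb : b ∈ O1 t) (h : a ≠ t * b) : ReflTransGen (adjT t) a b := by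
  obtain ⟨g, g1⟩ := ex_t0 ht
  have := rtg_map (R' := adjT t) (fun x => g⁻¹ * x * g⁻¹⁻¹) (fun x y k => by
    rw [← cj_inv g t, g1]; exact (adjT_conj t0_mem _).2 k)
    (wk_rtg (SCBH.wk3 (g1 ▸ (mem_O1_conj g ht).2 ha) (g1 ▸ (mem_O1_conj g ht).2 hb) (by
      rwa [← g1, ← conj_mul', ne_eq, conj_eq_iff])))
  simpa only [cj_inv] using this

/-- The points whose extraspecial group contains `t` form a connected graph. -/
theorem connB (ht : t ∈ DD) (h : InQ z t) (h' : InQ z' t) :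
    ReflTransGen (fun a b => adjZ a b ∧ InQ a t ∧ InQ b t) z z' := by
  obtain ⟨s, s1, s2⟩ := ex_O1 ht h
  obtain ⟨r, r1, r2⟩ : ∃ r ∈ O1 t, InQ z' r ∧ s ≠ t * r := by
    obtain ⟨r, r1, r2⟩ := ex_O1 ht h'
    by_cases e : s = t * r
    · exact ⟨s, s1, e ▸ h'.mul r2, fun k => DD_ne_one ht (mul_eq_right.1 k.symm)⟩
    · exact ⟨r, r1, r2, e⟩
  have m : ∀ {s z z' : K}, s ∈ O1 t → Gm t s z → Gm t s z' →
      ReflTransGen (fun a b => adjZ a b ∧ InQ a t ∧ InQ b t) z z' := fun hs a b =>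
    rtg_map id (fun _ _ k => ⟨k.1, k.2.1.1, k.2.2.1⟩) (connE ht hs a b)
  have := connT ht s1 r1 r2.2
  have r3 := r2.1
  clear r2
  induction this generalizing z' with
  | refl => exact m s1 ⟨h, s2⟩ ⟨h', r3⟩
  | tail _ k ih =>
    obtain ⟨a1, a2, a3⟩ := inQ_tri ht k.1 k.2
    exact (ih a1 k.1 a2).trans (m r1 ⟨a1, a3⟩ ⟨h', r3⟩)

theorem c1B (ht : t ∈ DD) (hs : s ∈ O1 t) (hs' : s' ∈ O1 t) (h : Gm t s z) (h' : Gm t s' z) :
    ReflTransGen (fun a b => adjT t a b ∧ Gm t a z ∧ Gm t b z) s s' := by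
  have hz := ((inQ_iff ht).1 h.1).1
  obtain ⟨g, e1, e2⟩ := h.1
  obtain ⟨e, v, hv, k⟩ := exists_tq (conj_mem_DD g ht) e2
  have k' : g * (t * z) * g⁻¹ = tq (e + 1) (cls v) := by rw [conj_mul', e1, k, tq_mul_zz]
  have c := GM.conn_std hv (k ▸ (mem_O1_conj g ht).2 hs) (k' ▸ (mem_O1_conj g hz).2 (O1_of_inQ ht h.1 h.2 hs))
    (k ▸ (mem_O1_conj g ht).2 hs') (k' ▸ (mem_O1_conj g hz).2 (O1_of_inQ ht h.1 h'.2 hs'))
  have c' := rtg_map (R' := fun x y => x ∈ DD ∧ GM.St t (t * z) x y) (fun x => g⁻¹ * x * g⁻¹⁻¹) (fun x y q =>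
    ⟨conj_mem_DD _ q.1, by
      rw [← cj_inv g (t * z), k']
      nth_rewrite 1 [← cj_inv g t]
      rw [k]
      exact q.2.conj _ (tq_cls_mem _ hv) q.1⟩) c
  simp only [cj_inv] at c'
  clear c hs' h'
  suffices (s' ∈ O1 t ∧ Gm t s' z) ∧ ReflTransGen (fun a b => adjT t a b ∧ Gm t a z ∧ Gm t b z) s s' from this.2
  induction c' with
  | refl => exact ⟨⟨hs, h⟩, .refl⟩
  | tail _ q ih =>
    have a : Gm t _ z := ⟨h.1, inQ_of_O1 ht h.1 q.2.1.2 (O1_symm q.2.1.2.1 q.2.2.2.1)⟩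
    exact ⟨⟨q.2.1.2, a⟩, ih.2.tail ⟨⟨ih.1.1, q.2.1.2, q.2.2.1.1, q.2.2.1.2⟩, ih.1.2, a⟩⟩

theorem c2B (ht : t ∈ DD) (k : adjZ z z') (h : InQ z t) (h' : InQ z' t) : ∃ s ∈ O1 t, Gm t s z ∧ Gm t s z' := by
  have hz := ((inQ_iff ht).1 h').1
  obtain ⟨g, e1, e2⟩ := id h
  obtain ⟨e, v, hv, k1⟩ := exists_tq (conj_mem_DD g ht) e2
  obtain ⟨f, w, hw, k2⟩ := exists_tq (conj_mem_DD g hz) ((h.mul k.2.2).of_conj e1)
  obtain ⟨r, r1, r2, r3⟩ := ex_nbr hv hw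
  have a1 : g⁻¹ * tq 0 (cls r) * g⁻¹⁻¹ ∈ O1 t := by
    rw [← cj_inv g t, k1]; exact (mem_O1_conj _ (tq_cls_mem _ hv)).2 (GM.tq_O1 hv r1 r2)
  refine ⟨_, a1, ⟨h, g, e1, by simpa [mul_assoc] using GE.tq_QK _ _⟩, h', inQ_of_O1 ht h' a1 ?_⟩
  rw [← cj_inv g (t * z'), k2]
  exact (mem_O1_conj _ (tq_cls_mem _ hw)).2 ((GE.tq_O1 hw r1).2 r3)

theorem c1M (ht : t ∈ DD) (hs : s ∈ DD) (h : InQ z t) (h' : InQ z s) :
    ReflTransGen (fun a b => adjM a b ∧ InQ z a ∧ InQ z b) t s := by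
  obtain ⟨g, e1, e2⟩ := id h
  obtain ⟨e, v, hv, k1⟩ := exists_tq (conj_mem_DD g ht) e2
  obtain ⟨f, w, hw, k2⟩ := exists_tq (conj_mem_DD g hs) (h'.of_conj e1)
  obtain ⟨r, r1, r2, r3⟩ := ex_nbr hv hw
  have a1 : g⁻¹ * tq 0 (cls r) * g⁻¹⁻¹ ∈ O1 t := by
    rw [← cj_inv g t, k1]; exact (mem_O1_conj _ (tq_cls_mem _ hv)).2 (GM.tq_O1 hv r1 r2)
  have a2 : g⁻¹ * tq 0 (cls r) * g⁻¹⁻¹ ∈ O1 s := by
    rw [← cj_inv g s, k2]; exact (mem_O1_conj _ (tq_cls_mem _ hw)).2 ((GE.tq_O1 hw r1).2 r3)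
  have a3 : InQ z (g⁻¹ * tq 0 (cls r) * g⁻¹⁻¹) := ⟨g, e1, by simpa [mul_assoc] using GE.tq_QK _ _⟩
  exact .tail (.single ⟨⟨ht, a1⟩, h, a3⟩) ⟨⟨a1.1, O1_symm hs a2⟩, a3, h'⟩

theorem inQ_zs_t0 : InQ zs t0 := by
  have := (inQ_zz.2 t0_QK).conj tau
  rwa [tau_conj_zz, tau_t0, mul_inv_cancel_right] at this

theorem c2M (k : adjZ z z') : ∃ t ∈ DD, InQ z t ∧ InQ z' t := by
  obtain ⟨g, g1, g2⟩ := adj_std k
  refine ⟨g⁻¹ * t0 * g⁻¹⁻¹, conj_mem_DD _ t0_mem, ?_, ?_⟩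
  · rw [← cj_inv g z, g1]; exact (inQ_zz.2 t0_QK).conj _
  · rw [← cj_inv g z', g2]; exact inQ_zs_t0.conj _

variable {Y : Type u} {π : Y → K} {A : Y → Y → Prop} (H : IsCov ZC adjZ (fun _ b c => adjZ b c) π A)
  {p q : Y}
include H

theorem injB (ht : t ∈ DD) (hp : InQ (π p) t) (h : Rs π A (InQ · t) p q) (e : π p = π q) : p = q := by
  obtain ⟨s, s1, s2⟩ := ex_O1 ht hp
  refine injE H ht s1 ⟨hp, s2⟩ (level H (scT ht) (Gm t) (InQ · t) (fun _ _ k => k.2.1) (fun _ _ k => k.symm ht)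
    (fun s a b k1 k2 k => ⟨k, ?_⟩) (fun s hs p z a b => Rs.lift H (connE ht hs a b) rfl)
    (fun s a k => ⟨_, .of_RR ht k.1 k.2, (inQ_tri ht k.1 k.2).1, (inQ_tri ht k.1 k.2).2.2⟩)
    (fun s a p q k h1 h2 h3 h => ?_) (fun z s hs s' hs' => c1B ht hs hs') (fun z z' => c2B ht) h s1
    ⟨hp, s2⟩ (e ▸ ⟨hp, s2⟩)) e
  · obtain ⟨d, d1, d2, d3⟩ := F1 ht k1.1 k1.2 k2.2 k.2.2.1
    have g := Gm.of_RR ht k1.1 d1
    have : ∀ {a : K}, a ∈ RR t s → lm a d = 0 → InQ (t * s * d) a := fun ha k => by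
      have := (g.1.mul g.2).mul (symm (adj_of_col ht k1.1 ha d1 k)).2.2
      rwa [cancel ht k1.1] at this
    exact ⟨_, g, ⟨g.1, this k1.2 d2⟩, g.1, this k2.2 d3⟩
  · obtain ⟨a1, a2, a3⟩ := inQ_tri ht k.1 k.2
    have key : ∀ p, Gm t s (π p) → Gm t a (π p) → ∃ r, π r = t * s * a ∧ Rs π A (Gm t s) p r ∧
        Rs π A (Gm t a) p r := fun p h1 h2 => by
      by_cases e : t * s * a = π p
      · exact ⟨p, e.symm, .refl, .refl⟩
      obtain ⟨r, r1, r2⟩ := H.lift p _ ⟨a1.mem, e, (h1.1.mul h1.2).mul h2.2⟩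
      exact ⟨r, r2, .single ⟨r1, h1, r2 ▸ ⟨a1, a2⟩⟩, .single ⟨r1, h2, r2 ▸ ⟨a1, a3⟩⟩⟩
    obtain ⟨r, r1, r2, r3⟩ := key p h1 h2
    obtain ⟨r', r4, r5, r6⟩ := key q (h.mem h1) h3
    obtain rfl := injE H ht k.1 (r2.mem h1) (((r2.symm H).trans h).trans r5) (r1.trans r4.symm)
    exact r3.trans (r6.symm H)

theorem scZ : Function.Injective π := fun p q e => by
  obtain ⟨t, t1, t2⟩ := ex_DD (H.mem p)
  refine injB H t1 t2 (level H SC_M (fun t z => InQ z t) (fun _ => True) (fun _ _ k => k.2.1)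
    (fun _ _ k => ⟨k.2.1, O1_symm k.1 k.2⟩) (fun s a b k1 k2 k => ⟨⟨k1.2.1, k.1⟩, _,
      inQ_tri k1.1 k1.2 ⟨k2.2, k.1, k.2⟩⟩) (fun s hs p z a b => Rs.lift H (connB hs a b) rfl)
    (fun s a k => ?_) (fun s a p q k h1 h2 h3 h => ?_) (fun z s hs s' hs' => c1M hs hs')
    (fun z z' k _ _ => c2M k) (rtg_map id (fun _ _ k => ⟨k, trivial, trivial⟩) (H.conn p q)) t1 t2 (e ▸ t2)) e
  · obtain ⟨g, g1, g2⟩ := O1_std0 k.1 k.2
    have : g⁻¹ * y3 * g⁻¹⁻¹ ∈ RR s a := by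
      rw [← cj_inv g s, ← cj_inv g a, g1, g2]; exact (GE.cj_NN _).2 y3_mem_NN
    exact ⟨_, Gm.of_RR k.1 k.2 this⟩
  · obtain ⟨r, r1, r2⟩ := Rs.lift H (connE k.1 k.2 ⟨h1, h2⟩ ⟨h.mem h1, h3⟩) rfl
    obtain rfl := injB H k.1 (r2 ▸ h.mem h1) (((r1.mono fun _ k => k.1).symm H).trans h) r2
    exact r1.mono fun _ k => k.2

end ZH

/-- The extraspecial group of `zs`. -/
noncomputable abbrev Qs : Subgroup K := QK.map (MulAut.conj tau).toMonoidHom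

theorem inQ_zs {x : K} : InQ zs x ↔ x ∈ Qs := by
  constructor
  · intro h
    refine ⟨tau⁻¹ * x * tau⁻¹⁻¹, h.of_conj (by rw [zs, ← tau_conj_zz, ZH.cj_inv]), ?_⟩
    simp [mul_assoc]
  · rintro ⟨y, hy, rfl⟩
    have := (inQ_zz.2 hy).conj tau
    rwa [tau_conj_zz] at this

theorem SC_Z {X : Type*} [Group X] (π : X →* K) (C : Subgroup X) (n : X) (inj : ∀ c ∈ C, π c = 1 → c = 1)
    (map : C.map π = centralizer {zz}) (gen : closure (insert n C) = ⊤) (h1 : π n * zz * (π n)⁻¹ = zs)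
    (_h2 : π n * zs * (π n)⁻¹ = zz) (sq : n * n ∈ C) (uniq : ∀ h ∈ C, π h * zs = zs * π h → n⁻¹ * h * n ∈ C)
    (tri : ∀ h ∈ C, π h * zs * (π h)⁻¹ ∈ Qs → π h * zs * (π h)⁻¹ ≠ zs →
      ∃ a ∈ C, ∃ b ∈ C, n⁻¹ * h * n = a * n * b) : Function.Injective π := by
  have D : CovData ZC adjZ (fun _ b c => adjZ b c) π ⊤ C n zz :=
    ⟨gen.symm, fun g _ => (conj_mem_ZC _).2 zz_mem_ZC, fun g _ x y k => (adjZ_conj _).2 k,
      fun g _ x y z k => (adjZ_conj _).2 k, fun h hh => by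
        have : π h ∈ centralizer {zz} := map ▸ mem_map_of_mem π hh
        rw [mem_centralizer_singleton_iff.1 this, mul_inv_cancel_right], sq, h1 ▸ ZH.adj_zs, fun x k => by
        obtain ⟨g, g1, g2⟩ := ZH.adj_std0 k
        obtain ⟨h, hh, e⟩ : g⁻¹ ∈ C.map π := map ▸ inv_mem (mem_centralizer_singleton_iff.2 g1.symm)
        exact ⟨h, hh, by rw [h1, e, ← g2, ZH.cj_inv]⟩, fun h hh e => uniq h hh (by
        rwa [h1, mul_inv_eq_iff_eq_mul] at e), fun h hh k => by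
        rw [h1] at k
        exact tri h hh (inQ_zs.1 k.2.2) k.2.1⟩
  refine (injective_iff_map_eq_one π).2 fun x hx => inj x (D.mem_of_fix ZH.scZ (mem_top x) ?_) hx
  rw [hx, one_mul, inv_one, mul_one]

end Cfsg.Agent.Gr
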