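import Mathlib
import Cfsg.Agent.Gr.Rk.ThmL
import Cfsg.Agent.Spor.MB.Mod
import Cfsg.Agent.S0370

/-! The Golay code and cocode as modules for `M24` and for an element of order 23. -/

set_option autoImplicit false

namespace Cfsg.Agent.Gr.Am

open Matrix Finset Cfsg.Agent.Spor Cfsg.Agent.Spor.Leech Cfsg.Agent.Gr.Rk

abbrev v0 : LL := (om, 0)
def D0 (d : Cd) : Prop := d = 0 ∨ d = om
def Ev0 (w : LL) : Prop := w.2 ⬝ᵥ om = 0
def T0 (w : LL) : Prop := w = 0 ∨ w = v0

theorem D0.add {a b : Cd} (ha : D0 a) (hb : D0 b) : D0 (a + b) := by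
  rcases ha with rfl | rfl <;> rcases hb with rfl | rfl <;> simp [D0, cd_add_self]

theorem d0_zero : D0 0 := Or.inl rfl
theorem d0_om : D0 om := Or.inr rfl
theorem d0_self (a : Cd) : D0 (a + a) := Or.inl (cd_add_self a)

theorem d0_smul (a : ZMod 2) : D0 (a • om) := by
  rcases z2_cases a with rfl | rfl <;> simp [D0]

theorem D0.of_eq {a b : Cd} (ha : D0 a) (h : a = b) : D0 b := h ▸ ha

theorem d0_iff {d : Cd} : D0 d ↔ ∀ i j, wd d i + wd d j = 0 := by
  refine ⟨fun h i j => ?_, fun h => by_contra fun k => ?_⟩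
  · rcases h with rfl | rfl
    · simp
    · rw [wd_om]; exact z2_add_self _
  · obtain ⟨i, j, e⟩ := exists_wd_ne k
    exact absurd (e.symm.trans (h i j)) (by decide)

theorem T0.add {a b : LL} (ha : T0 a) (hb : T0 b) : T0 (a + b) := by
  rcases ha with rfl | rfl <;> rcases hb with rfl | rfl <;> simp [T0, cd_add_self]

theorem t0_zero : T0 0 := Or.inl rfl
theorem t0_v0 : T0 v0 := Or.inr rfl
theorem t0_self (a : LL) : T0 (a + a) := Or.inl (ll_add_self a)
theorem T0.of_eq {a b : LL} (ha : T0 a) (h : a = b) : T0 b := h ▸ ha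

theorem t0_iff {w : LL} : T0 w ↔ D0 w.1 ∧ w.2 = 0 := by
  refine ⟨fun h => ?_, fun h => ?_⟩
  · rcases h with rfl | rfl
    · exact ⟨d0_zero, rfl⟩
    · exact ⟨d0_om, rfl⟩
  · exact h.1.imp (fun k => Prod.ext k h.2) fun k => Prod.ext k h.2

theorem t0_smul (a : ZMod 2) : T0 (a • om, 0) := t0_iff.2 ⟨d0_smul a, rfl⟩

theorem T0.v12 {w : LL} (h : T0 w) : V12 w :=
  ⟨(t0_iff.1 h).1, by rw [(t0_iff.1 h).2, zero_dotProduct]⟩

theorem Ev0.add {a b : LL} (ha : Ev0 a) (hb : Ev0 b) : Ev0 (a + b) := by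
  unfold Ev0 at *; rw [Prod.snd_add, add_dotProduct, ha, hb, add_zero]

theorem ev0_iff {w : LL} : Ev0 w ↔ pol v0 w = 0 := by rw [pol_om, Ev0]

theorem ev0_add_of_not {a b : LL} (ha : ¬ Ev0 a) (hb : ¬ Ev0 b) : Ev0 (a + b) := by
  unfold Ev0 at *
  rw [Prod.snd_add, add_dotProduct, (z2_cases _).resolve_left ha, (z2_cases _).resolve_left hb]; rfl

theorem csm_v0 {g : Co0} (hg : g ∈ Mon) : csm g v0 = v0 := by simpa using csm_om hg 1

theorem ev0_csm {g : Co0} (hg : g ∈ Mon) {w : LL} : Ev0 (csm g w) ↔ Ev0 w := by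
  rw [ev0_iff, ev0_iff, ← pol_csm g v0 w, csm_v0 hg]

theorem T0.csm {g : Co0} (hg : g ∈ Mon) {w : LL} (h : T0 w) : csm g w = w := by
  rcases h with rfl | rfl
  · exact csm_zero g
  · exact csm_v0 hg

theorem v12_csm {g : Co0} (hg : g ∈ Mon) {w : LL} (h : V12 w) : V12 (csm g w) := by
  obtain ⟨e, σ, rfl⟩ := exists_mon hg
  obtain ⟨δ, hδ⟩ := sy_surjective w.2
  exact (h.csm_mon hδ.symm e σ).1

theorem ev0_twoC (e : Cd) : Ev0 (cls (twoC e)) := by rw [cls_twoC]; exact th_dot_om e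

theorem d0_twoC (e : Cd) : D0 ((cls (twoC e)).1 + e) := by
  rw [cls_twoC]; exact (d0_smul (q4 (wd e))).of_eq (by
    rw [add_right_comm, cd_add_self, zero_add])

/-! ### `M24` on the code -/

theorem pm_mem (σ : M24) (d : Cd) : pm σ (wd d) ∈ golayCode := MB.inv_golay σ.1 σ.2 _ (wd_mem d)

noncomputable def pc (σ : M24) (d : Cd) : Cd := (exists_wd (pm_mem σ d)).choose

theorem wd_pc (σ : M24) (d : Cd) : wd (pc σ d) = pm σ (wd d) := (exists_wd (pm_mem σ d)).choose_spec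

theorem pc_add (σ : M24) (d e : Cd) : pc σ (d + e) = pc σ d + pc σ e :=
  wd_injective (by rw [map_add, wd_pc, wd_pc, wd_pc, map_add, pm_add])

theorem pc_zero (σ : M24) : pc σ 0 = 0 := wd_injective (by rw [wd_pc, map_zero]; rfl)
theorem pc_om (σ : M24) : pc σ om = om := wd_injective (by rw [wd_pc, wd_om]; rfl)
theorem pc_one (d : Cd) : pc 1 d = d := wd_injective (by rw [wd_pc]; rfl)

theorem pc_mul (σ τ : M24) (d : Cd) : pc (σ * τ) d = pc σ (pc τ d) :=
  wd_injective (by rw [wd_pc, wd_pc, wd_pc]; rfl)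

theorem D0.pc {d : Cd} (h : D0 d) (σ : M24) : pc σ d = d := by
  rcases h with rfl | rfl
  · exact pc_zero σ
  · exact pc_om σ

theorem perm_sgC (σ : M24) (d : Cd) : perm σ * sgC d = sgC (pc σ d) * perm σ :=
  co0_ext fun v => Subtype.ext (funext fun p => by
    rw [mul_smul, mul_smul, perm_apply, sgC_apply, sgC_apply, wd_pc, perm_apply]; rfl)

theorem mon_conj (e d : Cd) (σ : M24) :
    sgC e * perm σ * sgC d * (sgC e * perm σ)⁻¹ = sgC (pc σ d) := by
  rw [mul_inv_eq_iff_eq_mul, mul_assoc, perm_sgC, ← mul_assoc, ← mul_assoc, ← sgC_add, ← sgC_add, add_comm]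

theorem sgC_pm {d : Cd} : sgC d = 1 ∨ sgC d = negOne ↔ D0 d := by
  rw [← sgC_zero, ← sgC_om, sgC_injective.eq_iff, sgC_injective.eq_iff, D0]

theorem mem_Sgn {g : Co0} : g ∈ MT.Sgn ↔ ∃ d, g = sgC d :=
  ⟨fun ⟨_, hc, h⟩ => let ⟨e, _, k⟩ := exists_sgC hc; ⟨e, h.trans k⟩, fun ⟨_, h⟩ => ⟨_, _, h⟩⟩

theorem mon_eq {a b : Cd} {σ τ : M24} (h : sgC a * perm σ = sgC b * perm τ) : a = b ∧ σ = τ := by
  have : σ = τ := by
    have := perm_eq (a := a) (b := 0) (c := b) (σ := σ) (τ := 1) (υ := τ) (by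
      rw [sgC_zero, map_one, mul_one, mul_one, h])
    rwa [mul_one] at this
  subst this
  exact ⟨sgC_injective (mul_right_cancel h), rfl⟩

theorem fst_csm {w : LL} (hw : Ev0 w) (e : Cd) (σ : M24) :
    D0 ((csm (sgC e * perm σ) w).1 + pc σ w.1) := d0_iff.2 fun i j => by
  obtain ⟨i, rfl⟩ := σ.1.surjective i
  obtain ⟨j, rfl⟩ := σ.1.surjective j
  have := wd_csm_mon hw e σ i j
  rw [map_add, wd_pc, Pi.add_apply, Pi.add_apply, pm_apply, pm_apply]
  linear_combination this + z2_add_self (wd w.1 i + wd w.1 j)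

theorem snd_csm {w : LL} (hw : V12 w) (e : Cd) (σ : M24) (d : Cd) :
    (csm (sgC e * perm σ) w).2 ⬝ᵥ pc σ d = w.2 ⬝ᵥ d := by
  obtain ⟨δ, hδ⟩ := sy_surjective w.2
  rw [(hw.csm_mon hδ.symm e σ).2, ← hδ, sy_dot, sy_dot, wd_pc]
  exact Equiv.sum_comp σ.1.symm fun p => δ p * wd d p

/-- A subset of a vector space over the field with two elements closed under addition. -/
def sub2 (U : Wd → Prop) (h0 : U 0) (ha : ∀ a b, U a → U b → U (a + b)) : Submodule (ZMod 2) Wd where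
  carrier := {a | U a}
  zero_mem' := h0
  add_mem' := ha _ _
  smul_mem' c a h := by
    rcases z2_cases c with rfl | rfl
    · rw [zero_smul]; exact h0
    · rw [one_smul]; exact h

theorem irr {U : Cd → Prop} (h0 : U 0) (ha : ∀ a b, U a → U b → U (a + b))
    (hi : ∀ σ a, U a → U (pc σ a)) {c : Cd} (hc : U c) (hn : ¬ D0 c) (a : Cd) : U a := by
  let W := sub2 (fun w => ∃ a, U a ∧ wd a = w) ⟨0, h0, map_zero _⟩ (by
    rintro _ _ ⟨a, h, rfl⟩ ⟨b, k, rfl⟩; exact ⟨a + b, ha _ _ h k, map_add _ _ _⟩)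
  have hW : MB.Inv W := by
    rintro σ hσ _ ⟨a, h, rfl⟩; exact ⟨pc ⟨σ, hσ⟩ a, hi _ _ h, wd_pc _ _⟩
  have hc' : wd c ∈ W := ⟨c, hc, rfl⟩
  rcases hW.cases_of_le (by rintro _ ⟨a, -, rfl⟩; exact wd_mem a) with e | e | e
  · rw [e, Submodule.mem_bot] at hc'
    exact (hn (Or.inl (wd_injective (hc'.trans (map_zero _).symm)))).elim
  · rw [e, Submodule.mem_span_singleton] at hc'
    obtain ⟨t, ht⟩ := hc'
    exact (hn (d0_iff.2 fun i j => by rw [← ht]; exact z2_add_self _)).elim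
  · obtain ⟨b, hb, e'⟩ : wd a ∈ W := e ▸ wd_mem a
    exact wd_injective e' ▸ hb

theorem even_ind {U : Wd → Prop} (h0 : U 0) (ha : ∀ a b, U a → U b → U (a + b))
    (h2 : ∀ i j, i ≠ j → U (e2 i j)) {δ : Wd} (h : ∑ p, δ p = 0) : U δ := by
  obtain ⟨n, hn⟩ := (MB.sum_eq_zero_iff δ).1 h
  have := MB.even_mem_of_duads (W := sub2 U h0 ha) (fun d hd => by
    obtain ⟨i, j, hij, rfl⟩ := Finset.card_eq_two.1 hd
    convert h2 i j hij using 1
    change U _ ↔ U _
    congr! 1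
    funext p
    rw [e2_apply, BinCode.ind]
    by_cases h1 : p = i <;> by_cases h2 : p = j <;> simp_all) n _ (hn.trans (two_mul n).symm)
  rwa [BinCode.ind_support] at this

theorem exists_e2 {i j : Pt} (h : i ≠ j) : ∃ e o, wd e * wd o = e2 i j := by
  have : ∃ o ∈ Oct, wd o i = 1 ∧ wd o j = 1 := by
    obtain ⟨o, hc, h8, hs⟩ := exists_octad_superset (s := {i, j}) (Finset.card_le_two.trans (by omega))
    obtain ⟨o, rfl⟩ := exists_wd_of_isCode hc
    exact ⟨o, mem_Oct.2 ((wt_eq_card _).trans h8), mem_supp.1 (hs (by simp)), mem_supp.1 (hs (by simp))⟩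
  obtain ⟨o, ho, h1, h2⟩ := this
  obtain ⟨e, he⟩ := exists_mul_eq ho (e2_mem_Ev h1 h2)
  exact ⟨e, o, he⟩

theorem d0_of_sy {c : Cd} (h : ∀ d, sy (wd c * wd d) = 0) : D0 c := d0_iff.2 fun i j => by
  by_cases hij : i = j
  · rw [hij]; exact z2_add_self _
  obtain ⟨e, o, k⟩ := exists_e2 hij
  rw [← e2_dot, ← k, mul_dot, mul_comm, dotProduct_comm, ← sy_dot, h, zero_dotProduct]

/-! ### The element of order 23 -/

def sh : M24 := ⟨Equiv.optionCongr (Equiv.addRight (1 : ZMod 23)), S0370.result⟩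

theorem sh_pow (k : ℕ) (p : Pt) : (sh ^ k).1 p = p.map (· + (k : ZMod 23)) := by
  induction k with
  | zero => cases p <;> simp
  | succ k ih =>
    rw [pow_succ', Subgroup.coe_mul, Equiv.Perm.mul_apply, ih]
    cases p <;> simp [sh, add_assoc]

theorem sh_23 : sh ^ 23 = 1 := Subtype.ext (Equiv.ext fun p => by
  rw [sh_pow, ZMod.natCast_self]; cases p <;> simp)

theorem sh_sq_ne : sh * sh ≠ 1 := fun h => by
  have := sh_pow 2 (some 0)
  rw [pow_two, h] at this
  exact absurd this (by decide)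

theorem pm_sh_pow (k : ℕ) (δ : Wd) : pm (sh ^ k) δ = fun p => δ (p.map (· - (k : ZMod 23))) :=
  funext fun p => by
    rw [← pm_apply (sh ^ k) δ (p.map (· - (k : ZMod 23))), sh_pow]
    cases p <;> simp

theorem sh_const {α : Type*} {f : Pt → α} (h : ∀ p, f (sh.1 p) = f p) (a : ZMod 23) :
    f (some a) = f (some 0) := by
  have : ∀ k : ℕ, f (some (k : ZMod 23)) = f (some 0) := fun k => by
    induction k with
    | zero => simp
    | succ k ih => rw [← ih, ← h (some (k : ZMod 23))]; simp [sh]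
  simpa using this a.val

theorem fix_sh {d : Cd} (h : D0 (pc sh d + d)) : D0 d := by
  have h1 : ∀ p, wd d (sh.1 p) = wd d p := fun p => by
    have := d0_iff.1 h (sh.1 p) (sh.1 none)
    rw [map_add, wd_pc, Pi.add_apply, Pi.add_apply, pm_apply, pm_apply,
      show sh.1 none = none from rfl, z2_add_self, add_zero] at this
    exact (z2_eq_of_add this).symm
  have h2 := sum_wd d
  rw [Fintype.sum_option, Finset.sum_congr rfl fun a _ => sh_const h1 a, Finset.sum_const,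
    show (univ : Finset (ZMod 23)).card = 23 from rfl, nsmul_eq_mul,
    show ((23 : ℕ) : ZMod 2) = 1 from rfl, one_mul] at h2
  have h3 : ∀ p, wd d p = wd d (some 0) := fun p => by
    cases p with
    | none => exact z2_eq_of_add h2
    | some a => exact sh_const h1 a
  exact d0_iff.2 fun i j => by rw [h3 i, h3 j, z2_add_self]

/-- The non-residues modulo 23. -/
def NR : Finset ℕ := {5, 7, 10, 11, 14, 15, 17, 19, 20, 21, 22}

theorem idem1 : ∀ (k : Fin 12) (p : Pt), ∑ i ∈ NR, bs k (p.map (· - (i : ZMod 23))) + bs k p =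
    ∑ i ∈ NR, bs k none + bs k none := by decide +kernel

theorem idem2 : ∀ (k : Fin 12) (p : Pt), ∑ i ∈ NR, bs k (p.map (· - ((23 - i : ℕ) : ZMod 23))) =
    ∑ i ∈ NR, bs k none := by decide +kernel

theorem cd_ind {U : Cd → Prop} (h0 : U 0) (ha : ∀ a b, U a → U b → U (a + b))
    (h : ∀ k, U (Pi.single k 1)) (d : Cd) : U d := by
  rw [← Finset.univ_sum_single d]
  refine Finset.sum_induction _ U ha h0 fun k _ => ?_
  rcases z2_cases (d k) with e | e <;> rw [e]
  · rwa [Pi.single_zero]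
  · exact h k

theorem d0_idem1 (d : Cd) : D0 (∑ i ∈ NR, pc (sh ^ i) d + d) := by
  refine cd_ind (U := fun d => D0 (∑ i ∈ NR, pc (sh ^ i) d + d)) (by simp [pc_zero, d0_zero])
    (fun a b ha hb => (ha.add hb).of_eq (by simp only [pc_add, Finset.sum_add_distrib]; abel))
    (fun k => d0_iff.2 fun i j => ?_) d
  simp only [map_add, map_sum, wd_pc, wd_single, pm_sh_pow, Pi.add_apply, Finset.sum_apply]
  rw [idem1, idem1, z2_add_self]

theorem d0_idem2 (d : Cd) : D0 (∑ i ∈ NR, pc (sh ^ (23 - i)) d) := by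
  refine cd_ind (U := fun d => D0 (∑ i ∈ NR, pc (sh ^ (23 - i)) d)) (by simp [pc_zero, d0_zero])
    (fun a b ha hb => (ha.add hb).of_eq (by simp only [pc_add, Finset.sum_add_distrib]))
    (fun k => d0_iff.2 fun i j => ?_) d
  simp only [map_sum, wd_pc, wd_single, pm_sh_pow, Finset.sum_apply]
  rw [idem2, idem2, z2_add_self]

/-! ### Schur's lemma for the code modulo the all-one word -/

def m11 : M24 := ⟨Equiv.optionCongr ⟨fun x : ZMod 23 => 2 * x, fun x => 12 * x, by decide, by decide⟩, by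
  rw [Golay.mem_M24_iff_basis]
  simp only [Golay.mem_golay_iff]
  decide +kernel⟩

def w11 (a b c d : ZMod 2) : Wd := fun p => match p with
  | none => a
  | some x => if x = 0 then b else if x ^ 11 = 1 then c else d

theorem w11_code : ∀ a b c d : ZMod 2, (∀ k, w11 a b c d ⬝ᵥ bs k = 0) → a = b ∧ b = c ∧ c = d ∨
    a = d ∧ b = c ∧ a = b + 1 := by decide +kernel

theorem w11_mem : ∀ k, w11 1 0 0 1 ⬝ᵥ bs k = 0 := by decide +kernel

theorem exists_d11 : ∃ c : Cd, ¬ D0 c ∧ pc m11 c = c ∧ ∀ b, D0 (pc m11 b + b) → D0 b ∨ D0 (c + b) := by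
  obtain ⟨c, hc⟩ := exists_wd (sy_eq_zero_iff.1 (funext w11_mem))
  refine ⟨c, fun h => absurd (d0_iff.1 h none (some 0)) (by rw [hc]; decide),
    wd_injective ?_, fun b h => ?_⟩
  · rw [wd_pc, hc]; decide +kernel
  have h1 : ∀ x : ZMod 23, wd b (some (2 * x)) = wd b (some x) := fun x => by
    have := d0_iff.1 h (m11.1 (some x)) (m11.1 none)
    rw [map_add, wd_pc, Pi.add_apply, Pi.add_apply, pm_apply, pm_apply,
      show m11.1 none = none from rfl, z2_add_self, add_zero] at this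
    exact (z2_eq_of_add this).symm
  have h2 : ∀ (k : ℕ) (x : ZMod 23), wd b (some (2 ^ k * x)) = wd b (some x) := fun k x => by
    induction k with
    | zero => rw [pow_zero, one_mul]
    | succ k ih => rw [pow_succ', mul_assoc, h1, ih]
  have h3 : wd b = w11 (wd b none) (wd b (some 0)) (wd b (some 1)) (wd b (some 5)) := funext fun p => by
    cases p with
    | none => rfl
    | some x =>
      have : ∀ x : ZMod 23, x = 0 ∨ (x ≠ 0 ∧ x ^ 11 = 1 ∧ ∃ k < 11, x = 2 ^ k * 1) ∨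
          (x ≠ 0 ∧ x ^ 11 ≠ 1 ∧ ∃ k < 11, x = 2 ^ k * 5) := by decide +kernel
      rcases this x with rfl | ⟨a, b, k, -, e⟩ | ⟨a, b, k, -, e⟩
      · rfl
      · rw [w11, if_neg a, if_pos b, e, h2]
      · rw [w11, if_neg a, if_neg b, e, h2]
  rw [d0_iff, d0_iff, map_add, hc, h3]
  have h4 := w11_code _ _ _ _ fun k => h3 ▸ congrFun (sy_wd b) k
  generalize wd b none = x, wd b (some 0) = y, wd b (some 1) = z, wd b (some 5) = t at h4
  rcases h4 with ⟨rfl, rfl, rfl⟩ | ⟨rfl, rfl, rfl⟩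
  · left; revert x; decide +kernel
  · right; revert y; decide +kernel

theorem schur {F : Cd → Cd → Prop} (ha : ∀ a b c d, F a b → F c d → F (a + c) (b + d))
    (sat : ∀ a b, D0 a → D0 b → F a b) (tot : ∀ a, ∃ b, F a b) (fn : ∀ b, F 0 b → D0 b)
    (hi : ∀ σ a b, F a b → F (pc σ a) (pc σ b)) :
    (∀ a b, F a b → D0 b) ∨ ∀ a b, F a b → D0 (a + b) := by
  obtain ⟨c, hc, h1, h2⟩ := exists_d11
  obtain ⟨b, hb⟩ := tot c
  have h3 := ha _ _ _ _ (hi m11 _ _ hb) hb
  rw [h1, cd_add_self] at h3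
  refine (h2 b (fn _ h3)).imp (fun h a b' k => ?_) fun h a b' k => ?_
  · have := irr (U := fun a => F a 0) (sat _ _ d0_zero d0_zero)
      (fun a b h k => by simpa using ha _ _ _ _ h k) (fun σ a h => by simpa [pc_zero] using hi σ _ _ h)
      (by simpa [cd_add_self] using ha _ _ _ _ hb (sat _ _ d0_zero h)) hc a
    exact fn _ (by simpa [cd_add_self] using ha _ _ _ _ this k)
  · have := irr (U := fun a => F a a) (sat _ _ d0_zero d0_zero) (fun a b h k => ha _ _ _ _ h k)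
      (fun σ a h => hi σ _ _ h) (c := c) (by
        have := ha _ _ _ _ hb (sat _ _ d0_zero h)
        rwa [add_zero, add_left_comm, cd_add_self, add_zero] at this) hc a
    exact fn _ (by simpa [cd_add_self] using ha _ _ _ _ this k)

end Cfsg.Agent.Gr.Am
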