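import Mathlib

/-! Counting fixed points of elements of prime order. -/

set_option autoImplicit false

namespace Cfsg.Agent.Gr.Am

open Subgroup

theorem card_fix {α : Type*} [Finite α] {p : ℕ} [Fact p.Prime] (f : α → α) (hf : ∀ a, f^[p] a = a) :
    Nat.card α ≡ Nat.card {a // f a = a} [MOD p] := by
  classical
  have := Fintype.ofFinite α
  let f' : Function.End α := f
  have h : ∀ k : ℕ, f' ^ k = f^[k] := fun k => by
    induction k with
    | zero => rfl
    | succ k ih => rw [pow_succ, ih]; rfl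
  have := Equiv.Perm.card_fixedPoints_modEq (f := f') (p := p) (n := 1) (by
    rw [pow_one, h]; exact funext hf)
  rwa [← Nat.card_eq_fintype_card, ← Nat.card_eq_fintype_card] at this

variable {G : Type*} [Group G]

theorem exists_conj {O : Subgroup G} [Finite O] {p : ℕ} [Fact p.Prime]
    (hp : ¬ p ∣ Nat.card O) {g g' : G} (h1 : g ^ p = 1) (h2 : g' ^ p = 1) (h3 : g' * g⁻¹ ∈ O)
    (h4 : ∀ o ∈ O, g * o * g⁻¹ ∈ O) : ∃ o ∈ O, o * g' * o⁻¹ = g := by
  let τ : O → O := fun o => ⟨g' * o * g⁻¹, by simpa [mul_assoc] using mul_mem h3 (h4 _ o.2)⟩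
  have h5 : ∀ (k : ℕ) (o : O), (τ^[k] o : G) = g' ^ k * o * (g ^ k)⁻¹ := fun k o => by
    induction k with
    | zero => simp
    | succ k ih =>
      rw [Function.iterate_succ_apply', pow_succ', pow_succ']
      change g' * (τ^[k] o : G) * g⁻¹ = _
      rw [ih]; group
  have := card_fix (p := p) τ fun o => Subtype.ext (by rw [h5, h1, h2]; simp)
  obtain ⟨o, ho⟩ : Nonempty {o // τ o = o} := (Nat.card_pos_iff.1 (pos_iff_ne_zero.2 fun e =>
    hp (Nat.modEq_zero_iff_dvd.1 (e ▸ this)))).1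
  have : g' * o * g⁻¹ = o := congrArg Subtype.val ho
  exact ⟨o⁻¹, inv_mem o.2, by rw [inv_inv, mul_assoc, mul_inv_eq_iff_eq_mul.1 this, inv_mul_cancel_left]⟩

theorem card_cent {S : Subgroup G} [Finite S] {p : ℕ} [Fact p.Prime] {x : G} (h1 : x ^ p = 1)
    (h2 : ∀ s ∈ S, x * s * x⁻¹ ∈ S) : Nat.card S ≡ Nat.card ↥(S ⊓ centralizer {x}) [MOD p] := by
  let τ : S → S := fun o => ⟨x * o * x⁻¹, h2 _ o.2⟩
  have h5 : ∀ (k : ℕ) (o : S), (τ^[k] o : G) = x ^ k * o * (x ^ k)⁻¹ := fun k o => by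
    induction k with
    | zero => simp
    | succ k ih =>
      rw [Function.iterate_succ_apply', pow_succ']
      change x * (τ^[k] o : G) * x⁻¹ = _
      rw [ih]; group
  refine (card_fix (p := p) τ fun o => Subtype.ext (by rw [h5, h1]; simp)).trans (Eq.subst (motive := fun n => _ ≡ n [MOD p]) ?_ (Nat.ModEq.refl _))
  exact Nat.card_congr ⟨fun a => ⟨a.1, a.1.2, mem_centralizer_singleton_iff.2
      (mul_inv_eq_iff_eq_mul.1 (congrArg Subtype.val a.2)).symm⟩,
    fun a => ⟨⟨a, a.2.1⟩, Subtype.ext (mul_inv_eq_iff_eq_mul.2 (mem_centralizer_singleton_iff.1 a.2.2).symm)⟩,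
    fun _ => rfl, fun _ => rfl⟩

/-- An invariant subgroup containing the fixed points has index congruent to one. -/
theorem relIndex_modEq {S B : Subgroup G} [Finite S] {p : ℕ} [hp : Fact p.Prime] (h0 : ¬ p ∣ Nat.card S) {x : G}
    (h1 : x ^ p = 1) (hB : B ≤ S) (h2 : ∀ s ∈ S, x * s * x⁻¹ ∈ S) (h3 : ∀ s ∈ B, x * s * x⁻¹ ∈ B)
    (h4 : ∀ s ∈ S, s * x = x * s → s ∈ B) : B.relIndex S ≡ 1 [MOD p] := by
  have : Finite B := Finite.of_injective _ (inclusion_injective hB)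
  have h5 : S ⊓ centralizer {x} = B ⊓ centralizer {x} := le_antisymm
    (fun s h => ⟨h4 s h.1 (mem_centralizer_singleton_iff.1 h.2), h.2⟩) (inf_le_inf_right _ hB)
  have h6 := (card_cent h1 h2).trans (h5 ▸ (card_cent h1 h3).symm)
  have h7 : B.relIndex S * Nat.card B = Nat.card S := by
    rw [← relIndex_bot_left, ← relIndex_bot_left, mul_comm, relIndex_mul_relIndex _ _ _ bot_le hB]
  refine Nat.ModEq.cancel_right_of_coprime (c := Nat.card B) ?_ (by rwa [h7, one_mul])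
  exact (hp.out.coprime_iff_not_dvd).2 fun h => h0 (h7 ▸ h.mul_left _)

theorem cent_step {S B : Subgroup G} [Finite S] (h0 : IsPGroup 2 S) (hB : B ≤ S) (hi : B.relIndex S = 2 ^ 11)
    {x y : G} (x3 : x ^ 3 = 1) (y23 : y ^ 23 = 1) (xy : x * y = y * x) (h1 : ∀ s ∈ S, x * s * x⁻¹ ∈ S)
    (h2 : ∀ s ∈ S, y * s * y⁻¹ ∈ S) (h3 : ∀ s ∈ B, y * s * y⁻¹ ∈ B) (h4 : ∀ s ∈ S, s * y = y * s → s ∈ B)
    (h5 : ∀ s ∈ B, s * x = x * s) : ∀ s ∈ S, s * x = x * s := by
  have : Fact (Nat.Prime 3) := ⟨by norm_num⟩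
  have : Fact (Nat.Prime 23) := ⟨by norm_num⟩
  have : Finite ↥(S ⊓ centralizer {x}) := Finite.of_injective _ (inclusion_injective inf_le_left)
  have hle : B ≤ S ⊓ centralizer {x} := fun s h => ⟨hB h, mem_centralizer_singleton_iff.2 (h5 s h)⟩
  have nd : ∀ {q : ℕ} {A : Subgroup G} [Finite A], q.Prime → q ≠ 2 → A ≤ S → ¬ q ∣ Nat.card A :=
    fun hq h2 hA h => by
      obtain ⟨n, hn⟩ := IsPGroup.iff_card.1 (h0.to_le hA)
      exact h2 ((Nat.prime_dvd_prime_iff_eq hq Nat.prime_two).1 (hq.dvd_of_dvd_pow (hn ▸ h)))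
  have a1 := relIndex_modEq (nd (by norm_num) (by norm_num) inf_le_left) y23 hle (fun s h => ⟨h2 s h.1,
    mem_centralizer_singleton_iff.2 (by
      have := mem_centralizer_singleton_iff.1 h.2
      calc _ = y * s * (x * y⁻¹) := by rw [mul_assoc, (show Commute x y from xy).inv_right.eq]
        _ = y * (s * x) * y⁻¹ := by group
        _ = _ := by rw [this, ← mul_assoc, ← xy]; group)⟩) h3 fun s h => h4 s h.1
  have a2 := relIndex_modEq (nd (by norm_num) (by norm_num) le_rfl) x3 (B := S ⊓ centralizer {x}) inf_le_left h1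
    (fun s h => by rw [← mem_centralizer_singleton_iff.1 h.2, mul_inv_cancel_right]; exact h)
    fun s h k => ⟨h, mem_centralizer_singleton_iff.2 k⟩
  have a3 := (relIndex_mul_relIndex _ _ _ hle inf_le_left).trans hi
  obtain ⟨k, hk, e⟩ := (Nat.dvd_prime_pow Nat.prime_two).1 (Dvd.intro _ a3)
  rw [e] at a1 a3
  have : k = 0 ∨ k = 11 := by interval_cases k <;> simp_all [Nat.ModEq]
  rcases this with rfl | rfl
  · rw [pow_zero, one_mul] at a3
    rw [a3] at a2
    exact absurd a2 (by decide)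
  · have : S ≤ S ⊓ centralizer {x} := relIndex_eq_one.1 (by omega)
    exact fun s h => mem_centralizer_singleton_iff.1 (this h).2

end Cfsg.Agent.Gr.Am
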