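import Mathlib
import Cfsg.Agent.Inv.G168Sub

/-! The two parabolic subgroups of the simple group of order 168. -/

set_option autoImplicit false

namespace Cfsg.Agent.Gr.Am

open Cfsg.Agent.Inv.G168 Subgroup

/-- Facts on two subgroups of index seven. -/
structure T4 {A : Type*} [Group A] (a b : Subgroup A) : Prop where
  top : a ⊔ b = ⊤
  two : ∃ u ∈ a, u ∈ b ∧ ∃ g ∈ a, (u * (g * u * g⁻¹)) ^ 3 = 1 ∧ u * (g * u * g⁻¹) ≠ 1
  three : ∀ x ∈ b, x ∉ a → x * x * x = 1 → ∃ p ∈ b, p * x * p⁻¹ ≠ x ∧ p * x * p⁻¹ ≠ x⁻¹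
  dc : ∃ t ∈ b, t ∉ a ∧ ∃ c ∈ a, c ∉ b ∧ ∃ d ∈ a, (d * t)⁻¹ * (t⁻¹ * c * t) ∈ a

theorem N_sup : N1 ⊔ N2 = ⊤ := (isCoatom_of_card card_N1).2 _ (lt_of_le_of_ne le_sup_left fun h => by
  obtain ⟨x, h1, h2⟩ : ∃ x : T, x ∈ N2 ∧ x ∉ N1 := by decide +kernel
  exact h2 (h ▸ mem_sup_right h1))

theorem t4_12 : T4 N1 N2 := ⟨N_sup, by decide +kernel, by decide +kernel, by decide +kernel⟩

theorem t4_21 : T4 N2 N1 := ⟨sup_comm N1 N2 ▸ N_sup, by decide +kernel, by decide +kernel, by decide +kernel⟩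

theorem over_P2 {M : Subgroup T} (h : P2 ≤ M) (hc : Nat.card M = 24) : M = N1 ∨ M = N2 := by
  have k : ∀ x : T, x ∈ N1 ∨ x ∈ N2 ∨ ∃ p : T, p ∈ P2 ∧ ord (x * p) = 7 := by decide +kernel
  have k' : ∀ x ∈ M, x ∈ N1 ∨ x ∈ N2 := fun x hx => (or_assoc.2 (k x)).resolve_right fun ⟨p, hp, e⟩ => by
    have := orderOf_dvd_natCard M (mul_mem hx (h hp))
    rw [orderOf_eq, e, hc] at this
    omega
  by_cases h1 : M ≤ N1
  · exact Or.inl (eq_of_le_of_card_ge h1 (by rw [hc, card_N1]))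
  obtain ⟨y, y1, y2⟩ := SetLike.not_le_iff_exists.1 h1
  have y3 := (k' y y1).resolve_left y2
  refine Or.inr (eq_of_le_of_card_ge (fun x hx => (k' x hx).elim (fun x1 => ?_) id) (by rw [hc, card_N2]))
  exact (k' _ (mul_mem hx y1)).elim (fun u => (y2 ((mul_mem_cancel_left x1).1 u)).elim)
    (mul_mem_cancel_right y3).1

theorem exists_t4 {A : Type*} [Group A] [Finite A] [IsSimpleGroup A] (h : Nat.card A = 168) {a b : Subgroup A}
    (ha : a.index = 7) (hb : b.index = 7) (hab : (a ⊓ b).index = 21) :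
    ∃ e : A ≃* T, T4 (a.map e.toMonoidHom) (b.map e.toMonoidHom) := by
  have c : ∀ (s : Subgroup A) {n : ℕ}, s.index = n → Nat.card s * n = 168 := fun s n e => by
    rw [← e, card_mul_index, h]
  have c1 := c _ ha
  have c2 := c _ hb
  have c3 := c _ hab
  obtain ⟨e, he⟩ := exists_equiv_sylow h (Sylow.ofCard (a ⊓ b) (by rw [h, fact_two]; omega))
  have le : ∀ {s : Subgroup A}, a ⊓ b ≤ s → Nat.card s * 7 = 168 →
      s.map e.toMonoidHom = N1 ∨ s.map e.toMonoidHom = N2 := fun hs k => over_P2 (fun x hx =>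
    ⟨e.symm x, hs (he.ge (by simpa using hx)), by simp⟩) (by rw [card_map_of_injective e.injective]; omega)
  have ne : a.map e.toMonoidHom ≠ b.map e.toMonoidHom := fun u => by
    rw [map_injective e.injective u, inf_idem] at c3
    omega
  refine ⟨e, ?_⟩
  rcases le inf_le_left c1 with u | u <;> rcases le inf_le_right c2 with v | v
  exacts [(ne (u.trans v.symm)).elim, u ▸ v ▸ t4_12, u ▸ v ▸ t4_21, (ne (u.trans v.symm)).elim]

end Cfsg.Agent.Gr.Am
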