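import Mathlib
import Cfsg.Agent.Gr.Am.L168
import Cfsg.Agent.Gr.Am.Cnt
import Cfsg.Agent.Spor.MTM24
import Cfsg.Agent.Spor.MB.Classes
import Cfsg.Agent.Spor.LF.Eight
import Cfsg.Agent.GT.Cores

/-! The third member of the amalgam. -/

set_option autoImplicit false

namespace Cfsg.Agent.Gr.Am

open Cfsg.Agent.Spor Cfsg.Agent.Inv.G168 Subgroup

theorem nle {G : Type*} [Group G] [Finite G] {M P : Subgroup G} [M.Normal]
    (h : (Nat.card M).Coprime P.index) : M ≤ P := by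
  have h1 := relIndex_mul_relIndex (P ⊓ M) M (P ⊔ M) inf_le_right le_sup_right
  have h2 := relIndex_mul_relIndex (P ⊓ M) P (P ⊔ M) inf_le_left le_sup_left
  rw [relIndex_sup_right, inf_relIndex_right, ← h2, inf_relIndex_left, mul_comm] at h1
  have h3 := Nat.eq_of_mul_eq_mul_left (Nat.pos_of_ne_zero (M.subgroupOf P).index_ne_zero_of_finite) h1
  exact relIndex_eq_one.1 (Nat.eq_one_of_dvd_coprimes h (relIndex_dvd_card _ _)
    (h3 ▸ relIndex_dvd_index_of_le le_sup_left))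

theorem one_of_three {G : Type*} [Group G] {w : G} (h : w ^ 3 = 1) {k : ℕ} (h' : w ^ 2 ^ k = 1) : w = 1 := by
  have := pow_gcd_eq_one.2 ⟨h, h'⟩
  rwa [Nat.Coprime.gcd_eq_one (Nat.Coprime.pow_right k (by norm_num)), pow_one] at this

theorem cent3 {σ : M24} (h : σ ^ 3 = 1) (h1 : σ ≠ 1) : Nat.card (centralizer {σ}) ≤ 1080 := by
  have : Fact (Nat.Prime 3) := ⟨by norm_num⟩
  have o : orderOf σ.1 = 3 := (orderOf_coe σ).trans (orderOf_eq_prime h h1)
  have key : ∀ {s k : MB.PG}, k ∈ M24 → k * s * k⁻¹ = σ.1 →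
      Nat.card (centralizer {σ}) ≤ Nat.card (MT.Cen s []) := fun {s k} hk e =>
    Nat.card_le_card_of_injective (fun c => ⟨k⁻¹ * c.1.1 * k, MT.mem_Cen.2
      ⟨⟨mul_mem (mul_mem (inv_mem hk) c.1.2) hk, by simp⟩, by
        have : c.1.1 * σ.1 = σ.1 * c.1.1 := congrArg Subtype.val (mem_centralizer_singleton_iff.1 c.2)
        calc _ = k⁻¹ * (c.1.1 * (k * s * k⁻¹)) * k := by group
          _ = k⁻¹ * (k * s * k⁻¹ * c.1.1) * k := by rw [e, this]
          _ = _ := by group⟩⟩)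
      fun a b u => Subtype.ext (Subtype.ext (by simpa using u))
  by_cases c : (MB.fixSet σ.1).card = 0
  · obtain ⟨k, hk, e⟩ := MB.conj_tB_of_card σ.2 o (by omega)
    exact (key hk e).trans (MT.card_Cen_tB.trans (by norm_num))
  · obtain ⟨k, hk, e⟩ := MB.conj_tA_of_card σ.2 o c
    exact (key hk e).trans MT.card_Cen_tA

variable {L A B : Type*} [Group L] [Group A] [Group B]

/-- The structure of the third member modulo its largest normal 2-subgroup. -/
structure LD (α : L →* A) (β : L →* B) (Z : Subgroup B) (t : B) : Prop where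
  surj : ∀ a b, ∃ l, α l = a ∧ β l = b
  two : IsPGroup 2 (α.prod β).ker
  core : ∀ E : Subgroup B, E.Normal → IsPGroup 2 E → E = ⊥
  cardB : Nat.card B = 2160
  t3 : t ^ 3 = 1
  t1 : t ≠ 1
  cc : Nat.card Z = 1080
  cm : ∀ b ∈ Z, b * t = t * b

theorem exists_LD [Finite L] (hL : ∃ A B : Subgroup (L ⧸ pCore 2 L), A.Normal ∧ B.Normal ∧ A ⊓ B = ⊥ ∧ A ⊔ B = ⊤ ∧
      Nonempty (A ≃* Matrix.SpecialLinearGroup (Fin 3) (ZMod 2)) ∧ Nat.card B = 2160 ∧
      ∃ (T : Subgroup B) (_ : T.Normal), Nat.card T = 3 ∧ Nonempty (B ⧸ T ≃* Equiv.Perm (Fin 6)) ∧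
        (centralizer (T : Set B)).index = 2 ∧ Nat.card (commutator B) = 1080 ∧
        ⁅commutator B, commutator B⁆ = commutator B) :
    ∃ (B : Subgroup (L ⧸ pCore 2 L)) (α : L →* LF.SL32) (β : L →* B) (Z : Subgroup B) (t : B), LD α β Z t := by
  obtain ⟨A, B, h1, h2, h3, h4, ⟨e⟩, h5, T, -, h6, -, h7, -⟩ := hL
  have cm : ∀ (a : A) (b : B), Commute (A.subtype a) (B.subtype b) := fun a b =>
    commute_of_normal_of_disjoint A B h1 h2 (disjoint_iff.2 h3) a b a.2 b.2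
  obtain ⟨ε⟩ : Nonempty (A × B ≃* L ⧸ pCore 2 L) := ⟨MulEquiv.ofBijective (A.subtype.noncommCoprod B.subtype cm)
    ⟨(MonoidHom.noncommCoprod_injective _ _ _).2 ⟨A.subtype_injective, B.subtype_injective, by
      simpa [disjoint_iff]⟩, MonoidHom.range_eq_top.1 (by rw [MonoidHom.noncommCoprod_range]; simpa)⟩⟩
  let ρ := ε.symm.toMonoidHom.comp (QuotientGroup.mk' _)
  obtain ⟨t, t1⟩ : ∃ t : T, t ≠ 1 := by
    have := Finite.one_lt_card_iff_nontrivial.1 (h6 ▸ by norm_num : 1 < Nat.card T)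
    exact exists_ne 1
  refine ⟨B, e.toMonoidHom.comp ((MonoidHom.fst _ _).comp ρ), (MonoidHom.snd _ _).comp ρ, centralizer T, t,
    fun a b => ?_, (GT.isPGroup_pCore 2).to_le fun l hl => ?_, fun E n k => ?_, h5,
    congrArg Subtype.val (h6 ▸ pow_card_eq_one' : t ^ 3 = 1), fun u => t1 (Subtype.ext u), ?_,
    fun b hb => (hb t t.2).symm⟩
  · obtain ⟨l, u⟩ := (ε.symm.surjective.comp (QuotientGroup.mk'_surjective _)) (e.symm a, b)
    have u : ρ l = (e.symm a, b) := u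
    exact ⟨l, by simp [u], by simp [u]⟩
  · have hl := Prod.ext_iff.1 (MonoidHom.mem_ker.1 hl)
    have : ρ l = 1 := Prod.ext (by simpa using hl.1) hl.2
    simpa [ρ] using this
  · have := GT.pCore_eq_bot_iff.1 GT.pCore_quotient_pCore (((⊥ : Subgroup A).prod E).map ε.toMonoidHom)
      (Normal.map inferInstance _ ε.surjective) (IsPGroup.map (H := (⊥ : Subgroup A).prod E) (fun ⟨⟨a, b⟩, u, v⟩ => by
        obtain ⟨j, hj⟩ := k ⟨b, v⟩
        exact ⟨j, Subtype.ext (Prod.ext (by simp [show a = 1 from u]) (congrArg Subtype.val hj))⟩) _)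
    replace this := (map_eq_bot_iff_of_injective _ ε.injective).1 this
    exact eq_bot_iff.2 fun b hb => congrArg Prod.snd (this.le (show (1, b) ∈ _ from ⟨one_mem _, hb⟩))
  · have := card_mul_index (centralizer (T : Set B))
    rw [h7, h5] at this
    omega

namespace LD

variable {α : L →* A} {β : L →* B} {Z : Subgroup B} {t : B} (D : LD α β Z t)
include D

theorem sa : Function.Surjective α := fun a => (D.surj a 1).imp fun _ => And.left

theorem card [Finite L] (hA : Nat.card A = 168) : ∃ k, Nat.card L = 2 ^ k * (168 * 2160) := by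
  obtain ⟨k, hk⟩ := IsPGroup.iff_card.1 D.two
  refine ⟨k, ?_⟩
  rw [← card_mul_index (α.prod β).ker, hk, index_ker, MonoidHom.range_eq_top.2 fun p =>
    (D.surj p.1 p.2).imp fun _ h => Prod.ext h.1 h.2, card_top, Nat.card_prod, hA, D.cardB]

theorem ker_le [Finite L] (hA : Nat.card A = 168) {P : Subgroup L} (h : P.index = 7) : α.ker ≤ P := by
  obtain ⟨k, hk⟩ := D.card hA
  have := card_mul_index α.ker
  rw [index_ker, MonoidHom.range_eq_top.2 D.sa, card_top, hA, hk] at this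
  refine nle ?_
  rw [h, show Nat.card α.ker = 2 ^ k * 2160 by omega]
  exact Nat.Coprime.mul_left (Nat.Coprime.pow_left k (by norm_num)) (by norm_num)

theorem std [Finite L] [IsSimpleGroup A] (hA : Nat.card A = 168) {P R : Subgroup L} (h1 : P.index = 7)
    (h2 : R.index = 7) (h3 : (P ⊓ R).index = 21) :
    ∃ (α : L →* T) (a b : Subgroup T), LD α β Z t ∧ T4 a b ∧ P = a.comap α ∧ R = b.comap α := by
  have := Nat.finite_of_card_ne_zero (hA ▸ by norm_num : Nat.card A ≠ 0)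
  have k1 := D.ker_le hA h1
  have k2 := D.ker_le hA h2
  obtain ⟨e, he⟩ := exists_t4 hA (a := P.map α) (b := R.map α) ((index_map_eq _ D.sa k1).trans h1)
    ((index_map_eq _ D.sa k2).trans h2) (by
      rw [← index_comap_of_surjective _ D.sa, comap_inf, comap_map_eq_self k1, comap_map_eq_self k2, h3])
  have c : ∀ {P : Subgroup L}, α.ker ≤ P → P = ((P.map α).map e.toMonoidHom).comap (e.toMonoidHom.comp α) :=
    fun k => by rw [← comap_comap, comap_map_eq_self_of_injective e.injective, comap_map_eq_self k]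
  exact ⟨_, _, _, { D with
    surj := fun a b => by simpa [MulEquiv.eq_symm_apply] using D.surj (e.symm a) b
    two := D.two.to_le fun l hl =>
      have hl := Prod.ext_iff.1 (MonoidHom.mem_ker.1 hl); Prod.ext (by simpa using hl.1) hl.2 },
    he, c k1, c k2⟩

variable {a b : Subgroup A} (H : T4 a b)
include H

theorem top : a.comap α ⊔ b.comap α = ⊤ := by rw [comap_sup_eq _ _ _ D.sa, H.top, comap_top]

theorem three {x : L} (h1 : α x ∈ b) (h2 : α x ∉ a) (h3 : x * x * x = 1) :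
    ∃ p, α p ∈ b ∧ p * x * p⁻¹ ≠ x ∧ p * x * p⁻¹ ≠ x⁻¹ := by
  obtain ⟨p, p1, p2, p3⟩ := H.three _ h1 h2 (by rw [← map_mul, ← map_mul, h3, map_one])
  obtain ⟨p, rfl⟩ := D.sa p
  exact ⟨p, p1, fun u => p2 (by simpa using congrArg α u), fun u => p3 (by simpa using congrArg α u)⟩

theorem dc : ∃ s c d e, α s ∈ b ∧ α s ∉ a ∧ α c ∈ a ∧ α c ∉ b ∧ α d ∈ a ∧ α e ∈ a ∧ s⁻¹ * c * s = d * s * e := by
  obtain ⟨s, s1, s2, c, c1, c2, d, d1, d2⟩ := H.dc
  obtain ⟨s, rfl⟩ := D.sa s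
  obtain ⟨c, rfl⟩ := D.sa c
  obtain ⟨d, rfl⟩ := D.sa d
  exact ⟨s, c, d, (d * s)⁻¹ * (s⁻¹ * c * s), s1, s2, c1, c2, d1, by simpa using d2, by group⟩

theorem not_le [Finite L] (μ : b.comap α →* M24) {Q : Subgroup L} (h1 : IsPGroup 2 Q)
    (h2 : ∀ g, α g ∈ a → ∀ q ∈ Q, g * q * g⁻¹ ∈ Q) : ¬ ∀ p, α p.1 ∈ a → μ p = 1 → p.1 ∈ Q := fun h3 => by
  have : Fact (Nat.Prime 3) := ⟨by norm_num⟩
  have q1 : ∀ q ∈ Q, β q = 1 := fun q hq => (D.core (Q.map β) ⟨by
    rintro _ ⟨q, hq, rfl⟩ g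
    obtain ⟨l, l1, rfl⟩ := D.surj 1 g
    exact ⟨_, h2 l (l1 ▸ one_mem _) q hq, by simp⟩⟩ (h1.map β)).le ⟨q, hq, rfl⟩
  obtain ⟨l, l1, l2⟩ := D.surj 1 t
  obtain ⟨k, hk⟩ := D.two ⟨l ^ 3, Prod.ext (by simp [l1]) (by simp [l2, D.t3])⟩
  have s3 : (l ^ 2 ^ k) ^ 3 = 1 := by rw [← pow_mul, mul_comm, pow_mul]; exact congrArg Subtype.val hk
  have s1 : α (l ^ 2 ^ k) = 1 := by simp [l1]
  have s2 : β (l ^ 2 ^ k) ≠ 1 := fun u => D.t1 (one_of_three D.t3 (k := k) (by simpa [l2] using u))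
  have s4 : ∀ z ∈ Z, z * β (l ^ 2 ^ k) * z⁻¹ = β (l ^ 2 ^ k) := fun z hz => by
    rw [map_pow, l2, ← conj_pow, D.cm z hz, mul_inv_cancel_right]
  generalize l ^ 2 ^ k = s at s1 s2 s3 s4
  have lift : ∀ u, ∀ z : Z, ∃ l, α l = u ∧ β l = z ∧ l * s = s * l := fun u z => by
    obtain ⟨l, l1, l2⟩ := D.surj u z
    obtain ⟨o, ho, e⟩ := exists_conj (O := (α.prod β).ker) (p := 3) (g := s) (g' := l * s * l⁻¹) (fun h => by
      obtain ⟨n, hn⟩ := IsPGroup.iff_card.1 D.two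
      exact absurd (Nat.Prime.dvd_of_dvd_pow this.out (hn ▸ h)) (by norm_num)) s3 (by rw [conj_pow, s3]; simp)
      (Prod.ext (by simp [s1]) (by simp [l2, s4 _ z.2])) fun o ho => Normal.conj_mem inferInstance _ ho _
    exact ⟨o * l, by rw [map_mul, show α o = 1 from congrArg Prod.fst ho, one_mul, l1],
      by rw [map_mul, show β o = 1 from congrArg Prod.snd ho, one_mul, l2],
      mul_inv_eq_iff_eq_mul.1 (by simpa [mul_assoc] using e)⟩
  choose f f1 f2 f3 using lift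
  obtain ⟨u, u1, u2, g, g1, g2, g3⟩ := H.two
  have u3 : ∀ q ∈ Q, α q ≠ u := fun q hq e => by
    obtain ⟨g, rfl⟩ := D.sa g
    obtain ⟨j, hj⟩ := h1 ⟨_, mul_mem hq (h2 g g1 q hq)⟩
    exact g3 (one_of_three g2 (k := j) (by simpa [e] using congrArg (fun x : Q => α x) hj))
  have m : ∀ (i : Bool) z, α (f (if i then u else 1) z) ∈ a ⊓ b := fun i z => by
    rw [f1]; split_ifs; exacts [⟨u1, u2⟩, one_mem _]
  have hs : s ∈ b.comap α := by rw [mem_comap, s1]; exact one_mem _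
  have c := (Nat.card_le_card_of_injective (β := centralizer {μ ⟨s, hs⟩})
    (fun p : Bool × Z => ⟨μ ⟨_, (m p.1 p.2).2⟩, mem_centralizer_singleton_iff.2 (by
      rw [← map_mul, ← map_mul]; exact congrArg μ (Subtype.ext (f3 _ _)))⟩) fun ⟨i, z⟩ ⟨j, w⟩ e => by
      have := h3 (⟨_, (m i z).2⟩⁻¹ * ⟨_, (m j w).2⟩) (by
        simpa using a.mul_mem (a.inv_mem (m i z).1) (m j w).1) (by
          rw [map_mul, map_inv, inv_mul_eq_one]; exact congrArg Subtype.val e)
      have e1 := q1 _ this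
      have e2 := u3 _ this
      have e3 := u3 _ (inv_mem this)
      simp only [coe_mul, InvMemClass.coe_inv, map_mul, map_inv, f1, f2, inv_mul_eq_one] at e1 e2 e3
      refine Prod.ext ?_ (Subtype.ext e1)
      cases i <;> cases j <;> simp_all).trans (cent3 (by
        rw [← map_pow]; exact (congrArg μ (Subtype.ext s3)).trans (map_one μ))
      fun e => s2 (q1 _ (h3 _ (s1 ▸ one_mem _) e)))
  rw [Nat.card_prod, D.cc] at c
  simp at c

end LD

end Cfsg.Agent.Gr.Am
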