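import Mathlib
import Cfsg.Agent.Gr.Am.DegL
import Cfsg.Agent.Gr.Am.DegB
import Cfsg.Agent.Gr.L2.Four
import Cfsg.Agent.Inv.BrauerFowler

/-! The second member of the amalgam, as an abstract group. -/

set_option autoImplicit false

namespace Cfsg.Agent.Gr.Am

open Cfsg.Agent.Spor Subgroup Equiv

theorem ND.map {N G : Type*} [Group N] [Group G] {ι : N →* G} (hι : Function.Injective ι)
    {C H K R S : Subgroup N} {x y : N} (D : ND C H K R S x y) {C' : Subgroup G} (hC : H.map ι ≤ C') :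
    ND C' (H.map ι) (K.map ι) (R.map ι) (S.map ι) (ι x) (ι y) where
  HC := hC
  fin := have := D.fin; Finite.of_equiv _ (H.equivMapOfInjective ι hι).toEquiv
  ix := ⟨map_mono D.ix.le, by
    rintro _ ⟨a, ha, rfl⟩ _ ⟨b, hb, rfl⟩ h k
    exact ⟨_, D.ix.mul a ha b hb (mt (mem_map_of_mem ι) h) (mt (mem_map_of_mem ι) k), map_mul _ _ _⟩⟩
  SH := map_mono D.SH
  memR := ⟨fun ⟨r, h, e⟩ => ⟨⟨r, (D.memR.1 h).1, e⟩, r, (D.memR.1 h).2, e⟩,
    fun ⟨⟨r, h, e⟩, k⟩ => ⟨r, D.memR.2 ⟨h, (mem_map_iff_mem hι).1 (e ▸ k)⟩, e⟩⟩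
  exu := let ⟨u, h, k⟩ := D.exu; ⟨_, mem_map_of_mem ι h, mt (mem_map_iff_mem hι).1 k⟩
  two := D.two.map ι
  nrm := by
    rintro _ ⟨h, hh, rfl⟩ _ ⟨r, hr, rfl⟩
    exact ⟨_, D.nrm h hh r hr, by simp⟩
  idx := (relIndex_map_map_of_injective _ _ hι).trans D.idx
  core A h1 h2 h3 a ha := by
    obtain ⟨b, hb, rfl⟩ := h1 ha
    exact mem_map_of_mem ι (D.core (A.comap ι) (fun c hc => (mem_map_iff_mem hι).1 (h1 hc))
      (h2.comap_of_injective ι hι) (fun h hh a ha => by simpa using h3 _ (mem_map_of_mem ι hh) _ ha) ha)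
  x3 := by rw [← map_mul, ← map_mul, D.x3, map_one]
  y23 := by rw [← map_pow, D.y23, map_one]
  yK := mem_map_of_mem ι D.yK
  xy := by rw [← map_mul, D.xy, map_mul]
  xK := by
    rintro _ ⟨h, hh, rfl⟩
    exact ⟨_, D.xK h hh, by simp⟩
  xu := by
    rintro _ ⟨h, hh, rfl⟩ k
    exact ⟨_, D.xu h hh (mt (mem_map_of_mem ι) k), by simp⟩
  nc h := D.nc fun r hr => hι (by simpa using h _ (mem_map_of_mem ι hr))

theorem idx3 {U : Subgroup (Perm (Fin 3) × M24)} (h : U.index = 3) :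
    ∃ τ, τ ≠ 1 ∧ τ * τ = 1 ∧ ∀ p, p ∈ U ↔ p.1 = 1 ∨ p.1 = τ := by
  have := Golay.simple_M24
  have h1 : U.comap (MonoidHom.inr _ _) = ⊤ := by_contra fun k => by
    have h2 := Nat.le_of_dvd (Nat.factorial_pos _) (Inv.card_dvd_factorial_index k)
    have h3 : (U.comap (MonoidHom.inr _ _)).index ≤ 3 := by
      rw [index_comap]
      exact (relIndex_le_of_le_right le_top (by rw [relIndex_top_right, h]; norm_num)).trans_eq
        ((relIndex_top_right _).trans h)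
    have := h2.trans (Nat.factorial_le h3)
    rw [Golay.card_M24] at this
    exact absurd this (by decide)
  have h2 : (MonoidHom.fst _ _).ker ≤ U := fun ⟨a, b⟩ k => by
    obtain rfl : a = 1 := k
    exact (h1.ge (mem_top b) :)
  have h3 := card_mul_index (U.map (MonoidHom.fst _ _))
  rw [index_map_eq _ Prod.fst_surjective h2, h, Nat.card_perm, Nat.card_fin] at h3
  have h4 : Nat.card (U.map (MonoidHom.fst _ _)) = 2 := by
    rw [show Nat.factorial 3 = 6 from rfl] at h3; omega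
  obtain ⟨τ, t1, t2⟩ := (Nat.card_eq_two_iff' 1).1 h4
  refine ⟨τ, fun u => t1 (Subtype.ext u), ?_, fun p => ?_⟩
  · have := h4 ▸ pow_card_eq_one' (x := τ)
    rw [pow_two] at this
    exact congrArg Subtype.val this
  · refine ⟨fun k => or_iff_not_imp_left.2 fun u => congrArg Subtype.val (t2 ⟨_, p, k, rfl⟩ fun v => u
      (congrArg Subtype.val v)), fun k => (comap_map_eq_self h2).le (k.elim (fun u => ?_) fun u => ?_)⟩
    · exact mem_comap.2 (u.symm ▸ one_mem _ : p.1 ∈ _)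
    · exact mem_comap.2 (u.symm ▸ τ.2 : p.1 ∈ _)

variable {N : Type*} [Group N] [Finite N]

/-- The structure of the second member. -/
structure NS (ν : N →* Perm (Fin 3) × M24) (H : Subgroup N) (τ : Perm (Fin 3)) : Prop where
  surj : Function.Surjective ν
  two : IsPGroup 2 ν.ker
  t1 : τ ≠ 1
  t2 : τ * τ = 1
  mem : ∀ {n}, n ∈ H ↔ (ν n).1 = 1 ∨ (ν n).1 = τ

theorem exists_NS (e : N ⧸ pCore 2 N ≃* Perm (Fin 3) × M24) {H : Subgroup N} (h : H.index = 3) :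
    ∃ ν τ, NS ν H τ := by
  let ν := e.toMonoidHom.comp (QuotientGroup.mk' _)
  have h1 : Function.Surjective ν := e.surjective.comp (QuotientGroup.mk'_surjective _)
  have h2 : IsPGroup 2 ν.ker := (GT.isPGroup_pCore 2).to_le fun l hl => by simpa [ν] using hl
  have h3 : ν.ker ≤ H := nle (by
    obtain ⟨k, hk⟩ := IsPGroup.iff_card.1 h2
    rw [hk, h]
    exact Nat.Coprime.pow_left k (by norm_num))
  obtain ⟨τ, t1, t2, t3⟩ := idx3 ((index_map_eq _ h1 h3).trans h)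
  exact ⟨ν, τ, h1, h2, t1, t2, fun {n} => by rw [← t3, ← mem_comap, comap_map_eq_self h3]⟩

namespace NS

variable {ν : N →* Perm (Fin 3) × M24} {H : Subgroup N} {τ : Perm (Fin 3)} (D : NS ν H τ)
include D

theorem card : ∃ k, Nat.card N = 2 ^ k * (6 * 244823040) := by
  obtain ⟨k, hk⟩ := IsPGroup.iff_card.1 D.two
  refine ⟨k, ?_⟩
  rw [← card_mul_index ν.ker, hk, index_ker, MonoidHom.range_eq_top.2 D.surj, card_top, Nat.card_prod,
    Golay.card_M24, Nat.card_perm, Nat.card_fin]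
  rfl

omit [Finite N] in
theorem dbl {n m : N} (h1 : n ∉ H) (h2 : m ∉ H) : ∃ h ∈ H, ∃ k ∈ H, n = h * m * k := by
  have key : ∀ τ a b : Perm (Fin 3), τ ≠ 1 → τ * τ = 1 → ¬ (a = 1 ∨ a = τ) → ¬ (b = 1 ∨ b = τ) →
      ∃ s, (s = 1 ∨ s = τ) ∧ ((s * b)⁻¹ * a = 1 ∨ (s * b)⁻¹ * a = τ) := by decide
  obtain ⟨s, s1, s2⟩ := key τ _ _ D.t1 D.t2 (mt D.mem.2 h1) (mt D.mem.2 h2)
  obtain ⟨h, e⟩ := D.surj (s, 1)
  exact ⟨h, D.mem.2 (e ▸ s1), (h * m)⁻¹ * n, D.mem.2 (by simpa [e] using s2), by group⟩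

theorem nd (nc : ∀ x ∉ H, x * x * x = 1 → ¬ ∀ n, n * x * n⁻¹ = x ∨ n * x * n⁻¹ = x⁻¹) :
    ∃ x y, ND ⊤ H ((MonoidHom.fst _ _).comp ν).ker ν.ker (H ⊓ ((MonoidHom.snd _ _).comp ν).ker) x y ∧
      y ≠ 1 ∧ x ∉ H := by
  obtain ⟨c, c3, c1⟩ : ∃ c : Perm (Fin 3), c ^ 3 = 1 ∧ c ≠ 1 := ⟨finRotate 3, by decide, by decide⟩
  obtain ⟨w, hw⟩ := D.surj (c, sh)
  obtain ⟨k, hk⟩ := D.two ⟨w ^ 69, by
    rw [MonoidHom.mem_ker, map_pow, hw, Prod.pow_mk, show sh ^ 69 = (sh ^ 23) ^ 3 from pow_mul _ 23 3, sh_23,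
      show c ^ 69 = (c ^ 3) ^ 23 from pow_mul _ 3 23, c3, one_pow, one_pow]; rfl⟩
  have hk : (w ^ 2 ^ k) ^ 69 = 1 := by rw [← pow_mul, mul_comm, pow_mul]; exact congrArg Subtype.val hk
  have x1 : (ν ((w ^ 2 ^ k) ^ 23)).2 = 1 := by
    rw [← pow_mul, mul_comm, pow_mul]; simp [hw, sh_23]
  have x2 : (ν ((w ^ 2 ^ k) ^ 23)).1 ≠ 1 := fun u => by
    simp only [map_pow, hw, Prod.pow_mk, ← pow_mul] at u
    have := pow_gcd_eq_one.2 ⟨c3, u⟩
    rw [Nat.Coprime.gcd_eq_one (Nat.Coprime.mul_right (Nat.Coprime.pow_right k (by norm_num)) (by norm_num)),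
      pow_one] at this
    exact c1 this
  have y1 : (ν ((w ^ 2 ^ k) ^ 3)).1 = 1 := by
    rw [← pow_mul, mul_comm, pow_mul]; simp [hw, c3]
  have y2 : (w ^ 2 ^ k) ^ 3 ≠ 1 := fun u => by
    have := congrArg (fun n => (ν n).2) u
    simp only [map_pow, hw, Prod.pow_mk, map_one, Prod.snd_one, ← pow_mul] at this
    have := pow_gcd_eq_one.2 ⟨sh_23, this⟩
    rw [Nat.Coprime.gcd_eq_one (Nat.Coprime.mul_right (Nat.Coprime.pow_right k (by norm_num)) (by norm_num)),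
      pow_one] at this
    exact sh_sq_ne (by rw [this, one_mul])
  have x3 : (w ^ 2 ^ k) ^ 23 * (w ^ 2 ^ k) ^ 23 * (w ^ 2 ^ k) ^ 23 = 1 := by rw [← pow_add, ← pow_add, hk]
  have y3 : ((w ^ 2 ^ k) ^ 3) ^ 23 = 1 := by rw [← pow_mul, hk]
  have xy : (w ^ 2 ^ k) ^ 23 * (w ^ 2 ^ k) ^ 3 = (w ^ 2 ^ k) ^ 3 * (w ^ 2 ^ k) ^ 23 := pow_mul_comm _ _ _
  generalize (w ^ 2 ^ k) ^ 23 = x, (w ^ 2 ^ k) ^ 3 = y at *
  have x4 : (ν x).1 * (ν x).1 * (ν x).1 = 1 := by simpa using congrArg (fun n => (ν n).1) x3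
  have xH : x ∉ H := fun h => by
    have key : ∀ τ : Perm (Fin 3), τ * τ = 1 → τ * τ * τ = 1 → τ = 1 := by decide
    exact (D.mem.1 h).elim x2 fun u => D.t1 (key τ D.t2 (u ▸ x4))
  have sj : ∀ g : M24, ∃ h ∈ H, (ν h).2 = g := fun g =>
    let ⟨h, e⟩ := D.surj (1, g); ⟨h, D.mem.2 (Or.inl (by rw [e])), by rw [e]⟩
  refine ⟨x, y, ⟨le_top, inferInstance, ⟨fun n h => D.mem.2 (Or.inl h), fun a ha b hb h1 h2 => ?_⟩, inf_le_left,
    ⟨fun h => ⟨⟨D.mem.2 (Or.inl (congrArg Prod.fst h)), congrArg Prod.snd h⟩, congrArg Prod.fst h⟩,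
      fun h => Prod.ext h.2 h.1.2⟩, ?_, fun ⟨s, h1, h2⟩ => ?_, fun h hh r hr => ⟨H.mul_mem (H.mul_mem hh hr.1)
      (H.inv_mem hh), Normal.conj_mem inferInstance _ hr.2 _⟩, ?_, fun A h1 h2 h3 a ha => ⟨h1 ha, ?_⟩, x3, y3, y1, xy,
    fun h hh => Prod.ext (by simp [show (ν h).1 = 1 from hh]) (by simp [x1]), fun u hu k => ?_,
    fun h => nc x xH x3 fun n => ?_⟩, y2, xH⟩
  · change (ν (a * b)).1 = 1
    rw [map_mul, Prod.fst_mul, (D.mem.1 ha).resolve_left h1, (D.mem.1 hb).resolve_left h2, D.t2]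
  · obtain ⟨u, e⟩ := D.surj (τ, 1)
    exact ⟨u, ⟨D.mem.2 (Or.inr (by rw [e])), congrArg Prod.snd e⟩, fun k => D.t1 ((congrArg Prod.fst e).symm.trans k)⟩
  · obtain ⟨j, hj⟩ := D.two ⟨s * s, Prod.ext (by
      rcases D.mem.1 h1 with u | u <;> simp [u, D.t2]) (by simp [show (ν s).2 = 1 from h2])⟩
    exact ⟨j + 1, Subtype.ext (by simpa [pow_succ', pow_mul, pow_two] using congrArg Subtype.val hj)⟩
  · rw [inf_relIndex_left, relIndex_ker, (eq_top_iff (a := H.map ((MonoidHom.snd _ _).comp ν))).2 fun g _ => sj g,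
      card_top, Golay.card_M24]
  · refine (GT.pCore_eq_bot_iff.1 L2.pCore_M24 (A.map ((MonoidHom.snd _ _).comp ν)) ⟨?_⟩ (h2.map _)).le ⟨a, ha, rfl⟩
    rintro _ ⟨a, ha, rfl⟩ g
    obtain ⟨h, hh, rfl⟩ := sj g
    exact ⟨_, h3 h hh a ha, by simp⟩
  · have key : ∀ τ c : Perm (Fin 3), τ ≠ 1 → τ * τ = 1 → c * c * c = 1 → c * τ * (c * τ) = 1 := by decide
    change (ν (x * u * (x * u))).1 = 1
    simpa [(D.mem.1 hu).resolve_left k] using key τ _ D.t1 D.t2 x4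
  · have key : ∀ s c : Perm (Fin 3), c * c * c = 1 → s * c * s⁻¹ * c⁻¹ = 1 ∨ s * c * s⁻¹ * c⁻¹⁻¹ = 1 := by decide
    have one : ∀ z : N, z ^ 3 = 1 → (∀ r ∈ ν.ker, Commute r z) → n * x * n⁻¹ * z⁻¹ ∈ ν.ker → n * x * n⁻¹ = z :=
      fun z z3 c hr => by
        obtain ⟨j, hj⟩ := D.two ⟨_, hr⟩
        refine mul_inv_eq_one.1 (one_of_three ?_ (k := j) (congrArg Subtype.val hj))
        have := (c _ hr).mul_pow 3
        rw [z3, mul_one, inv_mul_cancel_right, conj_pow, pow_three' x, x3] at this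
        simpa using this.symm
    have z3 : x ^ 3 = 1 := by rw [pow_three', x3]
    exact (key (ν n).1 _ x4).imp (fun u => one x z3 h (Prod.ext (by simpa using u) (by simp [x1])))
      fun u => one x⁻¹ (by rw [inv_pow, z3, inv_one]) (fun r hr => Commute.inv_right (h r hr))
        (Prod.ext (by simpa using u) (by simp [x1]))

end NS

end Cfsg.Agent.Gr.Am
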