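import Mathlib
import Cfsg.Agent.Gr.Am.Code

/-! The monomial group acting on the Leech lattice modulo two: invariant subgroups and rigidity. -/

set_option autoImplicit false

namespace Cfsg.Agent.Gr.Am

open Matrix Finset Cfsg.Agent.Spor Cfsg.Agent.Spor.Leech Cfsg.Agent.Gr.Rk

attribute [local irreducible] sgC cls twoC csm perm negOne pc

/-- The lattice automorphism of order 23. -/
noncomputable def Sh : Co0 := perm sh

theorem Sh_mem : Sh ∈ Mon := perm_mem_Mon _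
theorem Sh_pow (k : ℕ) : Sh ^ k = sgC 0 * perm (sh ^ k) := by rw [sgC_zero, one_mul, map_pow, Sh]
theorem Sh_eq : Sh = sgC 0 * perm sh := by rw [← pow_one Sh, Sh_pow, pow_one]
theorem Sh_23 : Sh ^ 23 = 1 := by rw [Sh, ← map_pow, sh_23, map_one]
theorem Sh_ne : Sh ≠ 1 := fun h => sh_sq_ne (by rw [perm_injective (h.trans (map_one _).symm), one_mul])

theorem Sh_sgC (d : Cd) : Sh * sgC d * Sh⁻¹ = sgC (pc sh d) := by rw [Sh_eq, mon_conj]

theorem ll_cancel (a b : LL) : a + (a + b) = b := by rw [← add_assoc, ll_add_self, zero_add]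

theorem v12_of_d0 {w : LL} (hw : Ev0 w) (h : D0 w.1) : V12 w := ⟨h, hw⟩

theorem v12_iff {a : LL} (ha : Ev0 a) : V12 a ↔ ∀ d, T0 (csm (sgC d) a + a) := by
  refine ⟨fun h d => ?_, fun h => ⟨d0_of_sy fun d => ?_, ha⟩⟩
  · rw [h.csm_sgC, add_right_comm, ll_add_self, zero_add]; exact t0_smul _
  · have := (t0_iff.1 (h d)).2
    rwa [csm_sgC_even ha] at this

theorem v12_comm {a : LL} (ha : Ev0 a) (d : Cd) : V12 (csm (sgC d) a + a) := by
  rw [csm_sgC_even ha]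
  exact v12_smul _ (by rw [sy_dot_om, sum_mul_eq, wd_dot_wd])

theorem sy_twoC (e d : Cd) : sy (wd (cls (twoC e)).1 * wd d) = sy (wd e * wd d) := by
  rw [cls_twoC]
  rcases z2_cases (q4 (wd e)) with h | h <;> simp only [h, zero_smul, add_zero, one_smul, map_add, wd_om,
    add_mul, one_mul, sy_wd]

theorem d0_of_even {d : Cd} (h : ∀ w, Ev0 w → T0 (csm (sgC d) w + w)) : D0 d := d0_of_sy fun e => by
  have := (t0_iff.1 (h _ (ev0_twoC e))).2
  rw [csm_sgC_even (ev0_twoC e), sy_twoC] at this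
  rw [mul_comm]; exact this

theorem d0_of_v12 {d : Cd} (h : ∀ w, V12 w → csm (sgC d) w = w) : D0 d := d0_iff.2 fun i j => by
  rw [clB_fix_iff.1 (h _ (v12_clB i j)), z2_add_self]

theorem exists_not_d0 : ∃ d, ¬ D0 d := let ⟨c, h, _⟩ := exists_d11; ⟨c, h⟩

theorem v12_ind {U : LL → Prop} (ha : ∀ a b, U a → U b → U (a + b)) (h0 : ∀ a, T0 a → U a)
    (h2 : ∀ i j, i ≠ j → ∃ w, U w ∧ V12 w ∧ w.2 = sy (e2 i j)) {x : LL} (hx : V12 x) : U x := by
  obtain ⟨δ, hδ⟩ := sy_surjective x.2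
  obtain ⟨w, h1, h3, h4⟩ := even_ind (U := fun δ => ∃ w, U w ∧ V12 w ∧ w.2 = sy δ)
    ⟨0, h0 _ t0_zero, t0_zero.v12, (map_zero _).symm⟩
    (fun a b ⟨u, u1, u2, u3⟩ ⟨w, w1, w2, w3⟩ => ⟨u + w, ha _ _ u1 w1, u2.add w2, by
      rw [Prod.snd_add, u3, w3, map_add]⟩) h2 (δ := δ) (by rw [← sy_dot_om, hδ]; exact hx.2)
  rw [← ll_cancel w x]
  exact ha _ _ h1 (h0 _ (t0_iff.2 ⟨D0.add h3.1 hx.1, by rw [Prod.snd_add, h4, hδ, cd_add_self]⟩))

/-- A subgroup invariant under the monomial group. -/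
structure MI (U : LL → Prop) : Prop where
  zero : U 0
  add : ∀ a b, U a → U b → U (a + b)
  smul : ∀ g ∈ Mon, ∀ a, U a → U (csm g a)

theorem MI.v12 {U : LL → Prop} (h : MI U) {w : LL} (hw : U w) (h1 : V12 w) (h2 : w.2 ≠ 0) {x : LL}
    (hx : V12 x) : U x := by
  have hv : U v0 := by
    obtain ⟨k, hk⟩ := Function.ne_iff.1 h2
    have := h.add _ _ hw (h.smul _ (sgC_mem_Mon (Pi.single k 1)) _ hw)
    rwa [h1.csm_sgC, ll_cancel, dotProduct_single_one, (z2_cases _).resolve_left hk, one_smul] at this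
  refine v12_ind h.add (fun a ha => ha.elim (· ▸ h.zero) (· ▸ hv)) (fun i j hij => ?_) hx
  let W := sub2 (fun δ => ∃ w, U w ∧ V12 w ∧ w.2 = sy δ) ⟨0, h.zero, t0_zero.v12, (map_zero _).symm⟩
    fun a b ⟨u, u1, u2, u3⟩ ⟨w, w1, w2, w3⟩ => ⟨u + w, h.add _ _ u1 w1, u2.add w2, by
      rw [Prod.snd_add, u3, w3, map_add]⟩
  have hW : MB.Inv W := fun σ hσ δ ⟨u, u1, u2, u3⟩ =>
    ⟨_, h.smul _ (mon_mem 0 ⟨σ, hσ⟩) _ u1, u2.csm_mon u3 0 ⟨σ, hσ⟩⟩
  obtain ⟨δ, hδ⟩ := sy_surjective w.2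
  have := hW.duads_of_not_le (fun k => h2 (hδ ▸ sy_eq_zero_iff.2 (k ⟨w, hw, h1, hδ.symm⟩)))
    (Finset.card_pair hij)
  rwa [show BinCode.ind {i, j} = e2 i j from funext fun p => by
    rw [e2_apply, BinCode.ind]
    by_cases h1 : p = i <;> by_cases h2 : p = j <;> simp_all] at this

theorem MI.even' {U : LL → Prop} (h : MI U) {u : LL} (hu : U u) (h1 : Ev0 u) (h2 : ¬ V12 u) {x : LL}
    (hx : Ev0 x) : U x := by
  obtain ⟨d, hd⟩ := not_forall.1 (mt (v12_iff h1).2 h2)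
  have h3 := v12_comm h1 d
  have h4 : ∀ x, V12 x → U x := fun x => h.v12 (h.add _ _ (h.smul _ (sgC_mem_Mon d) _ hu) hu) h3
    fun k => hd (t0_iff.2 ⟨h3.1, k⟩)
  obtain ⟨a, a1, a2, a3⟩ := irr (U := fun c => ∃ a, U a ∧ Ev0 a ∧ D0 (a.1 + c))
    ⟨0, h.zero, t0_zero.v12.2, d0_self _⟩
    (fun a b ⟨u, u1, u2, u3⟩ ⟨w, w1, w2, w3⟩ => ⟨u + w, h.add _ _ u1 w1, u2.add w2,
      (u3.add w3).of_eq (by rw [Prod.fst_add]; abel)⟩)
    (fun σ c ⟨u, u1, u2, u3⟩ => ⟨_, h.smul _ (mon_mem 0 σ) _ u1, (ev0_csm (mon_mem 0 σ)).2 u2,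
      ((fst_csm u2 0 σ).add u3).of_eq (by
        rw [← u3.pc σ, pc_add, add_assoc, ← add_assoc (pc σ u.1), cd_add_self, zero_add])⟩)
    ⟨u, hu, h1, d0_self _⟩ (fun k => h2 ⟨k, h1⟩) x.1
  rw [← ll_cancel a x]
  exact h.add _ _ a1 (h4 _ ⟨a3, a2.add hx⟩)

theorem not_ev0_lam (i : Pt) : ¬ Ev0 (cls (lam i)) := by
  rw [Ev0, cls_lam, sy_dot_om, sum_e1]; decide

theorem MI.even {U : LL → Prop} (h : MI U) {u : LL} (hu : U u) (h2 : ¬ V12 u) {x : LL} (hx : Ev0 x) :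
    U x := by
  by_cases h1 : Ev0 u
  · exact h.even' hu h1 h2 hx
  obtain ⟨d, hd⟩ := exists_not_d0
  have h3 := ev0_add_of_not h1 (not_ev0_lam none)
  refine h.even' (h.add _ _ (h.smul _ (sgC_mem_Mon d) _ hu) hu)
    (ev0_add_of_not (mt (ev0_csm (sgC_mem_Mon d)).1 h1) h1) (fun k => hd ?_) hx
  have := (k.add (v12_comm h3 d)).1
  rw [csm_add, csm_cls, cls_sgC_lam, cls_lam] at this
  refine (D0.add this (d0_smul (q4 (wd d) + wd d none))).of_eq ?_
  simp only [Prod.fst_add, clX, add_zero]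
  generalize (csm (sgC d) u).1 = a, u.1 = b, (q4 (wd d) + wd d none) • om = c
  funext k
  simp only [Pi.add_apply]
  linear_combination z2_add_self (a k + b k + c k)

/-! ### The idempotent -/

noncomputable def ep (w : LL) : LL := ∑ i ∈ NR, csm (Sh ^ i) w

theorem ep_add (a b : LL) : ep (a + b) = ep a + ep b := by
  simp only [ep, csm_add, Finset.sum_add_distrib]

theorem ep_ind {F : LL → LL → Prop} (h0 : F 0 0) (ha : ∀ a b c d, F a b → F c d → F (a + c) (b + d))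
    (hs : ∀ a b, F a b → F (csm Sh a) (csm Sh b)) {a b : LL} (h : F a b) : F (ep a) (ep b) := by
  have : ∀ i : ℕ, F (csm (Sh ^ i) a) (csm (Sh ^ i) b) := fun i => by
    induction i with
    | zero => rwa [pow_zero, csm_one, csm_one]
    | succ i ih => rw [pow_succ', csm_mul, csm_mul]; exact hs _ _ ih
  unfold ep
  induction NR using Finset.induction_on with
  | empty => exact h0
  | insert i s hi ih => rw [Finset.sum_insert hi, Finset.sum_insert hi]; exact ha _ _ _ _ (this i) ih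

theorem v12_ep {w : LL} (hw : Ev0 w) : V12 (ep w + w) := by
  refine ⟨?_, Ev0.add (Finset.sum_induction _ Ev0 (fun _ _ => Ev0.add) t0_zero.v12.2 fun i _ =>
    (ev0_csm (pow_mem Sh_mem i)).2 hw) hw⟩
  have : D0 (∑ i ∈ NR, ((csm (Sh ^ i) w).1 + pc (sh ^ i) w.1)) :=
    Finset.sum_induction _ D0 (fun _ _ => D0.add) d0_zero fun i _ => by rw [Sh_pow]; exact fst_csm hw _ _
  refine (this.add (d0_idem1 w.1)).of_eq ?_
  rw [Finset.sum_add_distrib, Prod.fst_add, ep, Prod.fst_sum, add_assoc, ← add_assoc (∑ i ∈ NR, pc _ _),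
    cd_add_self, zero_add]

theorem t0_ep {w : LL} (hw : V12 w) : T0 (ep w) := by
  refine t0_iff.2 ⟨(Finset.sum_induction _ V12 (fun _ _ => V12.add) t0_zero.v12 fun i _ =>
    v12_csm (pow_mem Sh_mem i) hw).1, funext fun k => ?_⟩
  have : ∀ i ∈ NR, (csm (Sh ^ i) w).2 ⬝ᵥ Pi.single k 1 = w.2 ⬝ᵥ pc (sh ^ (23 - i)) (Pi.single k 1) :=
    fun i hi => by
      rw [Sh_pow, ← snd_csm hw 0 (sh ^ i), ← pc_mul, ← pow_add, Nat.add_sub_cancel' (by
        revert i; decide), sh_23, pc_one]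
  rw [← dotProduct_single_one (ep w).2, ep, Prod.snd_sum, sum_dotProduct, Finset.sum_congr rfl this,
    ← dotProduct_sum]
  rcases d0_idem2 (Pi.single k 1) with e | e <;> rw [e]
  · exact dotProduct_zero _
  · exact hw.2

theorem t0_of_fix {w : LL} (hw : Ev0 w) (h : T0 (csm Sh w + w)) : T0 w := by
  have h1 : V12 w := ⟨fix_sh (((fst_csm hw 0 sh).add (t0_iff.1 h).1).of_eq (by
    rw [Prod.fst_add, ← Sh_eq, add_add_add_comm, cd_add_self, zero_add])), hw⟩
  have h2 : ∀ i : ℕ, T0 (csm (Sh ^ i) w + w) := fun i => by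
    induction i with
    | zero => rw [pow_zero, csm_one]; exact t0_self w
    | succ i ih =>
      refine (ih.add h).of_eq ?_
      rw [← ih.csm Sh_mem, csm_add, pow_succ', csm_mul, add_assoc, ll_cancel]
  have h3 : T0 (∑ i ∈ NR, (csm (Sh ^ i) w + w)) :=
    Finset.sum_induction _ T0 (fun _ _ => T0.add) t0_zero fun i _ => h2 i
  refine ((t0_ep h1).add h3).of_eq ?_
  rw [Finset.sum_add_distrib, ep, ll_cancel, Finset.sum_const, show NR.card = 2 * 5 + 1 from rfl,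
    succ_nsmul, mul_nsmul, two_nsmul, ll_add_self, nsmul_zero, zero_add]

/-- An equivariant map from the even cocode to the code modulo the all-one word vanishes. -/
theorem hom_zero {F : LL → Cd → Prop} (h0 : F 0 0) (ha : ∀ a b c d, F a b → F c d → F (a + c) (b + d))
    (hs : ∀ a b, F a b → F (csm Sh a) (pc sh b)) (fn : ∀ a b, F a b → T0 a → D0 b) {a : LL} {b : Cd}
    (h : F a b) (h1 : V12 a) : D0 b := by
  have : ∀ i : ℕ, F (csm (Sh ^ i) a) (pc (sh ^ i) b) := fun i => by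
    induction i with
    | zero => rwa [pow_zero, pow_zero, csm_one, pc_one]
    | succ i ih => rw [pow_succ', pow_succ', csm_mul, pc_mul]; exact hs _ _ ih
  have h2 : F (ep a) (∑ i ∈ NR, pc (sh ^ i) b) := by
    unfold ep
    induction NR using Finset.induction_on with
    | empty => exact h0
    | insert i s hi ih => rw [Finset.sum_insert hi, Finset.sum_insert hi]; exact ha _ _ _ _ (this i) ih
  exact ((fn _ _ h2 (t0_ep h1)).add (d0_idem1 b)).of_eq (by rw [← add_assoc, cd_add_self, zero_add])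

/-! ### Rigidity -/

theorem core {T : Subgroup (Co0 × Co0)} {F : LL → LL → Prop}
    (t1 : ∀ g ∈ Mon, ∃ g', (g, g') ∈ T) (t2 : ∀ g' ∈ Mon, ∃ g, (g, g') ∈ T)
    (tsg : ∀ a b, (a, b) ∈ T → ∃ e, b = sgC e * a) (tS : (Sh, Sh) ∈ T) (n1 : (1, negOne) ∈ T)
    (n2 : (negOne, 1) ∈ T) (tfn : ∀ b, (1, b) ∈ T → b = 1 ∨ b = negOne)
    (f1 : ∀ a, Ev0 a → ∃ b, F a b) (fev : ∀ a b, F a b → Ev0 a ∧ Ev0 b)
    (fadd : ∀ a b c d, F a b → F c d → F (a + c) (b + d)) (f0 : ∀ a b, F a b → (T0 a ↔ T0 b))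
    (sat : ∀ a b, T0 a → T0 b → F a b)
    (eqv : ∀ g g' a b, (g, g') ∈ T → F a b → F (csm g a) (csm g' b)) {a : LL} (ha : Ev0 a) : F a a := by
  have hp : ∀ σ, ∃ e, (sgC 0 * perm σ, sgC e * perm σ) ∈ T := fun σ => by
    obtain ⟨g, hg⟩ := t1 _ (mon_mem 0 σ)
    obtain ⟨e, rfl⟩ := tsg _ _ hg
    exact ⟨e + 0, by rwa [sgC_add, mul_assoc]⟩
  have hn : ∀ a b, D0 a → D0 b → (sgC a, sgC b) ∈ T := by
    rintro _ _ (rfl | rfl) (rfl | rfl) <;> simp only [sgC_zero, sgC_om]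
    exacts [T.one_mem, n1, n2, by simpa using T.mul_mem n1 n2]
  have hA : ∀ d, (sgC d, sgC d) ∈ T := fun d => by
    have tot : ∀ a, ∃ b, (sgC a, sgC b) ∈ T := fun a => by
      obtain ⟨g, hg⟩ := t1 _ (sgC_mem_Mon a)
      obtain ⟨e, rfl⟩ := tsg _ _ hg
      exact ⟨e + a, by rwa [sgC_add]⟩
    have add : ∀ a b c d, (sgC a, sgC b) ∈ T → (sgC c, sgC d) ∈ T → (sgC (a + c), sgC (b + d)) ∈ T :=
      fun a b c d h k => by rw [sgC_add, sgC_add]; exact T.mul_mem h k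
    rcases schur (F := fun a b => (sgC a, sgC b) ∈ T) add hn tot
      (fun b h => sgC_pm.1 (tfn _ (by rwa [sgC_zero] at h))) (fun σ a b h => by
        obtain ⟨e, he⟩ := hp σ
        rw [← mon_conj 0, ← mon_conj e]
        exact T.mul_mem (T.mul_mem he h) (T.inv_mem he)) with h | h
    · obtain ⟨c, hc⟩ := exists_not_d0
      obtain ⟨g, hg⟩ := t2 _ (sgC_mem_Mon c)
      obtain ⟨e, he⟩ := tsg _ _ hg
      refine (hc (h (e + c) c ?_)).elim
      rwa [sgC_add, he, ← mul_assoc, sgC_mul_self, one_mul, ← he]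
    · obtain ⟨b, hb⟩ := tot d
      have := add _ _ _ _ hb (hn _ _ d0_zero (h _ _ hb))
      rwa [add_zero, add_left_comm, cd_add_self, add_zero] at this
  have hc : ∀ d a b, F a b → F (csm (sgC d) a + a) (csm (sgC d) b + b) := fun d a b h =>
    fadd _ _ _ _ (eqv _ _ _ _ (hA d) h) h
  have hB : ∀ a b, F a b → (V12 a ↔ V12 b) := fun a b h => by
    rw [v12_iff (fev _ _ h).1, v12_iff (fev _ _ h).2]
    exact forall_congr' fun d => f0 _ _ (hc d _ _ h)
  have hC : ∀ a b, F a b → V12 (a + b) := fun a b h => by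
    have e : ∀ a b c d : Cd, a + b + (c + d) = a + c + (b + d) := fun _ _ _ _ => add_add_add_comm _ _ _ _
    rcases schur (F := fun x y => ∃ a b, F a b ∧ D0 (a.1 + x) ∧ D0 (b.1 + y))
      (fun _ _ _ _ ⟨a, b, h, h1, h2⟩ ⟨c, d, k, k1, k2⟩ => ⟨_, _, fadd _ _ _ _ h k,
        (h1.add k1).of_eq (e _ _ _ _), (h2.add k2).of_eq (e _ _ _ _)⟩)
      (fun x y hx hy => ⟨0, 0, sat _ _ t0_zero t0_zero, hx.of_eq (zero_add _).symm,
        hy.of_eq (zero_add _).symm⟩)
      (fun x => let ⟨b, hb⟩ := f1 _ (ev0_twoC x); ⟨b.1, _, b, hb, d0_twoC x, d0_self _⟩)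
      (fun y ⟨a, b, h, h1, h2⟩ => (D0.add ((hB _ _ h).1 ⟨h1.of_eq (add_zero _), (fev _ _ h).1⟩).1 h2).of_eq
        (by rw [← add_assoc, cd_add_self, zero_add]))
      (fun σ x y ⟨a, b, h, h1, h2⟩ => by
        obtain ⟨e, he⟩ := hp σ
        refine ⟨_, _, eqv _ _ _ _ he h, ((fst_csm (fev _ _ h).1 0 σ).add h1).of_eq ?_,
          ((fst_csm (fev _ _ h).2 e σ).add h2).of_eq ?_⟩
        · rw [← h1.pc σ, pc_add, add_assoc, ← add_assoc (pc σ a.1), cd_add_self, zero_add]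
        · rw [← h2.pc σ, pc_add, add_assoc, ← add_assoc (pc σ b.1), cd_add_self, zero_add]) with k | k
    · obtain ⟨c, hc⟩ := exists_not_d0
      obtain ⟨b, hb⟩ := f1 _ (ev0_twoC c)
      refine (hc ((D0.add ((hB _ _ hb).2 ⟨k _ _ ⟨_, _, hb, d0_self _, d0_self _⟩,
        (fev _ _ hb).2⟩).1 (d0_twoC c)).of_eq ?_)).elim
      rw [← add_assoc, cd_add_self, zero_add]
    · exact ⟨k _ _ ⟨_, _, h, d0_self _, d0_self _⟩, (fev _ _ h).1.add (fev _ _ h).2⟩
  have hs : ∀ a b, F a b → T0 (a + b) → F a a := fun a b h k => by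
    have := fadd _ _ _ _ h (sat _ _ t0_zero k)
    rwa [add_zero, add_left_comm, ll_add_self, add_zero] at this
  have hD : ∀ a, V12 a → F a a := fun a => v12_ind (U := fun a => F a a) (fun a b => fadd _ _ _ _)
    (fun a h => sat _ _ h h) fun i j hij => by
      obtain ⟨e, o, k⟩ := exists_e2 hij
      obtain ⟨b, hb⟩ := f1 _ (ev0_twoC e)
      refine ⟨_, hs _ _ (hc o _ _ hb) (((v12_iff (hC _ _ hb).2).1 (hC _ _ hb) o).of_eq ?_),
        v12_comm (ev0_twoC e) o, by rw [csm_sgC_even (ev0_twoC e), sy_twoC, k]⟩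
      rw [csm_add, add_add_add_comm]
  obtain ⟨b, hb⟩ := f1 a ha
  have h1 := hs _ _ (ep_ind (sat _ _ t0_zero t0_zero) fadd (fun _ _ => eqv _ _ _ _ tS) hb)
    (ep_add _ _ ▸ t0_ep (hC _ _ hb))
  have h2 := fadd _ _ _ _ h1 (hD _ (v12_ep ha))
  rwa [ll_cancel] at h2

/-! ### Fixed points of the element of order 23 -/

theorem pow_eq_one_of_mon {e : Cd} {σ : M24} {n : ℕ} (h : (sgC e * perm σ) ^ n = 1) : σ ^ n = 1 := by
  obtain ⟨b, hb, k⟩ := MT.exists_pow_eq (mem_Sgn.2 ⟨e, rfl⟩) σ n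
  exact MT.eq_one_of_perm_mem_Sgn (by
    rw [eq_inv_of_mul_eq_one_right (k.symm.trans h)]; exact inv_mem hb)

theorem fix4 {k : Co0} (h : csm Sh (csm k v0) = csm k v0) : csm k v0 = v0 := by
  obtain ⟨e, σ, he⟩ := exists_mon (mem_Mon_of_csm (g := k⁻¹ * Sh * k) (by
    rw [csm_mul, csm_mul, h, ActH.csm_inv_csm]))
  have h1 : σ ^ 23 = 1 := pow_eq_one_of_mon (e := e) (by
    rw [← he, ← inv_inv k, inv_inv k⁻¹, conj_pow, Sh_23, mul_one, mul_inv_cancel])
  have : Fact (Nat.Prime 23) := ⟨by norm_num⟩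
  obtain ⟨p, hp⟩ := Equiv.Perm.exists_fixed_point_of_prime (p := 23) (n := 1) (σ := σ.1) (by decide)
    (by rw [pow_one]; exact congrArg Subtype.val h1)
  have h2 : (sgC e * sgC e) • e8 p = e8 p := by rw [sgC_mul_self, one_smul]
  have h3 : sgC e • e8 p = e8 p ∨ sgC e • e8 p = -e8 p := by
    by_cases c : wd e p = 1
    · exact Or.inr (Subtype.ext (funext fun q => by
        rw [sgC_apply]; by_cases d : q = p <;> simp [e8_apply, d, c]))
    · exact Or.inl (Subtype.ext (funext fun q => by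
        rw [sgC_apply]; by_cases d : q = p <;> simp [e8_apply, d, c]))
  have h4 : Sh • k • e8 p = k • sgC e • e8 p := by
    rw [← hp, ← perm_e8, ← mul_smul (sgC e), ← he, perm_e8, hp, ← mul_smul, ← mul_smul]
    congr 1; group
  have h5 : (Sh * Sh) • k • e8 p = k • e8 p := by
    rcases h3 with c | c <;> rw [c] at h4
    · rw [mul_smul, h4, h4]
    · rw [mul_smul, h4, smul_neg, smul_neg, h4, smul_neg, neg_neg]
  have h6 : Sh • k • e8 p = k • e8 p := by
    rw [show Sh = (Sh * Sh) ^ 12 by rw [← pow_two, ← pow_mul, pow_succ, Sh_23, one_mul]]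
    exact (MulAction.stabilizer Co0 _).pow_mem h5 12
  rw [show csm k v0 = cls (k • e8 p) by rw [← csm_cls, cls_e8]]
  have h7 := nm_smul k (e8 p)
  generalize k • e8 p = y at h6 h7
  have h8 := sh_const (f := (y : Vec)) fun q => by
    conv_lhs => rw [← h6]
    exact perm_apply' sh y q
  rw [nm_e8, nm_def, sqNorm, Fintype.sum_option, Finset.sum_congr rfl fun a _ => by rw [h8 a],
    Finset.sum_const, show (univ : Finset (ZMod 23)).card = 23 from rfl, nsmul_eq_mul] at h7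
  push_cast at h7
  have h9 : (y : Vec) (some 0) = 0 ∧ ((y : Vec) none = 8 ∨ (y : Vec) none = -8) := by
    generalize (y : Vec) (some 0) = b, (y : Vec) none = a at h7
    have : -2 < b ∧ b < 2 := by constructor <;> nlinarith [sq_nonneg a]
    have : -9 < a ∧ a < 9 := by constructor <;> nlinarith [sq_nonneg b]
    obtain ⟨_, _⟩ := this
    obtain ⟨_, _⟩ := this
    interval_cases a <;> interval_cases b <;> simp_all
  have : y = e8 none ∨ y = -e8 none := h9.2.imp (fun c => Subtype.ext (funext fun q => by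
    cases q <;> simp [e8_apply, c, h8, h9.1])) fun c => Subtype.ext (funext fun q => by
    cases q <;> simp [e8_apply, c, h8, h9.1])
  rcases this with rfl | rfl <;> simp only [cls_neg, cls_e8]

theorem comm_of_sq {G : Type*} [Group G] {s a : G} (h : s ^ 23 = 1) (k : Commute (s * s) a) :
    Commute s a := by
  rw [show s = (s * s) ^ 12 by rw [← pow_two, ← pow_mul, pow_succ, h, one_mul]]
  exact k.pow_left 12

theorem comm_Sh {a : Co0} (h : Sh * a * Sh⁻¹ = a ∨ Sh * a * Sh⁻¹ = negOne * a) : Sh * a = a * Sh := by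
  rcases h with h | h
  · exact mul_inv_eq_iff_eq_mul.1 h
  refine comm_of_sq Sh_23 (mul_inv_eq_iff_eq_mul.1 ?_)
  calc Sh * Sh * a * (Sh * Sh)⁻¹ = Sh * (Sh * a * Sh⁻¹) * Sh⁻¹ := by group
    _ = negOne * (Sh * a * Sh⁻¹) := by
      conv_lhs => rw [h, ← mul_assoc, negOne_comm]
      group
    _ = a := by rw [h, ← mul_assoc, negOne_mul_self, one_mul]

theorem cent23 {a : Co0} (h : Sh * a = a * Sh) {m : ℕ} (h2 : a ^ 2 ^ m = 1) : a = 1 ∨ a = negOne := by
  obtain ⟨e, σ, rfl⟩ := exists_mon (mem_Mon_of_csm (fix4 (k := a) (by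
    rw [← csm_mul, h, csm_mul, csm_v0 Sh_mem])))
  rw [Sh, ← mul_assoc, perm_sgC, mul_assoc, mul_assoc, ← map_mul, ← map_mul] at h
  obtain ⟨h3, h4⟩ := mon_eq h
  have h5 : ∀ p, sh.1 (σ.1 p) = σ.1 (sh.1 p) := fun p => congrFun (congrArg (fun t : M24 => ⇑t.1) h4) p
  have h6 : σ.1 none = none := by
    have := h5 none
    rw [show sh.1 none = none from rfl] at this
    revert this
    generalize σ.1 none = q
    revert q; decide +kernel
  obtain ⟨c, hc⟩ : ∃ c, σ.1 (some 0) = some c :=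
    Option.ne_none_iff_exists'.1 fun k => absurd (σ.1.injective (k.trans h6.symm)) (by decide)
  have h7 : σ = sh ^ c.val := Subtype.ext (Equiv.ext fun p => by
    rw [sh_pow]
    cases p with
    | none => exact h6
    | some x =>
      have := sh_const (f := fun p => (σ.1 p).bind fun y => p.map fun x => y - x) (fun p => by
        rw [← h5]; cases σ.1 p <;> cases p <;> simp [sh]) x
      rw [hc] at this
      revert this
      cases σ.1 (some x) <;> simp [sub_eq_iff_eq_add, add_comm])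
  have h8 : σ = 1 := by
    rw [← pow_one σ, ← (show Nat.gcd (2 ^ m) 23 = 1 from Nat.Coprime.pow_left m (by norm_num)),
      pow_gcd_eq_one]
    exact ⟨pow_eq_one_of_mon h2, by rw [h7, ← pow_mul, mul_comm, pow_mul, sh_23, one_pow]⟩
  rw [h8, map_one, mul_one, sgC_pm]
  exact fix_sh (by rw [h3]; exact d0_self _)

/-! ### Subgroups of index at most two -/

/-- `B` is a subgroup of index at most two in `H`. -/
structure Ix2 {G : Type*} [Group G] (H B : Subgroup G) : Prop where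
  le : B ≤ H
  mul : ∀ a ∈ H, ∀ b ∈ H, a ∉ B → b ∉ B → a * b ∈ B

namespace Ix2

variable {G : Type*} [Group G] {H B : Subgroup G} (h : Ix2 H B) {a b : G}
include h

theorem mul_iff (ha : a ∈ H) (hb : b ∈ H) : a * b ∈ B ↔ (a ∈ B ↔ b ∈ B) := by
  by_cases h1 : a ∈ B
  · simp [h1, B.mul_mem_cancel_left h1]
  by_cases h2 : b ∈ B
  · simp [h1, h2, B.mul_mem_cancel_right h2]
  · simp [h1, h2, h.mul a ha b hb h1 h2]

theorem conj_iff (ha : a ∈ H) (hb : b ∈ H) : a * b * a⁻¹ ∈ B ↔ b ∈ B := by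
  rw [h.mul_iff (mul_mem ha hb) (inv_mem ha), h.mul_iff ha hb, inv_mem_iff]; tauto

theorem comm (ha : a ∈ H) (hb : b ∈ H) : a * b * a⁻¹ * b ∈ B := by
  rw [h.mul_iff (mul_mem (mul_mem ha hb) (inv_mem ha)) hb, h.conj_iff ha hb]

theorem comm' (ha : a ∈ H) (hb : b ∈ H) : a * b * a⁻¹ * b⁻¹ ∈ B := by
  rw [h.mul_iff (mul_mem (mul_mem ha hb) (inv_mem ha)) (inv_mem hb), h.conj_iff ha hb, inv_mem_iff]

end Ix2

theorem sgn_perf {B : Subgroup Co0} (h : ∀ a b, sgC a ∉ B → sgC b ∉ B → sgC a * sgC b ∈ B)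
    (hi : ∀ σ a, sgC a ∈ B → sgC (pc σ a) ∈ B) (d : Cd) : sgC d ∈ B := by
  obtain ⟨c, hc⟩ := exists_not_d0
  refine irr (U := fun d => sgC d ∈ B) (sgC_zero ▸ B.one_mem) (fun a b h k => sgC_add a b ▸ B.mul_mem h k)
    hi (c := pc sh c + c) ?_ (mt fix_sh hc) d
  rw [sgC_add]
  by_cases k : sgC c ∈ B
  · exact B.mul_mem (hi _ _ k) k
  · exact h _ _ (fun k' => k (by simpa [← pc_mul, pc_one] using hi sh⁻¹ _ k')) k

theorem mon_perf {B : Subgroup Co0} (h : Ix2 Mon B) : Mon ≤ B := fun g hg => by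
  obtain ⟨e, σ, rfl⟩ := exists_mon hg
  refine B.mul_mem (sgn_perf (fun a b => h.mul _ (sgC_mem_Mon a) _ (sgC_mem_Mon b)) (fun σ a k => ?_) e) ?_
  · rw [← mon_conj 0]; exact (h.conj_iff (mon_mem 0 σ) (sgC_mem_Mon a)).2 k
  have : (B.comap perm).Normal := ⟨fun a ha g => by
    rw [Subgroup.mem_comap, map_mul, map_mul, map_inv]
    exact (h.conj_iff (perm_mem_Mon g) (perm_mem_Mon a)).2 ha⟩
  rcases Golay.simple_M24.eq_bot_or_eq_top_of_normal _ this with k | k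
  · refine (sh_sq_ne (Subgroup.mem_bot.1 (k ▸ ?_))).elim
    rw [Subgroup.mem_comap, map_mul, h.mul_iff (perm_mem_Mon _) (perm_mem_Mon _)]
  · exact (k ▸ Subgroup.mem_top σ : σ ∈ B.comap perm)

/-! ### Orders -/

def D0S : AddSubgroup Cd where
  carrier := {d | D0 d}
  zero_mem' := d0_zero
  add_mem' := D0.add
  neg_mem' {d} h := (neg_eq_of_add_eq_zero_left (cd_add_self d)).symm ▸ h

theorem card_D0S : Nat.card D0S = 2 := by
  rw [← SetLike.coe_sort_coe, show (D0S : Set Cd) = {0, om} from rfl, Nat.card_coe_set_eq,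
    Set.ncard_pair om_ne_zero.symm]

theorem card_quot : Nat.card (Cd ⧸ D0S) = 2 ^ 11 := by
  have := D0S.card_eq_card_quotient_mul_card_addSubgroup
  rw [card_D0S, Nat.card_eq_fintype_card, card_Cd] at this
  omega

theorem quot_eq {a b : Cd} : (a : Cd ⧸ D0S) = b ↔ D0 (a + b) := by
  rw [QuotientAddGroup.eq, neg_eq_of_add_eq_zero_left (cd_add_self a)]; rfl

theorem card_even : Nat.card {φ : Cd // φ ⬝ᵥ om = 0} = 2 ^ 11 := by
  have := card_perp_dB D0S
  rw [card_D0S, Nat.card_congr (Equiv.subtypeEquivRight (q := fun φ : Cd => φ ⬝ᵥ om = 0) fun φ =>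
    mem_perp_dB.trans ⟨fun h => h _ d0_om, fun h e he => by
      rcases he with rfl | rfl
      · exact dotProduct_zero _
      · exact h⟩)] at this
  omega

theorem relIndex_eq {G β : Type*} [Group G] {S0 S : Subgroup G} (T : G → β → Prop)
    (h1 : ∀ a ∈ S, ∃ b, T a b) (h2 : ∀ b, ∃ a ∈ S, T a b)
    (h3 : ∀ a ∈ S, ∀ a' ∈ S, ∀ b b', T a b → T a' b' → (b = b' ↔ a⁻¹ * a' ∈ S0)) :
    S0.relIndex S = Nat.card β := by
  choose f hf using h1
  refine Nat.card_congr (Equiv.ofBijective (Quotient.lift (fun a : S => f a a.2) fun a b h =>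
    (h3 _ a.2 _ b.2 _ _ (hf _ _) (hf _ _)).2 (QuotientGroup.leftRel_apply (s := S0.subgroupOf S).1 h)) ⟨?_, fun b => ?_⟩)
  · rintro ⟨a⟩ ⟨b⟩ h
    exact QuotientGroup.eq.2 ((h3 _ a.2 _ b.2 _ _ (hf _ _) (hf _ _)).1 h)
  · obtain ⟨a, ha, k⟩ := h2 b
    exact ⟨QuotientGroup.mk ⟨a, ha⟩, (h3 _ ha _ ha _ _ (hf _ _) k).2 (by simp)⟩

end Cfsg.Agent.Gr.Am
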