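import Mathlib
import Cfsg.Agent.Gr.Am.Lat

/-! Groups of shape `2^(1+24).Co1` in coordinates. -/

set_option autoImplicit false

namespace Cfsg.Agent.Gr.Am

open Matrix Cfsg.Agent.Spor Cfsg.Agent.Spor.Leech Cfsg.Agent.Gr.Rk Subgroup

attribute [local irreducible] sgC cls twoC csm perm negOne pc Sh

variable {G : Type*} [Group G]

/-- `Γ` is the graph of the map to the Conway group, `P` parametrises the extraspecial group. -/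
structure Fr (Γ : Subgroup (G × Co0)) (P : ZMod 2 → LL → G) : Prop where
  mul : ∀ e f a b, P e a * P f b = P (e + f + b.2 ⬝ᵥ a.1) (a + b)
  inj : ∀ {e f a b}, P e a = P f b → e = f ∧ a = b
  mem : ∀ e a, (P e a, 1) ∈ Γ
  neg : (1, negOne) ∈ Γ
  surj : ∀ g, ∃ c, (c, g) ∈ Γ
  ker : ∀ c, (c, 1) ∈ Γ → ∃ e a, c = P e a
  act : ∀ c g, (c, g) ∈ Γ → ∀ e a, ∃ f, c * P e a * c⁻¹ = P f (csm g a)

/-- The elements over a subgroup of the Conway group. -/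
def pre (Γ : Subgroup (G × Co0)) (B : Subgroup Co0) : Subgroup G where
  carrier := {c | ∃ g ∈ B, (c, g) ∈ Γ}
  one_mem' := ⟨1, B.one_mem, Γ.one_mem⟩
  mul_mem' := fun ⟨g, h, k⟩ ⟨g', h', k'⟩ => ⟨g * g', B.mul_mem h h', Γ.mul_mem k k'⟩
  inv_mem' := fun ⟨g, h, k⟩ => ⟨g⁻¹, B.inv_mem h, Γ.inv_mem k⟩

/-- The image of a subgroup in the Conway group. -/
def img (Γ : Subgroup (G × Co0)) (A : Subgroup G) : Subgroup Co0 where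
  carrier := {g | ∃ c ∈ A, (c, g) ∈ Γ}
  one_mem' := ⟨1, A.one_mem, Γ.one_mem⟩
  mul_mem' := fun ⟨g, h, k⟩ ⟨g', h', k'⟩ => ⟨g * g', A.mul_mem h h', Γ.mul_mem k k'⟩
  inv_mem' := fun ⟨g, h, k⟩ => ⟨g⁻¹, A.inv_mem h, Γ.inv_mem k⟩

def H0 (Γ : Subgroup (G × Co0)) (P : ZMod 2 → LL → G) : Subgroup G := pre Γ ⊤ ⊓ centralizer {P 1 v0}
def OO (Γ : Subgroup (G × Co0)) (P : ZMod 2 → LL → G) : Subgroup G := pre Γ MT.Sgn ⊓ centralizer {P 1 v0}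

def Ac (P : ZMod 2 → LL → G) (c : G) (g : Co0) (ε : LL → ZMod 2) : Prop :=
  ∀ e a, c * P e a * c⁻¹ = P (e + ε a) (csm g a)

def aS (U : LL → Prop) (h0 : U 0) (ha : ∀ a b, U a → U b → U (a + b)) : AddSubgroup LL where
  carrier := {a | U a}
  zero_mem' := h0
  add_mem' := ha _ _
  neg_mem' {a} h := (ll_neg a).symm ▸ h

def EvS : AddSubgroup LL := aS Ev0 t0_zero.v12.2 fun _ _ => Ev0.add
def V12S : AddSubgroup LL := aS V12 t0_zero.v12 fun _ _ => V12.add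
def T0S : AddSubgroup LL := aS T0 t0_zero fun _ _ => T0.add

variable {Γ : Subgroup (G × Co0)} {P : ZMod 2 → LL → G} {c c' h r : G} {g g' : Co0} {ε ε' : LL → ZMod 2}
  {e f : ZMod 2} {a b w : LL}

theorem conj_mem' (h1 : (c, g) ∈ Γ) (h2 : (c', g') ∈ Γ) : (c * c' * c⁻¹, g * g' * g⁻¹) ∈ Γ :=
  Γ.mul_mem (Γ.mul_mem h1 h2) (Γ.inv_mem h1)

theorem mem_H0 : h ∈ H0 Γ P ↔ (∃ g, (h, g) ∈ Γ) ∧ P 1 v0 * h = h * P 1 v0 :=
  and_congr ⟨fun ⟨g, _, k⟩ => ⟨g, k⟩, fun ⟨g, k⟩ => ⟨g, trivial, k⟩⟩ mem_centralizer_singleton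

theorem mem_OO : h ∈ OO Γ P ↔ (∃ d, (h, sgC d) ∈ Γ) ∧ P 1 v0 * h = h * P 1 v0 :=
  and_congr ⟨fun ⟨_, h, k⟩ => let ⟨d, e⟩ := mem_Sgn.1 h; ⟨d, e ▸ k⟩,
    fun ⟨d, k⟩ => ⟨_, mem_Sgn.2 ⟨d, rfl⟩, k⟩⟩ mem_centralizer_singleton

theorem OO_le : OO Γ P ≤ H0 Γ P := fun _ h =>
  mem_H0.2 ⟨let ⟨_, k⟩ := (mem_OO.1 h).1; ⟨_, k⟩, (mem_OO.1 h).2⟩

theorem Ac.mul (h : Ac P c g ε) (k : Ac P c' g' ε') :
    Ac P (c * c') (g * g') fun a => ε' a + ε (csm g' a) := fun e a => by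
  rw [csm_mul, ← add_assoc, ← h, ← k]; group

theorem Ac.inv (h : Ac P c g ε) : Ac P c⁻¹ g⁻¹ fun a => ε (csm g⁻¹ a) := fun e a => by
  have := h (e + ε (csm g⁻¹ a)) (csm g⁻¹ a)
  rw [add_assoc, z2_add_self, add_zero, ActH.csm_csm_inv] at this
  rw [← this]; group

theorem z2_ne : ∀ {e f : ZMod 2}, f ≠ e → f = e + 1 := by decide

theorem exists_odd : ∃ w, ¬ Ev0 w ∧ qL w = 0 := ⟨_, not_ev0_lam none, by rw [cls_lam]; simp [qL]⟩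

theorem exists_pol_even : ∃ a b, Ev0 a ∧ Ev0 b ∧ pol a b = 1 := by
  obtain ⟨d, hd⟩ := exists_not_d0
  obtain ⟨i, j, k⟩ := exists_wd_ne hd
  exact ⟨(d, 0), clB i j, zero_dotProduct _, (v12_clB i j).2, by rw [pol_clB, k]⟩

namespace Fr

variable (F : Fr Γ P)
include F

theorem zero : P 0 0 = 1 := by
  have := F.mul 0 0 0 0
  simp only [add_zero, Prod.snd_zero, zero_dotProduct] at this
  exact mul_eq_left.1 this

theorem z_mul (e : ZMod 2) (a : LL) : P 1 0 * P e a = P (e + 1) a := by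
  rw [F.mul, Prod.fst_zero, dotProduct_zero, add_zero, zero_add, add_comm]

theorem mul_z (e : ZMod 2) (a : LL) : P e a * P 1 0 = P (e + 1) a := by
  rw [F.mul, Prod.snd_zero, zero_dotProduct, add_zero, add_zero]

theorem z_sq : P 1 0 * P 1 0 = 1 := by rw [F.z_mul, z2_add_self, F.zero]
theorem z_ne : P 1 0 ≠ 1 := fun h => absurd (F.inj (h.trans F.zero.symm)).1 (by decide)
theorem sq (e : ZMod 2) (a : LL) : P e a * P e a = P (qL a) 0 := by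
  rw [F.mul, z2_add_self, zero_add, ll_add_self, qL]

theorem inv (e : ZMod 2) (a : LL) : (P e a)⁻¹ = P (e + qL a) a := inv_eq_of_mul_eq_one_right (by
  rw [F.mul, ll_add_self, ← add_assoc, z2_add_self, zero_add, qL, z2_add_self, F.zero])

theorem pow_four (e : ZMod 2) (a : LL) : P e a ^ 4 = 1 := by
  rw [show 4 = 2 + 2 from rfl, pow_add, pow_two, F.sq, F.sq, qL, Prod.snd_zero, zero_dotProduct, F.zero]

theorem acP (f : ZMod 2) (b : LL) : Ac P (P f b) 1 (pol b) := fun e a => by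
  rw [mul_inv_eq_iff_eq_mul, F.mul, F.mul, csm_one, add_comm b, pol]
  congr 1
  linear_combination -z2_add_self (b.2 ⬝ᵥ a.1)

theorem conj (f e : ZMod 2) (b a : LL) : P f b * P e a * (P f b)⁻¹ = P (e + pol b a) a := by
  rw [F.acP, csm_one]

theorem comm_iff : P f b * P e a = P e a * P f b ↔ pol b a = 0 := by
  rw [← mul_inv_eq_iff_eq_mul, F.conj]
  exact ⟨fun h => add_eq_left.1 (F.inj h).1, fun h => by rw [h, add_zero]⟩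

theorem z_comm (h : (c, g) ∈ Γ) : P 1 0 * c = c * P 1 0 := by
  obtain ⟨f, k⟩ := F.act _ _ h 1 0
  rw [csm_zero] at k
  rcases z2_cases f with rfl | rfl
  · exact (F.z_ne (by simpa [F.zero] using k)).elim
  · exact (mul_inv_eq_iff_eq_mul.1 k).symm

theorem exists_ac (h : (c, g) ∈ Γ) : ∃ ε, Ac P c g ε := by
  choose ε hε using F.act _ _ h 0
  refine ⟨ε, fun e a => ?_⟩
  rcases z2_cases e with rfl | rfl
  · rw [zero_add, hε]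
  · rw [add_comm, ← F.z_mul, ← hε, ← mul_assoc, ← mul_assoc, F.z_comm h, mul_assoc c (P 1 0), F.z_mul, zero_add]

theorem ac_add (h : Ac P c g ε) (a b : LL) :
    ε (a + b) + b.2 ⬝ᵥ a.1 = ε a + ε b + (csm g b).2 ⬝ᵥ (csm g a).1 := by
  have : c * P 0 a * c⁻¹ * (c * P 0 b * c⁻¹) = c * (P 0 a * P 0 b) * c⁻¹ := by group
  rw [F.mul, h, h, h, F.mul] at this
  linear_combination -(F.inj this).1

theorem pm_of (h : (P e a, g) ∈ Γ) : g = 1 ∨ g = negOne := eq_of_csm fun b => by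
  obtain ⟨f, k⟩ := F.act _ _ h 0 b
  rw [F.conj] at k
  exact (F.inj k).2.symm

theorem pm_of_one (h : (1, g) ∈ Γ) : g = 1 ∨ g = negOne := F.pm_of (F.zero ▸ h)

theorem mem_neg (h : (c, g) ∈ Γ) : (c, negOne * g) ∈ Γ := by simpa using Γ.mul_mem F.neg h

theorem ker' (h : (c, g) ∈ Γ) (k : g = 1 ∨ g = negOne) : ∃ e a, c = P e a := by
  rcases k with rfl | rfl
  · exact F.ker _ h
  · exact F.ker _ (negOne_mul_self ▸ F.mem_neg h)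

theorem eq_or (h : (c, g) ∈ Γ) (k : (c, g') ∈ Γ) : g' = g ∨ g' = negOne * g :=
  (F.pm_of_one (g := g' * g⁻¹) (by simpa using Γ.mul_mem k (Γ.inv_mem h))).imp mul_inv_eq_one.1
    mul_inv_eq_iff_eq_mul.1

theorem csm_eq (h : (c, g) ∈ Γ) (k : (c, g') ∈ Γ) (a : LL) : csm g' a = csm g a := by
  rcases F.eq_or h k with rfl | rfl
  · rfl
  · rw [csm_mul, csm_negOne]

theorem mem_of {B : Subgroup Co0} (hB : negOne ∈ B) (h : c ∈ pre Γ B) (k : (c, g) ∈ Γ) : g ∈ B := by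
  obtain ⟨g', h1, h2⟩ := h
  rcases F.eq_or h2 k with rfl | rfl
  exacts [h1, B.mul_mem hB h1]

theorem eq_mul (h : (c, g) ∈ Γ) (k : (c', g) ∈ Γ) : ∃ e a, c' = c * P e a := by
  obtain ⟨e, a, t⟩ := F.ker (c⁻¹ * c') (by simpa using Γ.mul_mem (Γ.inv_mem h) k)
  exact ⟨e, a, by rw [← t, mul_inv_cancel_left]⟩

theorem d0_of (h : (P e a, sgC b.1) ∈ Γ) : D0 b.1 := sgC_pm.1 (F.pm_of h)

theorem remark (k : Ct) : Fr (Γ.comap ((MonoidHom.id G).prodMap (MulAut.conj k.1.2).toMonoidHom))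
    fun e a => P (e + eps k a) (csm k.1.2 a) where
  mul e f a b := by
    rw [F.mul, csm_add]
    congr 1
    linear_combination -eps_add k a b
  inj h := by
    obtain ⟨h1, h2⟩ := F.inj h
    obtain rfl := ActH.csm_injective _ h2
    exact ⟨add_right_cancel h1, rfl⟩
  mem e a := by simpa using F.mem _ _
  neg := by simpa [negOne_comm] using F.neg
  surj g := F.surj (k.1.2 * g * k.1.2⁻¹)
  ker c h := by
    obtain ⟨e, a, rfl⟩ := F.ker c (by simpa using h)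
    exact ⟨e + eps k (csm k.1.2⁻¹ a), csm k.1.2⁻¹ a, by
      rw [add_assoc, z2_add_self, add_zero, ActH.csm_csm_inv]⟩
  act c g h e a := by
    obtain ⟨f, t⟩ := F.act c (k.1.2 * g * k.1.2⁻¹) h (e + eps k a) (csm k.1.2 a)
    exact ⟨f + eps k (csm g a), by rw [t, csm_conj, add_assoc, z2_add_self, add_zero]⟩

/-- The preimage of a subgroup of the lattice modulo two. -/
def lf (U : AddSubgroup LL) : Subgroup G where
  carrier := {c | ∃ e a, a ∈ U ∧ c = P e a}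
  one_mem' := ⟨0, 0, U.zero_mem, F.zero.symm⟩
  mul_mem' := fun ⟨_, _, h, k⟩ ⟨_, _, h', k'⟩ => ⟨_, _, U.add_mem h h', (congrArg₂ _ k k').trans (F.mul _ _ _ _)⟩
  inv_mem' := fun ⟨_, _, h, k⟩ => ⟨_, _, h, (congrArg _ k).trans (F.inv _ _)⟩

theorem mem_lf {U : AddSubgroup LL} : P e a ∈ F.lf U ↔ a ∈ U :=
  ⟨fun ⟨_, _, h, k⟩ => (F.inj k).2 ▸ h, fun h => ⟨_, _, h, rfl⟩⟩

theorem lf_mono {U W : AddSubgroup LL} (h : U ≤ W) : F.lf U ≤ F.lf W :=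
  fun _ ⟨e, a, k, t⟩ => ⟨e, a, h k, t⟩

theorem finite_lf (U : AddSubgroup LL) : Finite (F.lf U) :=
  Set.Finite.subset (Set.finite_range fun t : ZMod 2 × LL => P t.1 t.2) fun _ ⟨e, a, _, k⟩ => ⟨(e, a), k.symm⟩

theorem V_le_W : F.lf T0S ≤ F.lf V12S := F.lf_mono fun _ h => T0.v12 h
theorem W_le_Q : F.lf V12S ≤ F.lf EvS := F.lf_mono fun _ h => h.2

theorem mem_V : c ∈ F.lf T0S ↔ c = 1 ∨ c = P 1 0 ∨ c = P 1 v0 ∨ c = P 0 v0 := by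
  refine ⟨?_, ?_⟩
  · rintro ⟨e, a, rfl | rfl, rfl⟩ <;> rcases z2_cases e with rfl | rfl <;> simp [F.zero]
  · rintro (rfl | rfl | rfl | rfl)
    exacts [one_mem _, F.mem_lf.2 t0_zero, F.mem_lf.2 t0_v0, F.mem_lf.2 t0_v0]

theorem V_sq (h : c ∈ F.lf V12S) : c * c = 1 := by
  obtain ⟨e, a, k, rfl⟩ := h
  rw [F.sq, V12.qL k, F.zero]

theorem W_comm (h : c ∈ F.lf V12S) (k : c' ∈ F.lf V12S) : c * c' = c' * c := by
  obtain ⟨e, a, h, rfl⟩ := h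
  obtain ⟨f, b, k, rfl⟩ := k
  exact F.comm_iff.2 (V12.pol h k)

theorem P_OO : P e a ∈ OO Γ P ↔ Ev0 a := by
  rw [mem_OO, F.comm_iff, ev0_iff]
  exact and_iff_right ⟨0, sgC_zero ▸ F.mem e a⟩

theorem P_H0 : P e a ∈ H0 Γ P ↔ Ev0 a := by
  rw [mem_H0, F.comm_iff, ev0_iff]
  exact and_iff_right ⟨1, F.mem e a⟩

theorem Q_le_OO : F.lf EvS ≤ OO Γ P := fun _ ⟨_, _, h, k⟩ => k ▸ F.P_OO.2 h

theorem mon_of (hh : h ∈ H0 Γ P) (k : (h, g) ∈ Γ) : g ∈ Mon := by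
  obtain ⟨f, t⟩ := F.act _ _ k 1 v0
  rw [← (mem_H0.1 hh).2, mul_inv_cancel_right] at t
  exact mem_Mon_of_csm (F.inj t).2.symm

theorem exists_H0 (hg : g ∈ Mon) : ∃ h ∈ H0 Γ P, (h, g) ∈ Γ := by
  obtain ⟨c, k⟩ := F.surj g
  obtain ⟨f, t⟩ := F.act _ _ k 1 v0
  rw [csm_v0 hg] at t
  rcases z2_cases f with rfl | rfl
  · obtain ⟨w, hw, -⟩ := exists_odd
    have k' : (P 0 w * c, g) ∈ Γ := by simpa using Γ.mul_mem (F.mem 0 w) k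
    refine ⟨_, mem_H0.2 ⟨⟨g, k'⟩, (mul_inv_eq_iff_eq_mul.1 ?_).symm⟩, k'⟩
    calc _ = P 0 w * (c * P 1 v0 * c⁻¹) * (P 0 w)⁻¹ := by group
      _ = _ := by rw [t, F.conj, pol_comm, (z2_cases _).resolve_left (mt ev0_iff.2 hw), zero_add]
  · exact ⟨c, mem_H0.2 ⟨⟨g, k⟩, (mul_inv_eq_iff_eq_mul.1 t).symm⟩, k⟩

theorem exists_OO (d : Cd) : ∃ r ∈ OO Γ P, (r, sgC d) ∈ Γ :=
  let ⟨r, h, k⟩ := F.exists_H0 (sgC_mem_Mon d); ⟨r, mem_OO.2 ⟨⟨d, k⟩, (mem_H0.1 h).2⟩, k⟩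

theorem V_comm (hh : h ∈ H0 Γ P) (hc : c ∈ F.lf T0S) : c * h = h * c := by
  obtain ⟨⟨g, k⟩, t⟩ := mem_H0.1 hh
  rcases F.mem_V.1 hc with rfl | rfl | rfl | rfl
  · rw [one_mul, mul_one]
  · exact F.z_comm k
  · exact t
  · rw [show (0 : ZMod 2) = 1 + 1 from rfl, ← F.z_mul, mul_assoc, t, ← mul_assoc, F.z_comm k, mul_assoc]

theorem conj_lf {U : AddSubgroup LL} (hU : ∀ a ∈ U, csm g a ∈ U) (k : (h, g) ∈ Γ) (hc : c ∈ F.lf U) :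
    h * c * h⁻¹ ∈ F.lf U := by
  obtain ⟨e, a, t, rfl⟩ := hc
  obtain ⟨f, u⟩ := F.act _ _ k e a
  exact u ▸ F.mem_lf.2 (hU a t)

theorem conj_Q (hh : h ∈ H0 Γ P) (hc : c ∈ F.lf EvS) : h * c * h⁻¹ ∈ F.lf EvS :=
  let ⟨_, k⟩ := (mem_H0.1 hh).1; F.conj_lf (fun _ => (ev0_csm (F.mon_of hh k)).2) k hc

theorem conj_W (hh : h ∈ H0 Γ P) (hc : c ∈ F.lf V12S) : h * c * h⁻¹ ∈ F.lf V12S :=
  let ⟨_, k⟩ := (mem_H0.1 hh).1; F.conj_lf (fun _ => v12_csm (F.mon_of hh k)) k hc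

theorem conj_OO (hh : h ∈ H0 Γ P) (hr : r ∈ OO Γ P) : h * r * h⁻¹ ∈ OO Γ P := by
  obtain ⟨g, k⟩ := (mem_H0.1 hh).1
  obtain ⟨d, t⟩ := (mem_OO.1 hr).1
  obtain ⟨e, σ, rfl⟩ := exists_mon (F.mon_of hh k)
  exact mem_OO.2 ⟨⟨pc σ d, mon_conj e d σ ▸ conj_mem' k t⟩,
    (mem_H0.1 (mul_mem (mul_mem hh (OO_le hr)) (inv_mem hh))).2⟩

theorem Q_of (hr : r ∈ H0 Γ P) {d : Cd} (k : (r, sgC d) ∈ Γ) (hd : D0 d) : r ∈ F.lf EvS := by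
  obtain ⟨e, a, rfl⟩ := F.ker' k (sgC_pm.2 hd)
  exact F.mem_lf.2 (F.P_H0.1 hr)

theorem comm_mem (k : (c, g) ∈ Γ) (e : ZMod 2) (a : LL) :
    ∃ f, c * P e a * c⁻¹ * (P e a)⁻¹ = P f (csm g a + a) := by
  obtain ⟨f, t⟩ := F.act _ _ k e a
  exact ⟨_, by rw [t, F.inv, F.mul]⟩

theorem W_iff (hr : r ∈ OO Γ P) : r ∈ F.lf V12S ↔ ∀ o ∈ OO Γ P, o * r * o⁻¹ * r⁻¹ ∈ F.lf T0S := by
  refine ⟨?_, fun H => ?_⟩
  · rintro ⟨e, a, ha, rfl⟩ o ho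
    obtain ⟨d, k⟩ := (mem_OO.1 ho).1
    obtain ⟨f, t⟩ := F.comm_mem k e a
    exact t ▸ F.mem_lf.2 ((v12_iff ha.2).1 ha d)
  obtain ⟨d, k⟩ := (mem_OO.1 hr).1
  obtain ⟨e, a, ha, rfl⟩ := F.Q_of (OO_le hr) k (d0_of_even fun w hw => by
    obtain ⟨f, t⟩ := F.comm_mem k 0 w
    have := inv_mem (H _ (F.P_OO.2 hw : P 0 w ∈ _))
    rw [show (P 0 w * r * (P 0 w)⁻¹ * r⁻¹)⁻¹ = r * P 0 w * r⁻¹ * (P 0 w)⁻¹ by group, t] at this
    exact F.mem_lf.1 this)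
  refine F.mem_lf.2 ((v12_iff ha).2 fun d => ?_)
  obtain ⟨o, ho, k⟩ := F.exists_OO d
  obtain ⟨f, t⟩ := F.comm_mem k e a
  exact F.mem_lf.1 (t ▸ H o ho)

theorem Q_iff (hr : r ∈ OO Γ P) :
    r ∈ F.lf EvS ↔ ∀ w ∈ F.lf V12S, r * w * r⁻¹ * w⁻¹ = 1 ∨ r * w * r⁻¹ * w⁻¹ = P 1 0 := by
  refine ⟨?_, fun H => ?_⟩
  · rintro ⟨e, a, -, rfl⟩ _ ⟨f, b, -, rfl⟩
    rw [F.conj, mul_inv_eq_one, mul_inv_eq_iff_eq_mul, F.z_mul]
    rcases z2_cases (pol a b) with h | h <;> simp [h]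
  obtain ⟨d, k⟩ := (mem_OO.1 hr).1
  refine F.Q_of (OO_le hr) k (d0_of_v12 fun w hw => ?_)
  obtain ⟨f, t⟩ := F.comm_mem k 0 w
  have := H _ (F.mem_lf.2 hw : P 0 w ∈ _)
  rw [t, ← F.zero] at this
  exact ll_eq_of_add (this.elim (fun h => (F.inj h).2) fun h => (F.inj h).2)

theorem V_of_comm (hc : (c, Sh) ∈ Γ) (hr : r ∈ OO Γ P) (k : c * r * c⁻¹ * r⁻¹ ∈ F.lf T0S) :
    r ∈ F.lf T0S := by
  obtain ⟨d, t⟩ := (mem_OO.1 hr).1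
  obtain ⟨e, a, ha, rfl⟩ := F.Q_of (OO_le hr) t (fix_sh (sgC_pm.1 (by
    obtain ⟨e, a, -, u⟩ := k
    refine F.pm_of (e := e) (a := a) ?_
    rw [← u, sgC_add, ← Sh_sgC]
    simpa [inv_eq_of_mul_eq_one_left (sgC_mul_self d)] using Γ.mul_mem (conj_mem' hc t) (Γ.inv_mem t))))
  obtain ⟨f, u⟩ := F.comm_mem hc e a
  exact F.mem_lf.2 (t0_of_fix ha (F.mem_lf.1 (u ▸ k)))

theorem V_of_cent (hr : ∃ g, (r, g) ∈ Γ) (k : ∀ c ∈ F.lf EvS, r * c * r⁻¹ * c⁻¹ ∈ F.lf T0S) (h0 : r ∈ H0 Γ P) :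
    r ∈ F.lf EvS := by
  obtain ⟨g, t⟩ := hr
  obtain ⟨e, σ, rfl⟩ := exists_mon (F.mon_of h0 t)
  have H : ∀ w, Ev0 w → T0 (csm (sgC e * perm σ) w + w) := fun w hw => by
    obtain ⟨f, u⟩ := F.comm_mem t 0 w
    exact F.mem_lf.1 (u ▸ k _ (F.mem_lf.2 hw))
  obtain rfl : σ = 1 := Subtype.ext (Equiv.ext fun p => by_contra fun hp => by
    obtain ⟨q, -, hq⟩ := exists_pt (δ := 1) [p, σ.1 p] (by rw [wt_one]; simp)
    simp only [List.mem_cons, List.not_mem_nil, or_false, not_or] at hq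
    have h1 := (t0_iff.1 (H _ (v12_clB p q).2)).2
    rw [Prod.snd_add, ((v12_clB p q).csm_mon rfl e σ).2, pm_e2] at h1
    rcases (sy_e2_eq_iff (σ.1.injective.ne (Ne.symm hq.1)) (Ne.symm hq.1)).1 (cd_eq_of_add h1) with u | u
    exacts [hp u.1, hq.2 u.1.symm])
  rw [map_one, mul_one] at t H
  exact F.Q_of h0 t (d0_of_even H)

theorem perf {B : Subgroup G} (hB : Ix2 (H0 Γ P) B) : H0 Γ P ≤ B := fun h hh => by
  have hz : P 1 0 ∈ B := by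
    obtain ⟨a, b, ha, hb, k⟩ := exists_pol_even
    have := hB.comm' (F.P_H0.2 ha : P 0 a ∈ _) (F.P_H0.2 hb : P 0 b ∈ _)
    rwa [F.conj, k, ← F.z_mul, mul_inv_cancel_right] at this
  have he : ∀ e f a, P e a ∈ B → P f a ∈ B := fun e f a k => by
    by_cases t : f = e
    · rwa [t]
    · rw [z2_ne t, ← F.z_mul]; exact mul_mem hz k
  have hU : MI fun w => Ev0 w ∧ P 0 w ∈ B := ⟨⟨t0_zero.v12.2, F.zero ▸ one_mem _⟩,
    fun a b h k => ⟨h.1.add k.1, he _ _ _ (F.mul _ _ _ _ ▸ mul_mem h.2 k.2)⟩, fun g hg a k => by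
      obtain ⟨c, hc, t⟩ := F.exists_H0 hg
      obtain ⟨f, u⟩ := F.act _ _ t 0 a
      exact ⟨(ev0_csm hg).2 k.1, he _ _ _ (u ▸ (hB.conj_iff hc (F.P_H0.2 k.1)).2 k.2)⟩⟩
  have hQ : ∀ e a, Ev0 a → P e a ∈ B := fun e a ha => by
    obtain ⟨d, hd⟩ := exists_not_d0
    have hw : Ev0 (d, 0) := zero_dotProduct _
    obtain ⟨c, hc, t⟩ := F.exists_H0 Sh_mem
    obtain ⟨f, u⟩ := F.comm_mem t 0 (d, 0)
    refine he _ _ _ (hU.even ⟨((ev0_csm Sh_mem).2 hw).add hw, he _ _ _ (u ▸ hB.comm' hc (F.P_H0.2 hw))⟩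
      (fun k => hd (fix_sh ((D0.add (fst_csm hw 0 sh) k.1).of_eq ?_))) ha).2
    rw [Prod.fst_add, ← Sh_eq, add_add_add_comm, cd_add_self, zero_add]
  obtain ⟨g, k⟩ := (mem_H0.1 hh).1
  obtain ⟨b, hb, t⟩ := mon_perf (B := img Γ B) ⟨fun g ⟨c, hc, t⟩ => F.mon_of (hB.le hc) t, fun a ha b hb h1 h2 => by
    obtain ⟨c, hc, t⟩ := F.exists_H0 ha
    obtain ⟨c', hc', t'⟩ := F.exists_H0 hb
    exact ⟨c * c', hB.mul _ hc _ hc' (fun u => h1 ⟨c, u, t⟩) fun u => h2 ⟨c', u, t'⟩, Γ.mul_mem t t'⟩⟩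
    (F.mon_of hh k)
  obtain ⟨e, a, rfl⟩ := F.eq_mul t k
  exact mul_mem hb (hQ _ _ (F.P_H0.1 ((mul_mem_cancel_left (hB.le hb)).1 hh)))

end Fr

end Cfsg.Agent.Gr.Am
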