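import Mathlib
import Cfsg.Agent.Gr.Am.Fr

/-! Rigidity of the triality automorphism of `2^(11+22).M24`. -/

set_option autoImplicit false

namespace Cfsg.Agent.Gr.Am

open Cfsg.Agent.Spor Cfsg.Agent.Spor.Leech Cfsg.Agent.Gr.Rk Subgroup

attribute [local irreducible] sgC cls twoC csm perm negOne pc Sh

variable {G G' : Type*} [Group G] [Group G']

/-- Pairs of elements acting in the same way on the extraspecial groups. -/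
def Dl (Γ : Subgroup (G × Co0)) (P : ZMod 2 → LL → G) (Γ' : Subgroup (G' × Co0)) (P' : ZMod 2 → LL → G') :
    Subgroup (G × G') where
  carrier := {t | ∃ g ε, (t.1, g) ∈ Γ ∧ (t.2, g) ∈ Γ' ∧ Ac P t.1 g ε ∧ Ac P' t.2 g ε}
  one_mem' := ⟨1, 0, Γ.one_mem, Γ'.one_mem, fun e a => by simp [csm_one], fun e a => by simp [csm_one]⟩
  mul_mem' := fun ⟨_, _, a, b, c, d⟩ ⟨_, _, a', b', c', d'⟩ =>
    ⟨_, _, Γ.mul_mem a a', Γ'.mul_mem b b', c.mul c', d.mul d'⟩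
  inv_mem' := fun ⟨_, _, a, b, c, d⟩ => ⟨_, _, Γ.inv_mem a, Γ'.inv_mem b, c.inv, d.inv⟩

variable {Γ : Subgroup (G × Co0)} {P : ZMod 2 → LL → G} {Γ' : Subgroup (G' × Co0)} {P' : ZMod 2 → LL → G'}
  {c h x y r : G} {k x' y' : G'} {g : Co0} {E : Subgroup (G × G')}

theorem dl_swap (h : (c, k) ∈ Dl Γ P Γ' P') : (k, c) ∈ Dl Γ' P' Γ P :=
  let ⟨_, _, a, b, c, d⟩ := h; ⟨_, _, b, a, d, c⟩

theorem mul_mem2 {a b : G} {a' b' : G'} (h : (a, a') ∈ E) (k : (b, b') ∈ E) : (a * b, a' * b') ∈ E :=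
  E.mul_mem h k

theorem inv_mem2 {a : G} {a' : G'} (h : (a, a') ∈ E) : (a⁻¹, a'⁻¹) ∈ E := E.inv_mem h

theorem div_mem2 {a : G} {a' b' : G'} (h : (a, a') ∈ E) (k : (a, b') ∈ E) : (1, a'⁻¹ * b') ∈ E := by
  simpa using mul_mem2 (inv_mem2 h) k

theorem dl_H0 (F : Fr Γ P) (t : (c, k) ∈ Dl Γ P Γ' P') (h : c ∈ H0 Γ P) : k ∈ H0 Γ' P' := by
  obtain ⟨g, ε, -, b, c, d⟩ := t
  have := c 1 v0
  rw [← (mem_H0.1 h).2, mul_inv_cancel_right] at this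
  refine mem_H0.2 ⟨⟨g, b⟩, (mul_inv_eq_iff_eq_mul.1 ?_).symm⟩
  rw [d, ← (F.inj this).1, ← (F.inj this).2]

section
variable (F : Fr Γ P) (F' : Fr Γ' P')
include F F'

theorem dl_P (e f : ZMod 2) (a : LL) : (P e a, P' f a) ∈ Dl Γ P Γ' P' :=
  ⟨1, _, F.mem e a, F'.mem f a, F.acP e a, F'.acP f a⟩

theorem dl_z : (1, P' 1 0) ∈ Dl Γ P Γ' P' := F.zero ▸ dl_P F F' 0 1 0

theorem dl_tot (h : (c, g) ∈ Γ) : ∃ k, (c, k) ∈ Dl Γ P Γ' P' := by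
  obtain ⟨k, t⟩ := F'.surj g
  obtain ⟨ε, h1⟩ := F.exists_ac h
  obtain ⟨ε', h2⟩ := F'.exists_ac t
  obtain ⟨l, hl⟩ := ActH.exists_pol (f := fun a => ε a + ε' a) fun a b => by
    linear_combination F.ac_add h1 a b + F'.ac_add h2 a b - z2_add_self (b.2 ⬝ᵥ a.1) +
      z2_add_self ((csm g b).2 ⬝ᵥ (csm g a).1)
  refine ⟨k * P' 0 l, g, ε, h, by simpa using Γ'.mul_mem t (F'.mem 0 l), h1, fun e a => ?_⟩
  have := h2.mul (F'.acP 0 l) e a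
  simp only [mul_one, csm_one, ← hl, add_assoc, z2_add_self, add_zero] at this
  exact this

theorem dl_one (h : (1, k) ∈ Dl Γ P Γ' P') : k = 1 ∨ k = P' 1 0 := by
  obtain ⟨g, ε, a, b, c, d⟩ := h
  obtain ⟨e, l, rfl⟩ := F'.ker' b (F.pm_of_one a)
  obtain rfl : l = 0 := eq_zero_of_pol fun w => by
    have h1 := c 0 w
    have h2 := d 0 w
    rw [one_mul, inv_one, mul_one] at h1
    rw [F'.conj, ← (F.inj h1).1, zero_add] at h2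
    exact (F'.inj h2).1
  rcases z2_cases e with rfl | rfl
  exacts [Or.inl F'.zero, Or.inr rfl]

theorem dl_over (t : (c, k) ∈ Dl Γ P Γ' P') (h : (c, g) ∈ Γ) : (k, g) ∈ Γ' := by
  obtain ⟨g, ε, a, b, -, -⟩ := t
  rcases F.eq_or a h with rfl | rfl
  exacts [b, F'.mem_neg b]

end

/-- The induced isomorphism modulo the four-groups. -/
def DV (_ : Fr Γ P) (F' : Fr Γ' P') : Subgroup (G × G') where
  carrier := {t | t.1 ∈ H0 Γ P ∧ t.2 ∈ H0 Γ' P' ∧ ∃ v ∈ F'.lf T0S, (t.1, t.2 * v) ∈ Dl Γ P Γ' P'}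
  one_mem' := ⟨one_mem _, one_mem _, 1, one_mem _, by rw [mul_one]; exact one_mem _⟩
  mul_mem' := fun {a b} ⟨a1, a2, v, a3, a4⟩ ⟨b1, b2, w, b3, b4⟩ =>
    ⟨mul_mem a1 b1, mul_mem a2 b2, v * w, mul_mem a3 b3, by
      have := mul_mem2 a4 b4
      rwa [mul_assoc, ← mul_assoc v, F'.V_comm b2 a3, mul_assoc, ← mul_assoc] at this⟩
  inv_mem' := fun {a} ⟨a1, a2, v, a3, a4⟩ => ⟨inv_mem a1, inv_mem a2, v⁻¹, inv_mem a3, by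
    have := inv_mem2 a4
    rwa [← F'.V_comm a2 a3, mul_inv_rev] at this⟩

theorem dv_of (F : Fr Γ P) (F' : Fr Γ' P') (t : (h, k) ∈ Dl Γ P Γ' P') (hh : h ∈ H0 Γ P) :
    (h, k) ∈ DV F F' := ⟨hh, dl_H0 F t hh, 1, one_mem _, by rwa [mul_one]⟩

/-- The graph of an isomorphism modulo the four-groups. -/
structure Good (F : Fr Γ P) (F' : Fr Γ' P') (E : Subgroup (G × G')) : Prop where
  le : ∀ {h k}, (h, k) ∈ E → h ∈ H0 Γ P ∧ k ∈ H0 Γ' P'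
  tot1 : ∀ h ∈ H0 Γ P, ∃ k, (h, k) ∈ E
  tot2 : ∀ k ∈ H0 Γ' P', ∃ h, (h, k) ∈ E
  v1 : ∀ {v}, (v, 1) ∈ E ↔ v ∈ F.lf T0S
  v2 : ∀ {v}, (1, v) ∈ E ↔ v ∈ F'.lf T0S
  sg : ∀ {h k a b}, (h, k) ∈ E → (h, a) ∈ Γ → (k, b) ∈ Γ' → ∃ e, b = sgC e * a
  qq : ∀ {h k}, (h, k) ∈ E → h ∈ F.lf EvS → k ∈ F'.lf EvS

variable {F : Fr Γ P} {F' : Fr Γ' P'}

theorem Good.mulV (H : Good F F' E) (t : (h, k) ∈ E) {k' : G'} (v : k⁻¹ * k' ∈ F'.lf T0S) : (h, k') ∈ E := by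
  simpa using mul_mem2 t (H.v2.2 v)

theorem Good.sign (H : Good F F' E) {e f e' f' : ZMod 2} {a b : LL} (t : (P e a, P' f b) ∈ E) :
    (P e' a, P' f' b) ∈ E := by
  have := mul_mem2 (mul_mem2 t (H.v1.2 (F.mem_lf.2 t0_zero : P (e + e') 0 ∈ _)))
    (H.v2.2 (F'.mem_lf.2 t0_zero : P' (f + f') 0 ∈ _))
  simpa [F.mul, F'.mul, ← add_assoc, z2_add_self] using this

theorem Good.core (H : Good F F' E) (h1 : (y, y') ∈ E) (h2 : (y, Sh) ∈ Γ) (h3 : (y', Sh) ∈ Γ')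
    (e f : ZMod 2) {a : LL} (ha : Ev0 a) : (P e a, P' f a) ∈ E := by
  let T : Subgroup (Co0 × Co0) :=
    { carrier := {t | ∃ h k, (h, k) ∈ E ∧ (h, t.1) ∈ Γ ∧ (k, t.2) ∈ Γ'}
      one_mem' := ⟨1, 1, one_mem _, one_mem _, one_mem _⟩
      mul_mem' := fun ⟨_, _, a, b, c⟩ ⟨_, _, a', b', c'⟩ =>
        ⟨_, _, mul_mem2 a a', Γ.mul_mem b b', Γ'.mul_mem c c'⟩
      inv_mem' := fun ⟨_, _, a, b, c⟩ => ⟨_, _, inv_mem2 a, Γ.inv_mem b, Γ'.inv_mem c⟩ }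
  refine H.sign (Am.core (T := T) (F := fun a b => (P 0 a, P' 0 b) ∈ E) (fun g hg => ?_) (fun g hg => ?_)
    (fun a b ⟨_, _, t⟩ => H.sg t.1 t.2.1 t.2.2) ⟨_, _, h1, h2, h3⟩ ⟨1, 1, one_mem _, one_mem _, F'.neg⟩
    ⟨1, 1, one_mem _, F.neg, one_mem _⟩ (fun b ⟨h, k, t1, t2, t3⟩ => ?_) (fun a ha => ?_)
    (fun a b t => ⟨F.P_H0.1 (H.le t).1, F'.P_H0.1 (H.le t).2⟩)
    (fun a b c d t u => H.sign (F.mul _ _ _ _ ▸ F'.mul _ _ _ _ ▸ mul_mem2 t u)) (fun a b t => ?_)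
    (fun a b t u => by simpa using mul_mem2 (H.v1.2 (F.mem_lf.2 t)) (H.v2.2 (F'.mem_lf.2 u)))
    (fun g g' a b ⟨h, k, t1, t2, t3⟩ u => ?_) ha)
  · obtain ⟨h, hh, t⟩ := F.exists_H0 hg
    obtain ⟨k, u⟩ := H.tot1 h hh
    obtain ⟨g', v⟩ := (mem_H0.1 (H.le u).2).1
    exact ⟨g', h, k, u, t, v⟩
  · obtain ⟨h, hh, t⟩ := F'.exists_H0 hg
    obtain ⟨k, u⟩ := H.tot2 h hh
    obtain ⟨g', v⟩ := (mem_H0.1 (H.le u).1).1
    exact ⟨g', k, h, u, v, t⟩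
  · obtain ⟨e, a, -, rfl⟩ := H.qq t1 (F.Q_of (H.le t1).1 (d := 0) (sgC_zero ▸ t2) d0_zero)
    exact F'.pm_of t3
  · obtain ⟨k, u⟩ := H.tot1 _ (F.P_H0.2 ha : P 0 a ∈ _)
    obtain ⟨e, b, -, rfl⟩ := H.qq u (F.mem_lf.2 ha)
    exact ⟨b, H.sign u⟩
  · refine ⟨fun u => F'.mem_lf.1 (H.v2.1 ?_ : P' 0 b ∈ _), fun u => F.mem_lf.1 (H.v1.1 ?_ : P 0 a ∈ _)⟩
    · simpa using mul_mem2 (inv_mem2 (H.v1.2 (F.mem_lf.2 u : P 0 a ∈ _))) t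
    · simpa using mul_mem2 (inv_mem2 (H.v2.2 (F'.mem_lf.2 u : P' 0 b ∈ _))) t
  · obtain ⟨e, v⟩ := F.act _ _ t2 0 a
    obtain ⟨f, w⟩ := F'.act _ _ t3 0 b
    exact H.sign (v ▸ w ▸ mul_mem2 (mul_mem2 t1 u) (inv_mem2 t1))

theorem dv_comm (t : (h, k) ∈ DV F F') (e : ZMod 2) {a : LL} (ha : V12 a) : ∃ f b,
    h * P e a * h⁻¹ * (P e a)⁻¹ = P f b ∧ k * P' e a * k⁻¹ * (P' e a)⁻¹ = P' f b := by
  obtain ⟨-, -, v, hv, g, ε, -, -, c, d⟩ := t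
  have := d e a
  rw [mul_assoc k, F'.W_comm (F'.V_le_W hv) (F'.mem_lf.2 ha), mul_inv_rev, ← mul_assoc, ← mul_assoc,
    mul_inv_cancel_right] at this
  exact ⟨_, _, by rw [c, F.inv, F.mul], by rw [this, F'.inv, F'.mul]⟩

theorem good_dv : Good F F' (DV F F') where
  le t := ⟨t.1, t.2.1⟩
  tot1 h hh := by
    obtain ⟨g, t⟩ := (mem_H0.1 hh).1
    obtain ⟨k, u⟩ := dl_tot F F' t
    exact ⟨k, dv_of F F' u hh⟩
  tot2 k hh := by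
    obtain ⟨g, t⟩ := (mem_H0.1 hh).1
    obtain ⟨h, u⟩ := dl_tot F' F t
    exact ⟨h, dv_of F F' (dl_swap u) (dl_H0 F' u hh)⟩
  v1 {v} := by
    refine ⟨fun ⟨_, _, _, ⟨e, a, ha, rfl⟩, t⟩ => ?_, fun ⟨e, a, ha, t⟩ => ⟨OO_le (F.Q_le_OO (F.W_le_Q
      (F.V_le_W ⟨e, a, ha, t⟩))), one_mem _, _, F'.mem_lf.2 ha, by rw [t, one_mul]; exact dl_P F F' e e a⟩⟩
    replace t : (v, P' e a) ∈ Dl Γ P Γ' P' := one_mul (P' e a) ▸ t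
    rcases dl_one F' F (div_mem2 (dl_P F' F e e a) (dl_swap t)) with u | u <;> rw [inv_mul_eq_iff_eq_mul] at u
    · rw [u, mul_one]; exact F.mem_lf.2 ha
    · rw [u, F.mul_z]; exact F.mem_lf.2 ha
  v2 {v} := by
    refine ⟨fun ⟨_, _, w, hw, t⟩ => (mul_mem_cancel_right hw).1 ?_, fun t => ⟨one_mem _, OO_le (F'.Q_le_OO
      (F'.W_le_Q (F'.V_le_W t))), _, inv_mem t, by rw [mul_inv_cancel]; exact one_mem _⟩⟩
    rcases dl_one F F' t with u | u <;> rw [u]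
    exacts [one_mem _, F'.mem_lf.2 t0_zero]
  sg := fun {h k a b} ⟨_, _, _, ⟨e, w, _, rfl⟩, t⟩ h1 h2 => by
    rcases F'.eq_or (dl_over F F' t h1) (by simpa using Γ'.mul_mem h2 (F'.mem e w)) with u | u
    · exact ⟨0, by rw [u, sgC_zero, one_mul]⟩
    · exact ⟨om, by rw [u, sgC_om]⟩
  qq := fun {h k} ⟨_, h2, v, hv, t⟩ ⟨e, a, _, u⟩ => by
    have := F'.W_le_Q (F'.V_le_W hv)
    exact (mul_mem_cancel_right this).1 (F'.Q_of (mul_mem h2 (OO_le (F'.Q_le_OO this))) (d := 0)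
      (dl_over F F' t (by rw [u, sgC_zero]; exact F.mem e a)) d0_zero)

/-- An element normalising the four-group and moving the central involution. -/
structure Tw (F : Fr Γ P) (x : G) (ε : ZMod 2) : Prop where
  xz : x * P 1 0 * x⁻¹ = P ε v0
  xH : ∀ h ∈ H0 Γ P, x * h * x⁻¹ * h⁻¹ ∈ OO Γ P
  xH' : ∀ h, x * h * x⁻¹ ∈ H0 Γ P → h ∈ H0 Γ P
  xV : ∀ v, x * v * x⁻¹ ∈ F.lf T0S ↔ v ∈ F.lf T0S

namespace Tw

variable {ε : ZMod 2} (T : Tw F x ε)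
include T

theorem H_iff : x * h * x⁻¹ ∈ H0 Γ P ↔ h ∈ H0 Γ P :=
  ⟨T.xH' h, fun t => (mul_mem_cancel_right (inv_mem t)).1 (OO_le (T.xH h t))⟩

theorem O_iff : x * h * x⁻¹ ∈ OO Γ P ↔ h ∈ OO Γ P :=
  ⟨fun t => inv_mem_iff.1 ((mul_mem_cancel_left t).1 (T.xH h (T.xH' h (OO_le t)))),
    fun t => (mul_mem_cancel_right (inv_mem t)).1 (T.xH h (OO_le t))⟩

theorem W_iff : x * h * x⁻¹ ∈ F.lf V12S ↔ h ∈ F.lf V12S := by
  have e : ∀ o, x * o * x⁻¹ * (x * h * x⁻¹) * (x * o * x⁻¹)⁻¹ * (x * h * x⁻¹)⁻¹ =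
    x * (o * h * o⁻¹ * h⁻¹) * x⁻¹ := fun o => by group
  refine ⟨fun t => (F.W_iff (T.O_iff.1 (F.Q_le_OO (F.W_le_Q t)))).2 fun o ho => ?_,
    fun t => (F.W_iff (T.O_iff.2 (F.Q_le_OO (F.W_le_Q t)))).2 fun o ho => ?_⟩
  · rw [← T.xV, ← e]
    exact (F.W_iff (F.Q_le_OO (F.W_le_Q t))).1 t _ (T.O_iff.2 ho)
  · obtain ⟨o, rfl⟩ := (MulAut.conj x).surjective o
    rw [MulAut.conj_apply] at ho ⊢
    rw [e, T.xV]
    exact (F.W_iff (F.Q_le_OO (F.W_le_Q t))).1 t _ (T.O_iff.1 ho)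

theorem ov (hh : h ∈ H0 Γ P) (t : (h, g) ∈ Γ) : ∃ d, (x * h * x⁻¹, sgC d * g) ∈ Γ :=
  let ⟨d, u⟩ := (mem_OO.1 (T.xH h hh)).1; ⟨d, by simpa using Γ.mul_mem u t⟩

end Tw

/-- Conjugation by a pair. -/
def cj (x : G) (x' : G') (E : Subgroup (G × G')) : Subgroup (G × G') :=
  E.comap (MulAut.conj (x, x')).toMonoidHom

theorem mem_cj : (h, k) ∈ cj x x' E ↔ (x * h * x⁻¹, x' * k * x'⁻¹) ∈ E := Iff.rfl

theorem good_cj {ε : ZMod 2} (T : Tw F x ε) (T' : Tw F' x' ε) : Good F F' (cj x x' (DV F F')) := by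
  have le : ∀ {h k}, (h, k) ∈ cj x x' (DV F F') → h ∈ H0 Γ P ∧ k ∈ H0 Γ' P' := fun t =>
    ⟨T.xH' _ t.1, T'.xH' _ t.2.1⟩
  have sg : ∀ {h k a b}, (h, k) ∈ cj x x' (DV F F') → (h, a) ∈ Γ → (k, b) ∈ Γ' → ∃ e, b = sgC e * a :=
    fun {h k a b} t h1 h2 => by
      obtain ⟨d, u⟩ := T.ov (le t).1 h1
      obtain ⟨d', u'⟩ := T'.ov (le t).2 h2
      obtain ⟨e, v⟩ := (good_dv (F := F)).sg (mem_cj.1 t) u u'
      exact ⟨d' + (e + d), by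
        rw [sgC_add, sgC_add, mul_assoc, mul_assoc, ← v, ← mul_assoc, sgC_mul_self, one_mul]⟩
  refine ⟨le, fun h hh => ?_, fun h hh => ?_, ?_, ?_, sg, fun {h k} t hq => ?_⟩
  · obtain ⟨k, t⟩ := (good_dv (F := F) (F' := F')).tot1 _ (T.H_iff.2 hh)
    exact ⟨x'⁻¹ * k * x', mem_cj.2 (by simpa [mul_assoc] using t)⟩
  · obtain ⟨k, t⟩ := (good_dv (F := F) (F' := F')).tot2 _ (T'.H_iff.2 hh)
    exact ⟨x⁻¹ * k * x, mem_cj.2 (by simpa [mul_assoc] using t)⟩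
  · intro v; rw [mem_cj, mul_one, mul_inv_cancel, good_dv.v1, T.xV]
  · intro v; rw [mem_cj, mul_one, mul_inv_cancel, good_dv.v2, T'.xV]
  obtain ⟨⟨b, h2⟩, h3⟩ := mem_H0.1 (le t).2
  obtain ⟨d, rfl⟩ := sg t (let ⟨e, a, _, u⟩ := hq; u ▸ F.mem e a) h2
  refine (F'.Q_iff (mem_OO.2 ⟨⟨d, mul_one (sgC d) ▸ h2⟩, h3⟩)).2 fun w hw => ?_
  obtain ⟨e, a, ha, u⟩ := T'.W_iff.2 hw
  obtain ⟨f, b, v, v'⟩ := dv_comm (mem_cj.1 t) e ha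
  obtain ⟨w0, h0⟩ := (MulAut.conj x).surjective (P e a)
  rw [MulAut.conj_apply] at h0
  have h4 := (F.Q_iff (F.Q_le_OO hq)).1 hq w0 (T.W_iff.1 (h0 ▸ F.mem_lf.2 ha))
  rw [← h0, show x * h * x⁻¹ * (x * w0 * x⁻¹) * (x * h * x⁻¹)⁻¹ * (x * w0 * x⁻¹)⁻¹ =
    x * (h * w0 * h⁻¹ * w0⁻¹) * x⁻¹ by group] at v
  rw [← u, show x' * k * x'⁻¹ * (x' * w * x'⁻¹) * (x' * k * x'⁻¹)⁻¹ * (x' * w * x'⁻¹)⁻¹ =
    x' * (k * w * k⁻¹ * w⁻¹) * x'⁻¹ by group] at v'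
  refine h4.imp (fun h5 => ?_) fun h5 => ?_
  · rw [h5, mul_one, mul_inv_cancel, ← F.zero] at v
    rw [← (F.inj v).1, ← (F.inj v).2, F'.zero] at v'
    simpa using v'
  · rw [h5, T.xz] at v
    rw [← (F.inj v).1, ← (F.inj v).2, ← T'.xz] at v'
    simpa using v'

/-- A triality element `x` and an element `y` of order 23 commuting with it. -/
structure Tri (F : Fr Γ P) (x y : G) : Prop where
  x3 : x * x * x = 1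
  xz : x * P 1 0 * x⁻¹ = P 1 v0
  xs : x * P 1 v0 * x⁻¹ = P 0 v0
  xH : ∀ h ∈ H0 Γ P, x * h * x⁻¹ * h⁻¹ ∈ OO Γ P
  yS : (y, Sh) ∈ Γ
  yH : y ∈ H0 Γ P
  xy : x * y * x⁻¹ = y
  xu : ∀ e a, ¬ Ev0 a → x * P e a * (x * P e a) ∈ H0 Γ P

namespace Tri

variable (T : Tri F x y)
include T

theorem cube (h : G) : x * (x * (x * h * x⁻¹) * x⁻¹) * x⁻¹ = h := by
  calc _ = x * x * x * h * (x * x * x)⁻¹ := by group
    _ = h := by rw [T.x3, one_mul, inv_one, mul_one]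

theorem xzs : x * P 0 v0 * x⁻¹ = P 1 0 := by rw [← T.xs, ← T.xz, T.cube]

theorem conjH (hh : h ∈ H0 Γ P) : x * h * x⁻¹ ∈ H0 Γ P :=
  (mul_mem_cancel_right (inv_mem hh)).1 (OO_le (T.xH h hh))

theorem conjV (hh : h ∈ F.lf T0S) : x * h * x⁻¹ ∈ F.lf T0S := by
  rcases F.mem_V.1 hh with rfl | rfl | rfl | rfl <;> simp [F.mem_V, T.xz, T.xs, T.xzs]

theorem tw1 : Tw F x 1 :=
  ⟨T.xz, T.xH, fun h t => T.cube h ▸ T.conjH (T.conjH t),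
    fun h => ⟨fun t => T.cube h ▸ T.conjV (T.conjV t), T.conjV⟩⟩

theorem tw2 : Tw F (x * x) 0 := by
  have e : ∀ h, x * x * h * (x * x)⁻¹ = x * (x * h * x⁻¹) * x⁻¹ := fun h => by group
  refine ⟨by rw [e, T.xz, T.xs], fun h hh => ?_, fun h t => T.tw1.xH' _ (T.tw1.xH' _ (e h ▸ t)),
    fun h => by rw [e, T.tw1.xV, T.tw1.xV]⟩
  simpa [mul_assoc] using mul_mem (T.xH _ (T.conjH hh)) (T.xH h hh)

end Tri

theorem rig (T : Tri F x y) (T' : Tri F' x' y') (hy : (y, y') ∈ Dl Γ P Γ' P')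
    (E1 : ∀ o ∈ OO Γ' P', ∃ a ∈ F'.lf EvS, ∃ b ∈ F'.lf EvS, o = x' * a * x'⁻¹ * b)
    (E2 : ∀ w ∈ F'.lf V12S, x' * w * x'⁻¹ * w⁻¹ ∈ F'.lf T0S) (t : (h, k) ∈ DV F F') :
    (x * h * x⁻¹, x' * k * x'⁻¹) ∈ DV F F' := by
  have D0 : Good F F' (DV F F') := good_dv
  have D1 := good_cj T.tw1 T'.tw1
  have D2 := good_cj T.tw2 T'.tw2
  have y0 := dv_of F F' hy T.yH
  have c1 := fun e f a => D1.core (mem_cj.2 (by rwa [T.xy, T'.xy])) T.yS T'.yS e f (a := a)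
  have c2 := fun e f a => D2.core (mem_cj.2 (by
    rwa [mul_inv_rev, mul_inv_rev, ← mul_assoc, ← mul_assoc, mul_assoc x, mul_assoc x', mul_assoc x,
      mul_assoc x', T.xy, T'.xy, T.xy, T'.xy])) T.yS T'.yS e f (a := a)
  have A : ∀ o o', o' ∈ OO Γ' P' → (o, o') ∈ DV F F' → (o, o') ∈ cj x x' (DV F F') := fun o o' ho u => by
    obtain ⟨_, ⟨e, a, ha, rfl⟩, _, ⟨f, b, hb, rfl⟩, rfl⟩ := E1 o' ho
    have h1 := mul_mem2 (mem_cj.1 (c1 e e a ha)) (dv_of F F' (dl_P F F' f f b) (F.P_H0.2 hb))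
    have h2 := mul_mem2 (mem_cj.2 (by simpa [mul_assoc] using mem_cj.1 (c2 e e a ha)) :
      (x * P e a * x⁻¹, x' * P' e a * x'⁻¹) ∈ cj x x' (DV F F')) (c1 f f b hb)
    have h3 := mul_mem2 u (inv_mem2 h1)
    rw [mul_inv_cancel] at h3
    have h4 := mul_mem2 (D1.v1.2 (D0.v1.1 h3)) h2
    rwa [inv_mul_cancel_right, one_mul] at h4
  obtain ⟨k', t'⟩ := D1.tot1 h t.1
  obtain ⟨c, rfl⟩ : ∃ c, k' = k * c := ⟨k⁻¹ * k', by group⟩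
  have hk := t.2.1
  have hc0 := (mul_mem_cancel_left hk).1 (D1.le t').2
  have hc : c ∈ OO Γ' P' := by
    obtain ⟨a, ha⟩ := (mem_H0.1 t.1).1
    obtain ⟨b, hb⟩ := (mem_H0.1 hk).1
    obtain ⟨⟨b', hb'⟩, u⟩ := mem_H0.1 hc0
    obtain ⟨e, rfl⟩ := D0.sg t ha hb
    obtain ⟨e', v⟩ := D1.sg t' ha (Γ'.mul_mem hb hb')
    refine ⟨⟨b', ?_, hb'⟩, mem_centralizer_singleton.2 u⟩
    have := MT.conj_mem_Sgn (inv_mem (F.mon_of t.1 ha)) (mem_Sgn.2 ⟨e + e', rfl⟩)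
    rwa [sgC_add, inv_inv, mul_assoc, mul_assoc, ← v, ← mul_assoc (sgC e), ← mul_assoc (sgC e), sgC_mul_self,
      one_mul, inv_mul_cancel_left] at this
  have hw : c ∈ F'.lf V12S := (F'.W_iff hc).2 fun o' ho => by
    obtain ⟨o, u⟩ := D0.tot2 _ (OO_le (inv_mem ho))
    have h1 := A _ _ (F'.conj_OO hk (inv_mem ho)) (mul_mem2 (mul_mem2 t u) (inv_mem2 t))
    have h2 := D1.v2.1 (div_mem2 h1 (mul_mem2 (mul_mem2 t' (A _ _ (inv_mem ho) u)) (inv_mem2 t')))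
    have h3 := F'.V_comm hk h2
    rw [show (k * o'⁻¹ * k⁻¹)⁻¹ * (k * c * o'⁻¹ * (k * c)⁻¹) = k * (o' * c * o'⁻¹ * c⁻¹) * k⁻¹ by group] at h2 h3
    rwa [mul_left_cancel ((inv_mul_cancel_right _ _).symm.trans h3)]
  have cc := F'.V_sq hw
  have ci := inv_eq_of_mul_eq_one_left cc
  have C : ∀ a b, (a, b) ∈ DV F F' ∧ k⁻¹ * b ∈ OO Γ' P' →
      (x * a * x⁻¹, x' * b * x'⁻¹ * c) ∈ DV F F' ∧ k⁻¹ * (x' * b * x'⁻¹ * c) ∈ OO Γ' P' := by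
    rintro a b ⟨u, v⟩
    have h1 := mul_mem2 t' (A _ _ v (mul_mem2 (inv_mem2 t) u))
    rw [mul_inv_cancel_left] at h1
    have h2 := D1.mulV h1 (k' := b * c) (by
      have := (F'.W_iff hc).1 hw _ (inv_mem v)
      rw [ci] at this
      rwa [show (k * c * (k⁻¹ * b))⁻¹ * (b * c) = (k⁻¹ * b)⁻¹ * c⁻¹ * (k⁻¹ * b)⁻¹⁻¹ * c by group, ci])
    refine ⟨D0.mulV (mem_cj.1 h2) ?_, ?_⟩
    · have := E2 c hw
      rw [ci] at this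
      rwa [show (x' * (b * c) * x'⁻¹)⁻¹ * (x' * b * x'⁻¹ * c) = x' * c⁻¹ * x'⁻¹ * c by group, ci]
    · have := mul_mem (mul_mem (F'.conj_OO (inv_mem hk) (T'.xH b u.2.1)) v) hc
      simpa [mul_assoc] using this
  have h1 := C _ _ (C _ _ ⟨t, by simp⟩)
  have h2 := C (x * (x * h * x⁻¹) * x⁻¹) (x' * (x' * k * x'⁻¹) * x'⁻¹) ⟨D0.mulV h1.1 (by
    have := inv_mem (E2 c hw)
    rw [ci] at this
    rwa [show (x' * (x' * k * x'⁻¹ * c) * x'⁻¹ * c)⁻¹ * (x' * (x' * k * x'⁻¹) * x'⁻¹) =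
      (x' * c * x'⁻¹ * c)⁻¹ by group]), by
    simpa [mul_assoc] using mul_mem (F'.conj_OO (inv_mem hk) (T'.tw2.xH k hk)) (one_mem _)⟩
  rw [T.cube, T'.cube] at h2
  have h3 := D0.v2.1 (div_mem2 t h2.1)
  exact D1.mulV t' (by simpa using h3)

end Cfsg.Agent.Gr.Am
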