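import Mathlib
import Cfsg.Agent.Gr.Am.Rig

/-! The isomorphism of the rank two amalgams. -/

set_option autoImplicit false

namespace Cfsg.Agent.Gr.Am

open Cfsg.Agent.Spor Cfsg.Agent.Spor.Leech Cfsg.Agent.Gr.Rk Subgroup

attribute [local irreducible] sgC cls twoC csm perm negOne pc Sh

theorem split {X : Type*} [Group X] {D H B : Subgroup X} (hH : H ≤ D) (odd : Odd (H.relIndex D)) {ζ : X}
    (h1 : ζ ∈ H) (h2 : ∀ t ∈ D, ζ * t = t * ζ) (h3 : ζ * ζ = 1) (h4 : ζ ∉ B)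
    (h5 : ∀ t ∈ H, t ∈ B ∨ t * ζ ∈ B) : ∃ Φ ≤ D, ζ ∉ Φ ∧ ∀ t ∈ D, t ∈ Φ ∨ t * ζ ∈ Φ := by
  classical
  have : (H.subgroupOf D).FiniteIndex := ⟨fun h => by rw [relIndex, h] at odd; simp at odd⟩
  let χ : H.subgroupOf D →* ℤˣ := MonoidHom.mk' (fun t => if t.1.1 ∈ B then 1 else -1) fun a b => by
    change (if a.1.1 * b.1.1 ∈ B then (1 : ℤˣ) else -1) = _
    by_cases ha : a.1.1 ∈ B
    · simp [ha, B.mul_mem_cancel_left ha]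
    by_cases hb : b.1.1 ∈ B
    · simp [ha, hb, B.mul_mem_cancel_right hb]
    have : a.1.1 * ζ * (b.1.1 * ζ) ∈ B := mul_mem ((h5 _ a.2).resolve_left ha) ((h5 _ b.2).resolve_left hb)
    rw [mul_assoc, ← mul_assoc ζ, h2 _ b.1.2, mul_assoc, h3, mul_one] at this
    simp [ha, hb, this]
  have hz : χ.transfer ⟨ζ, hH h1⟩ = -1 := by
    rw [MonoidHom.transfer_eq_pow _ _ fun k g _ => by
      rw [mul_assoc, (Commute.pow_left (Subtype.ext (h2 _ g.2) : Commute ⟨ζ, hH h1⟩ g) k).eq,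
        inv_mul_cancel_left]]
    refine if_neg ?_
    obtain ⟨m, hm⟩ := odd
    change ζ ^ H.relIndex D ∉ B
    rwa [hm, pow_succ, pow_mul, pow_two, h3, one_pow, one_mul]
  refine ⟨χ.transfer.ker.map D.subtype, map_subtype_le _, fun ⟨t, h, e⟩ => ?_, fun t ht => ?_⟩
  · obtain rfl : t = ⟨ζ, hH h1⟩ := Subtype.ext e
    exact absurd (hz.symm.trans h) (by decide)
  · refine (Int.units_eq_one_or (χ.transfer ⟨t, ht⟩)).imp (fun h => ⟨⟨t, ht⟩, h, rfl⟩) fun h =>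
      ⟨⟨t, ht⟩ * ⟨ζ, hH h1⟩, ?_, rfl⟩
    change χ.transfer _ = 1
    rw [map_mul, h, hz]; rfl

variable {G G' : Type*} [Group G] [Group G'] {Γ : Subgroup (G × Co0)} {P : ZMod 2 → LL → G}
  {Γ' : Subgroup (G' × Co0)} {P' : ZMod 2 → LL → G'} {c h x y r : G} {k k' x' y' : G'} {g : Co0}
  {A A' Φ : Subgroup (G × G')} {F : Fr Γ P} {F' : Fr Γ' P'} {n : G × G'}

theorem dl_or (F : Fr Γ P) (F' : Fr Γ' P') (t : (c, k) ∈ Dl Γ P Γ' P') (t' : (c, k') ∈ Dl Γ P Γ' P') :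
    k' = k ∨ k' = k * P' 1 0 :=
  (dl_one F F' (div_mem2 t t')).imp (fun h => (inv_mul_eq_one.1 h).symm) inv_mul_eq_iff_eq_mul.1

theorem dl_sign (F : Fr Γ P) (F' : Fr Γ' P') {e : ZMod 2} {a : LL} (t : (c, k * P' e a) ∈ Dl Γ P Γ' P')
    (f : ZMod 2) : (c, k * P' f a) ∈ Dl Γ P Γ' P' := by
  by_cases u : f = e
  · rwa [u]
  · simpa [mul_assoc, F'.mul_z, z2_ne u] using mul_mem2 t (dl_z F F')

theorem dl_zc (F' : Fr Γ' P') (t : (c, k) ∈ Dl Γ P Γ' P') : P' 1 0 * k = k * P' 1 0 :=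
  let ⟨_, _, _, h, _⟩ := t; F'.z_comm h

/-- A complement to the second central involution above the centraliser of the four-group. -/
structure Cpl (F : Fr Γ P) (F' : Fr Γ' P') (A : Subgroup (G × G')) : Prop where
  le : A ≤ Dl Γ P Γ' P'
  tot : ∀ h ∈ H0 Γ P, ∃ k, (h, k) ∈ A
  one : (1, P' 1 0) ∉ A

theorem Cpl.uniq (H : Cpl F F' A) (t : (c, k) ∈ A) (t' : (c, k') ∈ A) : k' = k :=
  (dl_or F F' (H.le t) (H.le t')).resolve_right fun e => H.one (by simpa [e] using div_mem2 t t')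

theorem Cpl.mem (H : Cpl F F' A) (H' : Cpl F F' A') (hh : h ∈ H0 Γ P) (t : (h, k) ∈ A) : (h, k) ∈ A' := by
  obtain ⟨⟨_, k'⟩, ⟨t1, t2⟩, rfl⟩ := (F.perf (B := H0 Γ P ⊓ (A ⊓ A').map (MonoidHom.fst _ _))
    ⟨inf_le_left, fun a ha b hb h1 h2 => ⟨mul_mem ha hb, by
      obtain ⟨k, u⟩ := H.tot a ha
      obtain ⟨k', u'⟩ := H'.tot a ha
      obtain ⟨l, v⟩ := H.tot b hb
      obtain ⟨l', v'⟩ := H'.tot b hb
      obtain rfl := (dl_or F F' (H.le u) (H'.le u')).resolve_left fun e => h1 ⟨ha, _, ⟨u, e ▸ u'⟩, rfl⟩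
      obtain rfl := (dl_or F F' (H.le v) (H'.le v')).resolve_left fun e => h2 ⟨hb, _, ⟨v, e ▸ v'⟩, rfl⟩
      refine ⟨_, ⟨mul_mem2 u v, ?_⟩, rfl⟩
      have := mul_mem2 u' v'
      rwa [mul_assoc, ← mul_assoc (P' 1 0), dl_zc F' (H.le v), mul_assoc, F'.z_sq, mul_one] at this⟩⟩ hh).2
  exact H.uniq t1 t ▸ t2

def Th (Γ : Subgroup (G × Co0)) (P : ZMod 2 → LL → G) (Γ' : Subgroup (G' × Co0)) (P' : ZMod 2 → LL → G')
    (x : G) (x' : G') : Subgroup (G × G') := Dl Γ P Γ' P' ⊓ cj x x' (Dl Γ P Γ' P')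

theorem cpl_th {ε : ZMod 2} (hz : x' * P' 1 0 * x'⁻¹ = P' ε v0)
    (hD : ∀ h k, (h, k) ∈ DV F F' → (x * h * x⁻¹, x' * k * x'⁻¹) ∈ DV F F') :
    Cpl F F' (Th Γ P Γ' P' x x') := by
  refine ⟨inf_le_left, fun h hh => ?_, fun t => ?_⟩
  · obtain ⟨g, t⟩ := (mem_H0.1 hh).1
    obtain ⟨k, u⟩ := dl_tot F F' t
    obtain ⟨-, -, _, ⟨e, a, rfl | rfl, rfl⟩, v⟩ := hD _ _ (dv_of F F' u hh)
    · exact ⟨k, u, mem_cj.2 (by simpa [F'.zero] using dl_sign F F' v 0)⟩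
    · refine ⟨k * P' 1 0, by simpa using mul_mem2 u (dl_z F F'), mem_cj.2 ?_⟩
      have := dl_sign F F' v ε
      rw [← hz] at this
      simpa [mul_assoc] using this
  · have := mem_cj.1 t.2
    rw [hz, mul_one, mul_inv_cancel] at this
    rcases dl_one F F' this with u | u
    · exact om_ne_zero (congrArg Prod.fst (F'.inj (u.trans F'.zero.symm)).2)
    · exact om_ne_zero (congrArg Prod.fst (F'.inj u).2)

/-- The graph of the standard isomorphism of the extraspecial groups. -/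
def Ps (F : Fr Γ P) (F' : Fr Γ' P') : Subgroup (G × G') where
  carrier := {t | ∃ e a, t = (P e a, P' e a)}
  one_mem' := ⟨0, 0, by rw [F.zero, F'.zero]; rfl⟩
  mul_mem' := by rintro _ _ ⟨e, a, rfl⟩ ⟨f, b, rfl⟩; exact ⟨_, _, Prod.ext (F.mul _ _ _ _) (F'.mul _ _ _ _)⟩
  inv_mem' := by rintro _ ⟨e, a, rfl⟩; exact ⟨_, _, Prod.ext (F.inv _ _) (F'.inv _ _)⟩

theorem dl_conj (F : Fr Γ P) (t : (c, k) ∈ Dl Γ P Γ' P') (u : (c, g) ∈ Γ) (e : ZMod 2) (a : LL) :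
    ∃ f, c * P e a * c⁻¹ = P f (csm g a) ∧ k * P' e a * k⁻¹ = P' f (csm g a) := by
  obtain ⟨g', ε, h1, -, h3, h4⟩ := t
  exact ⟨_, F.csm_eq h1 u a ▸ h3 e a, F.csm_eq h1 u a ▸ h4 e a⟩

theorem Cpl.sign (H : Cpl F F' A) {e : ZMod 2} {a : LL} (t : (P e a, P' e a) ∈ A) (f : ZMod 2) :
    (P f a, P' f a) ∈ A := by
  by_cases u : f = e
  · rwa [u]
  obtain ⟨a, b, ha, hb, k⟩ := exists_pol_even
  obtain ⟨p, hp⟩ := H.tot _ (F.P_H0.2 ha : P 0 a ∈ _)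
  obtain ⟨q, hq⟩ := H.tot _ (F.P_H0.2 hb : P 0 b ∈ _)
  obtain ⟨i, rfl⟩ : ∃ i, p = P' i a :=
    (dl_or F F' (dl_P F F' 0 0 a) (H.le hp)).elim (⟨_, ·⟩) fun h => ⟨_, h.trans (F'.mul_z _ _)⟩
  obtain ⟨j, rfl⟩ : ∃ i, q = P' i b :=
    (dl_or F F' (dl_P F F' 0 0 b) (H.le hq)).elim (⟨_, ·⟩) fun h => ⟨_, h.trans (F'.mul_z _ _)⟩
  have := mul_mem2 (mul_mem2 (mul_mem2 hp hq) (inv_mem2 hp)) (inv_mem2 hq)
  rw [F.conj, F'.conj, k, ← F.z_mul, ← F'.z_mul, mul_inv_cancel_right, mul_inv_cancel_right] at this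
  simpa [F.z_mul, F'.z_mul, z2_ne u] using mul_mem2 this t

theorem Cpl.even (H : Cpl F F' A) (e : ZMod 2) {a : LL} (ha : Ev0 a) : (P e a, P' e a) ∈ A := by
  have hU : MI fun w => Ev0 w ∧ (P 0 w, P' 0 w) ∈ A := ⟨⟨t0_zero.v12.2, F.zero ▸ F'.zero ▸ one_mem _⟩,
    fun a b h k => ⟨h.1.add k.1, H.sign (F.mul _ _ _ _ ▸ F'.mul _ _ _ _ ▸ mul_mem2 h.2 k.2) 0⟩,
    fun g hg a k => by
      obtain ⟨c, hc, t⟩ := F.exists_H0 hg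
      obtain ⟨c', t'⟩ := H.tot c hc
      obtain ⟨f, u, v⟩ := dl_conj F (H.le t') t 0 a
      exact ⟨(ev0_csm hg).2 k.1, H.sign (u ▸ v ▸ mul_mem2 (mul_mem2 t' k.2) (inv_mem2 t')) 0⟩⟩
  obtain ⟨d, hd⟩ := exists_not_d0
  have hw : Ev0 (d, 0) := zero_dotProduct _
  obtain ⟨c, hc, t⟩ := F.exists_H0 Sh_mem
  obtain ⟨c', t'⟩ := H.tot c hc
  obtain ⟨p, hp⟩ := H.tot _ (F.P_H0.2 hw : P 0 _ ∈ _)
  have := mul_mem2 (mul_mem2 (mul_mem2 t' hp) (inv_mem2 t')) (inv_mem2 hp)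
  obtain ⟨f, u, v⟩ := dl_conj F (H.le t') t 0 (d, 0)
  have e1 : c' * p * c'⁻¹ * p⁻¹ = c' * P' 0 (d, 0) * c'⁻¹ * (P' 0 (d, 0))⁻¹ := by
    rcases dl_or F F' (dl_P F F' 0 0 _) (H.le hp) with rfl | rfl
    · rfl
    · rw [mul_inv_rev, ← mul_assoc c', mul_assoc _ _ c'⁻¹, dl_zc F' (inv_mem2 (H.le t'))]; group
  rw [e1, u, v, F.inv, F'.inv, F.mul, F'.mul] at this
  refine H.sign (hU.even ⟨((ev0_csm Sh_mem).2 hw).add hw, H.sign this 0⟩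
    (fun k => hd (fix_sh ((D0.add (fst_csm hw 0 sh) k.1).of_eq ?_))) ha).2 e
  rw [Prod.fst_add, ← Sh_eq, add_add_add_comm, cd_add_self, zero_add]

theorem exists_Phi (H : Cpl F F' A) : ∃ Φ, Cpl F F' Φ ∧ (∀ c g, (c, g) ∈ Γ → ∃ k, (c, k) ∈ Φ) ∧
    ∀ e a, (P e a, P' e a) ∈ Φ := by
  let B : Subgroup (G × G') :=
    { carrier := {t | ∃ θ ∈ A, θ.1 ∈ H0 Γ P ∧ θ⁻¹ * t ∈ Ps F F'}
      one_mem' := ⟨1, one_mem _, one_mem _, by simp⟩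
      mul_mem' := fun {a b} ⟨θ, h1, h2, h3⟩ ⟨⟨c, k⟩, k1, k2, k3⟩ => ⟨_, mul_mem h1 k1, mul_mem h2 k2, by
        obtain ⟨e, w, u⟩ := h3
        obtain ⟨g, t⟩ := (mem_H0.1 (inv_mem k2)).1
        obtain ⟨f, v, v'⟩ := dl_conj F (H.le (inv_mem2 k1)) t e w
        have : (c, k)⁻¹ * (θ⁻¹ * a) * (c, k)⁻¹⁻¹ ∈ Ps F F' := ⟨f, _, by rw [u]; exact Prod.ext v v'⟩
        convert mul_mem this k3 using 1; group⟩
      inv_mem' := fun {a} ⟨⟨c, k⟩, k1, k2, e, w, u⟩ => ⟨_, inv_mem k1, inv_mem k2, by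
        obtain ⟨g, t⟩ := (mem_H0.1 k2).1
        obtain ⟨f, v, v'⟩ := dl_conj F (H.le k1) t e w
        have : (c, k) * ((c, k)⁻¹ * a) * (c, k)⁻¹ ∈ Ps F F' := ⟨f, _, by rw [u]; exact Prod.ext v v'⟩
        convert inv_mem this using 1; group⟩ }
  obtain ⟨Φ, h1, h2, h3⟩ := split (D := Dl Γ P Γ' P') (H := Dl Γ P Γ' P' ⊓ (pre Γ Mon).prod ⊤) (B := B)
    inf_le_left (by
      rw [relIndex_eq (S := Dl Γ P Γ' P') (fun t (b : Co0 ⧸ Mon) => ∃ g, (t.1, g) ∈ Γ ∧ b = g) (fun _ ⟨g, _, t, _⟩ => ⟨_, g, t, rfl⟩)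
        (fun b => by
          obtain ⟨g, rfl⟩ := QuotientGroup.mk_surjective b
          obtain ⟨c, t⟩ := F.surj g
          obtain ⟨k, u⟩ := dl_tot F F' t
          exact ⟨_, u, g, t, rfl⟩)
        (by
          rintro a ha a' ha' _ _ ⟨g, t, rfl⟩ ⟨g', t', rfl⟩
          have := Γ.mul_mem (Γ.inv_mem t) t'
          rw [QuotientGroup.eq]
          exact ⟨fun u => ⟨(Dl Γ P Γ' P').mul_mem (inv_mem ha) ha', ⟨_, u, this⟩, trivial⟩,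
            fun u => F.mem_of (MT.Sgn_le_Mon MT.negOne_mem_Sgn) u.2.1 this⟩), ← index, index_Mon]
      decide)
    (ζ := (1, P' 1 0)) ⟨dl_z F F', one_mem _, trivial⟩ (fun t ht => Prod.ext (by simp) (dl_zc F' ht))
    (Prod.ext (by simp) F'.z_sq) (fun ⟨⟨c, k⟩, k1, k2, e, w, u⟩ => H.one (by
      have h1 : c⁻¹ * 1 = P e w := congrArg Prod.fst u
      have := mul_mem k1 (H.even e (F.P_H0.1 (h1 ▸ mul_mem (inv_mem k2) (one_mem _))))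
      rwa [← u, mul_inv_cancel_left] at this))
    (fun ⟨c, k⟩ ⟨t, ⟨g, hg, u⟩, _⟩ => by
      obtain ⟨h, hh, v⟩ := F.exists_H0 hg
      obtain ⟨l, w⟩ := H.tot h hh
      obtain ⟨e, a, rfl⟩ := F.eq_mul v u
      refine (dl_or F F' t (mul_mem2 (H.le w) (dl_P F F' e e a))).imp (fun q => ⟨_, w, hh, e, a, ?_⟩)
        fun q => ⟨_, w, hh, e, a, ?_⟩ <;> simp [← q])
  have tot : ∀ c g, (c, g) ∈ Γ → ∃ k, (c, k) ∈ Φ := fun c g t => by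
    obtain ⟨k, u⟩ := dl_tot F F' t
    exact (h3 _ u).elim (⟨_, ·⟩) fun v => ⟨_, by simpa using v⟩
  have C : Cpl F F' Φ := ⟨h1, fun h hh => let ⟨g, t⟩ := (mem_H0.1 hh).1; tot h g t, h2⟩
  refine ⟨Φ, C, tot, fun e a => ?_⟩
  by_cases ha : Ev0 a
  · exact C.even e ha
  obtain ⟨g, hg⟩ : ∃ g, g ∉ Mon := by
    by_contra! u
    exact absurd (index_Mon.symm.trans (index_eq_one.2 (eq_top_iff.2 fun g _ => u g))) (by decide)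
  obtain ⟨l, l1, l2⟩ := ActH.exists_pol_sep (a := v0) (b := csm g v0) (fun u => om_ne_zero (congrArg Prod.fst u))
    (fun u => hg (mem_Mon_of_csm u.symm)) 1
  obtain ⟨c, t⟩ := F.surj g
  obtain ⟨k, u⟩ := tot c g t
  obtain ⟨f, v, v'⟩ := dl_conj F (h1 u) t 0 (csm g⁻¹ l)
  have := mul_mem2 (mul_mem2 u (C.even 0 (a := csm g⁻¹ l) (ev0_iff.2 (by
    rw [← pol_csm g, ActH.csm_csm_inv, pol_comm, l2])))) (inv_mem2 u)
  rw [v, v', ActH.csm_csm_inv] at this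
  have := mul_mem2 this (C.even 0 (ev0_add_of_not (a := l) (by rw [ev0_iff, pol_comm, l1]; decide) ha))
  rw [F.mul, F'.mul, ll_cancel] at this
  exact C.sign this e

/-- An isomorphism of amalgams. -/
structure Amg (F : Fr Γ P) (F' : Fr Γ' P') (Φ : Subgroup (G × G')) (n : G × G') : Prop where
  cpl : Cpl F F' Φ
  tot : ∀ c g, (c, g) ∈ Γ → ∃ k, (c, k) ∈ Φ
  mem : ∀ e a, (P e a, P' e a) ∈ Φ
  z1 : n.1 * P 1 0 * n.1⁻¹ = P 1 v0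
  s1 : n.1 * P 1 v0 * n.1⁻¹ = P 1 0
  z2 : n.2 * P' 1 0 * n.2⁻¹ = P' 1 v0
  s2 : n.2 * P' 1 v0 * n.2⁻¹ = P' 1 0
  sq : n * n ∈ Φ
  norm : ∀ t ∈ Φ, t.1 ∈ H0 Γ P → n * t * n⁻¹ ∈ Φ
  line : ∃ a, ¬ Ev0 a ∧ (n * (P 0 a, P' 0 a)) ^ 3 = 1

theorem Fr.conj_H0 (F : Fr Γ P) (e : ZMod 2) (a : LL) (hh : h ∈ H0 Γ P) : P e a * h * (P e a)⁻¹ ∈ H0 Γ P := by
  obtain ⟨g, t⟩ := (mem_H0.1 hh).1
  refine mem_H0.2 ⟨⟨_, conj_mem' (F.mem e a) t⟩, ?_⟩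
  have := F.V_comm hh (c := (P e a)⁻¹ * P 1 v0 * (P e a)⁻¹⁻¹) (by rw [F.inv, F.conj]; exact F.mem_lf.2 t0_v0)
  calc _ = P e a * ((P e a)⁻¹ * P 1 v0 * (P e a)⁻¹⁻¹ * h) * (P e a)⁻¹ := by group
    _ = _ := by rw [this]; group

theorem Tri.nz (T : Tri F x y) (a : LL) : x * P 0 a * P 1 0 * (x * P 0 a)⁻¹ = P 1 v0 := by
  rw [← T.xz, mul_assoc x, ← F.z_comm (F.mem 0 a)]; group

theorem Tri.ns (T : Tri F x y) {a : LL} (ha : ¬ Ev0 a) : x * P 0 a * P 1 v0 * (x * P 0 a)⁻¹ = P 1 0 := by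
  have := F.conj 0 1 a v0
  rw [pol_comm, (z2_cases _).resolve_left (mt ev0_iff.2 ha), z2_add_self] at this
  rw [← T.xzs, ← this]; group

theorem ext (T : Tri F x y) (T' : Tri F' x' y') (hy : (y, y') ∈ Dl Γ P Γ' P')
    (E1 : ∀ o ∈ OO Γ' P', ∃ a ∈ F'.lf EvS, ∃ b ∈ F'.lf EvS, o = x' * a * x'⁻¹ * b)
    (E2 : ∀ w ∈ F'.lf V12S, x' * w * x'⁻¹ * w⁻¹ ∈ F'.lf T0S) :
    ∃ Φ n, Amg F F' Φ n ∧ ∃ a, n.1 = x * P 0 a := by
  have R := fun h k => rig T T' hy E1 E2 (h := h) (k := k)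
  have C1 := cpl_th T'.xz R
  have C2 := cpl_th (x := x * x) T'.tw2.xz fun h k t => by simpa [mul_assoc] using R _ _ (R _ _ t)
  obtain ⟨Φ, C, tot, mem⟩ := exists_Phi C1
  obtain ⟨a, ha, hq⟩ := exists_odd
  have N1 : ∀ t ∈ Φ, t.1 ∈ H0 Γ P → (x, x') * t * (x, x')⁻¹ ∈ Φ := fun ⟨h, k⟩ t hh =>
    C2.mem C (T.conjH hh) ⟨(C.mem C1 hh t).2, mem_cj.2 (by
      have := C.le t
      rw [← T.cube h, ← T'.cube k] at this
      simpa [mul_assoc] using this)⟩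
  have N2 : ∀ t ∈ Φ, t.1 ∈ H0 Γ P → (x * P 0 a, x' * P' 0 a) * t * (x * P 0 a, x' * P' 0 a)⁻¹ ∈ Φ :=
    fun t ht hh => by
      have := N1 _ (mul_mem (mul_mem (mem 0 a) ht) (inv_mem (mem 0 a))) (F.conj_H0 0 a hh)
      rwa [show (x, x') * ((P 0 a, P' 0 a) * t * (P 0 a, P' 0 a)⁻¹) * (x, x')⁻¹ =
        (x, x') * (P 0 a, P' 0 a) * t * ((x, x') * (P 0 a, P' 0 a))⁻¹ by group] at this
  have u1 : P 0 a * P 0 a = 1 := by rw [F.sq, hq, F.zero]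
  have u2 : P' 0 a * P' 0 a = 1 := by rw [F'.sq, hq, F'.zero]
  have x1 : (x * P 0 a * P 0 a) ^ 3 = 1 := by rw [mul_assoc, u1, mul_one, pow_three', T.x3]
  have z1 := T.nz a
  have z2 := T'.nz a
  have s1 := T.ns ha
  have s2 := T'.ns ha
  have m1 := T.xu 0 a ha
  have m2 := T'.xu 0 a ha
  have nH : ∀ h ∈ H0 Γ P, x * P 0 a * h * (x * P 0 a)⁻¹ ∈ H0 Γ P := fun h hh => by
    simpa [mul_assoc] using T.conjH (F.conj_H0 0 a hh)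
  have x2 : (x' * P' 0 a * P' 0 a) ^ 3 = 1 := by rw [mul_assoc, u2, mul_one, pow_three', T'.x3]
  have x3 : (x' * P' 0 a * P' 1 0 * P' 0 a) ^ 3 = 1 := by
    rw [mul_assoc _ (P' 1 0), F'.z_comm (F'.mem 0 a), ← mul_assoc, mul_assoc x', u2, mul_one]
    calc _ = x' * P' 1 0 * x'⁻¹ * (x' * (x' * P' 1 0 * x'⁻¹) * x'⁻¹) * (x' * x' * x') * P' 1 0 := by
          rw [pow_three']; group
      _ = 1 := by rw [T'.xz, T'.xs, T'.x3, mul_one, F'.mul, F'.mul_z, ll_add_self]; simpa [z2_add_self] using F'.zero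
  suffices ∃ m, Amg F F' Φ (x * P 0 a, m) from let ⟨m, h⟩ := this; ⟨Φ, _, h, a, rfl⟩
  generalize x * P 0 a = n, x' * P' 0 a = m at *
  obtain ⟨k, hk⟩ := C.tot _ m1
  have k0 := dl_H0 F (C.le hk) m1
  have cm : ∀ l ∈ H0 Γ' P', k⁻¹ * (m * m) * l * (k⁻¹ * (m * m))⁻¹ * l⁻¹ ∈ F'.lf T0S := fun l hl => by
    obtain ⟨g, t⟩ := (mem_H0.1 hl).1
    obtain ⟨h, u⟩ := dl_tot F' F t
    have hh := dl_H0 F' u hl
    obtain ⟨l', u'⟩ := C.tot h hh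
    have e1 : m * (m * l' * m⁻¹) * m⁻¹ = k * l' * k⁻¹ := C.uniq (mul_mem2 (mul_mem2 hk u') (inv_mem2 hk)) (by
      simpa [mul_assoc] using N2 _ (N2 _ u' hh) (nH h hh))
    have e2 : k⁻¹ * (m * m) * l' * (k⁻¹ * (m * m))⁻¹ = l' := by
      calc _ = k⁻¹ * (m * (m * l' * m⁻¹) * m⁻¹) * k := by group
        _ = _ := by rw [e1]; group
    rcases dl_or F F' (C.le u') (dl_swap u) with rfl | rfl
    · rw [e2, mul_inv_cancel]; exact one_mem _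
    · rw [← mul_assoc, mul_assoc _ (P' 1 0),
        F'.V_comm (inv_mem (mul_mem (inv_mem k0) m2)) (F'.mem_lf.2 t0_zero), ← mul_assoc, e2, mul_inv_cancel]
      exact one_mem _
  have v0' := mul_mem (inv_mem k0) m2
  have v1 := F'.V_of_cent (mem_H0.1 v0').1 (fun c hc => cm c (OO_le (F'.Q_le_OO hc))) v0'
  have v2 := F'.V_of_comm T'.yS (F'.Q_le_OO v1) (by simpa [mul_assoc] using inv_mem (cm _ T'.yH))
  have v3 : m * k * m⁻¹ = k := C.uniq hk (by simpa [mul_assoc] using N2 _ hk m1)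
  have v4 : m * (k⁻¹ * (m * m)) * m⁻¹ = k⁻¹ * (m * m) := by
    calc _ = (m * k * m⁻¹)⁻¹ * (m * m) := by group
      _ = _ := by rw [v3]
  have ne : P' 1 v0 ≠ P' 1 0 := fun u => om_ne_zero (congrArg Prod.fst (F'.inj u).2)
  rcases F'.mem_V.1 v2 with u | u | u | u
  · exact ⟨m, C, tot, mem, z1, s1, z2, s2, by rwa [inv_mul_eq_one.1 u] at hk, N2, a, ha, Prod.ext x1 x2⟩
  · exact (ne (by rwa [u, z2] at v4)).elim
  · exact (ne (by rw [u, s2] at v4; exact v4.symm)).elim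
  have zz := F'.z_sq
  have zi := inv_eq_of_mul_eq_one_left zz
  refine ⟨m * P' 1 0, C, tot, mem, z1, s1, ?_, ?_, ?_, fun t ht hh => ?_, a, ha, Prod.ext x1 x3⟩
  · rw [← z2]; simp [mul_assoc]
  · rw [mul_assoc m, F'.z_comm (F'.mem 1 v0), mul_inv_rev, ← mul_assoc, ← mul_assoc, mul_inv_cancel_right, s2]
  · have : m * P' 1 0 * (m * P' 1 0) = k := by
      calc _ = m * m * (m⁻¹ * P' 1 0 * m * P' 1 0) := by group
        _ = k * (k⁻¹ * (m * m)) * (P' 1 v0 * P' 1 0) := by rw [← s2]; group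
        _ = k := by rw [u, F'.mul_z, mul_assoc, z2_add_self, F'.sq, V12.qL t0_v0.v12, F'.zero, mul_one]
    rw [← this] at hk
    exact hk
  · have := N2 t ht hh
    rwa [show (n, m * P' 1 0) * t * (n, m * P' 1 0)⁻¹ = (n, m) * t * (n, m)⁻¹ from Prod.ext rfl (by
      change m * P' 1 0 * t.2 * (m * P' 1 0)⁻¹ = m * t.2 * m⁻¹
      rw [mul_assoc m, dl_zc F' (C.le ht)]; group)]

namespace Amg

variable (M : Amg F F' Φ n)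
include M

theorem tot2 (t : (k, g) ∈ Γ') : ∃ c, (c, k) ∈ Φ := by
  obtain ⟨c, u⟩ := dl_tot F' F t
  obtain ⟨l, v⟩ := M.tot c g (dl_over F' F u t)
  rcases dl_or F F' (M.cpl.le v) (dl_swap u) with rfl | rfl
  exacts [⟨c, v⟩, ⟨_, mul_mem2 v (M.mem 1 0)⟩]

theorem inj1 (t : (c, 1) ∈ Φ) : c = 1 := (dl_one F' F (dl_swap (M.cpl.le t))).resolve_right fun u =>
  F'.z_ne (M.cpl.uniq t (u ▸ M.mem 1 0))

theorem inj2 (t : (1, k) ∈ Φ) : k = 1 := M.cpl.uniq (one_mem _) t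

theorem norm' {t : G × G'} (ht : t ∈ Φ) (hh : t.2 ∈ H0 Γ' P') : n⁻¹ * t * n ∈ Φ := by
  have := M.norm t ht (dl_H0 F' (dl_swap (M.cpl.le ht)) hh)
  simpa [mul_assoc] using mul_mem (mul_mem (inv_mem M.sq) this) M.sq

theorem line' : ∃ u ∈ Φ, u.2 * P' 1 v0 * u.2⁻¹ = P' 1 0 * P' 1 v0 ∧
    ∃ a ∈ Φ, ∃ b ∈ Φ, n⁻¹ * u * n = a * n * b := by
  obtain ⟨a, ha, t⟩ := M.line
  refine ⟨_, M.mem 0 a, by rw [F'.conj, F'.z_mul, pol_comm, (z2_cases _).resolve_left (mt ev0_iff.2 ha)],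
    _, mul_mem (mul_mem (inv_mem M.sq) (inv_mem (M.mem 0 a))) (inv_mem M.sq), _, inv_mem (M.mem 0 a), ?_⟩
  generalize (P 0 a, P' 0 a) = p at t
  calc _ = (n * n)⁻¹ * (n * p) ^ 3 * p⁻¹ * n⁻¹ * p⁻¹ := by rw [pow_three']; group
    _ = _ := by rw [t]; group

theorem one {d e : G} {g' g'' : Co0} (hc : (c, g) ∈ Γ) (hg : g ∉ Mon) (hd : (d, g') ∈ Γ) (he : (e, g'') ∈ Γ)
    (t : n.1⁻¹ * c * n.1 = d * n.1 * e) : ∃ c ∈ Φ, ∃ d ∈ Φ, ∃ e ∈ Φ, ∃ δ : G × G', δ.1 = 1 ∧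
      c.2 * P' 1 v0 * c.2⁻¹ ≠ P' 1 v0 ∧ c.2 * P' 1 v0 * c.2⁻¹ ≠ P' 1 0 * P' 1 v0 ∧
      P' 1 0 * δ.2 = δ.2 * P' 1 0 ∧ n⁻¹ * c * n = d * n * e * δ := by
  obtain ⟨c', c1⟩ := M.tot _ _ hc
  obtain ⟨d', d1⟩ := M.tot _ _ hd
  obtain ⟨e', e1⟩ := M.tot _ _ he
  obtain ⟨f, u, u'⟩ := dl_conj F (M.cpl.le c1) hc 1 v0
  obtain ⟨f', v, v'⟩ := dl_conj F (M.cpl.le d1) hd 1 v0
  have h1 : n.1⁻¹ * P f (csm g v0) * n.1 = P f' (csm g' v0) := by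
    calc _ = n.1⁻¹ * c * n.1 * P 1 0 * (n.1⁻¹ * c * n.1)⁻¹ := by rw [← u, ← M.z1]; group
      _ = d * (n.1 * (e * P 1 0 * e⁻¹) * n.1⁻¹) * d⁻¹ := by rw [t]; group
      _ = _ := by rw [← F.z_comm he, mul_inv_cancel_right, M.z1, v]
  have h2 : Ev0 (csm g v0) := ev0_iff.2 (F.comm_iff.1 (by
    calc P 1 v0 * P f (csm g v0) = n.1 * (P 1 0 * (n.1⁻¹ * P f (csm g v0) * n.1)) * n.1⁻¹ := by
          rw [← M.z1]; group
      _ = n.1 * (n.1⁻¹ * P f (csm g v0) * n.1 * P 1 0) * n.1⁻¹ := by rw [h1, F.z_mul, F.mul_z]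
      _ = _ := by rw [← M.z1]; group))
  have h3 : n.2⁻¹ * P' f (csm g v0) * n.2 = P' f' (csm g' v0) :=
    M.cpl.uniq (M.mem f' _) (h1 ▸ M.norm' (M.mem f _) (F'.P_H0.2 h2))
  refine ⟨_, c1, _, d1, _, e1, ((d, d') * n * (e, e'))⁻¹ * (n⁻¹ * (c, c') * n), inv_mul_eq_one.2 t.symm,
    fun w => hg (mem_Mon_of_csm (F'.inj (u'.symm.trans w)).2),
    fun w => hg (mem_Mon_of_csm (F'.inj (u'.symm.trans (w.trans (F'.z_mul _ _)))).2), ?_, by group⟩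
  change P' 1 0 * ((d' * n.2 * e')⁻¹ * (n.2⁻¹ * c' * n.2)) = (d' * n.2 * e')⁻¹ * (n.2⁻¹ * c' * n.2) * P' 1 0
  have h4 : n.2⁻¹ * c' * n.2 * P' 1 0 * (n.2⁻¹ * c' * n.2)⁻¹ = d' * n.2 * e' * P' 1 0 * (d' * n.2 * e')⁻¹ := by
    calc _ = n.2⁻¹ * (c' * (n.2 * P' 1 0 * n.2⁻¹) * c'⁻¹) * n.2 := by group
      _ = d' * (n.2 * (P' 1 0 * e' * e'⁻¹) * n.2⁻¹) * d'⁻¹ := by
        rw [mul_inv_cancel_right, M.z2, u', h3, v']
      _ = _ := by rw [dl_zc F' (M.cpl.le e1)]; group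
  rw [mul_assoc _ _ (P' 1 0), mul_inv_eq_iff_eq_mul.1 h4]; group

end Amg

end Cfsg.Agent.Gr.Am
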