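import Mathlib
import Cfsg.Agent.Gr.Am.Cnt
import Cfsg.Agent.Gr.Am.Ext
import Cfsg.Agent.Gr.Am.Z
import Cfsg.Agent.Gr.L2.Four

/-! The rank two amalgam inside the automorphism group of the Griess algebra. -/

set_option autoImplicit false

namespace Cfsg.Agent.Gr.Am

open Cfsg.Agent.Spor Cfsg.Agent.Spor.Leech Cfsg.Agent.Gr.Rk Subgroup

attribute [local irreducible] sgC cls twoC csm perm negOne pc Sh tq act tau

noncomputable def GK : Subgroup (K × Co0) := (act.prod ((MonoidHom.snd _ _).comp Ct.subtype)).range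

theorem mem_GK {k : K} {g : Co0} : (k, g) ∈ GK ↔ ∃ γ : Ct, act γ = k ∧ γ.1.2 = g :=
  exists_congr fun _ => Prod.ext_iff

theorem frK : Fr GK tq where
  mul := tq_mul
  inj := tq_inj.1
  mem e a := let ⟨γ, h, k⟩ := exists_act_eq_tq e a; mem_GK.2 ⟨γ, k, h⟩
  neg := by
    obtain ⟨γ, h, k⟩ := exists_act_eq_tq 1 0
    exact mem_GK.2 ⟨γ * ActH.gn, by rw [map_mul, k, ActH.act_gn]; exact zz_mul_self,
      by rw [ActH.Ct_mul_snd, h, one_mul, ActH.gn_snd]⟩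
  surj g := let ⟨γ, h⟩ := exists_lift g; ⟨_, mem_GK.2 ⟨γ, rfl, h⟩⟩
  ker c h := by
    obtain ⟨γ, rfl, k⟩ := mem_GK.1 h
    exact act_mem_QK.2 (Or.inl k)
  act c g h e a := by
    obtain ⟨γ, rfl, rfl⟩ := mem_GK.1 h
    exact ⟨_, act_conj γ e a⟩

theorem exists_GK {k : K} : (∃ g, (k, g) ∈ GK) ↔ zz * k = k * zz :=
  ⟨fun ⟨_, h⟩ => frK.z_comm h, fun h => let ⟨γ, e⟩ := exists_act_of_comm h; ⟨_, mem_GK.2 ⟨γ, e, rfl⟩⟩⟩

theorem mem_H0K {k : K} : k ∈ H0 GK tq ↔ zz * k = k * zz ∧ zs * k = k * zs := by rw [mem_H0, exists_GK]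

theorem pairK : ESPair QK Qs zz zs := by
  have := finite_K
  have := mdata.pair (g := tau) (tau_conj_zz ▸ ⟨_, _, rfl⟩) (tau_conj_zz ▸ ZH.adj_zs.2.1)
  rwa [tau_conj_zz] at this

theorem cent_K {k : K} : k ∈ centralizer ((closure ({zz, zs} : Set K) : Subgroup K) : Set K) ↔ k ∈ H0 GK tq := by
  rw [centralizer_closure, mem_H0K, mem_centralizer_iff]; simp

theorem rad_K {k : K} : k ∈ (Qs ⊓ centralizer {zz}) ⊔ (QK ⊓ centralizer {zs}) ↔ k ∈ OO GK tq := by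
  have := finite_K
  have e : ∀ h : k ∈ H0 GK tq, k ∈ (Qs ⊓ centralizer {zz}) ⊔ (QK ⊓ centralizer {zs}) ↔ k ∈ OO GK tq :=
    fun h => by
      obtain ⟨γ, rfl⟩ := exists_act_of_comm (mem_H0K.1 h).1
      rw [L2.mem_rad_iff mdata pairK (p := none) (CL.eqv_tq.2 (cls_e8 _).symm)
        (x := ⟨_, act_mem_centralizer γ⟩) (mem_H0K.1 h).2, piK_act, MT.mem_map_pr MT.center_le_Sgn]
      exact ⟨fun t => ⟨⟨_, t, mem_GK.2 ⟨γ, rfl, rfl⟩⟩, h.2⟩,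
        fun t => frK.mem_of MT.negOne_mem_Sgn t.1 (mem_GK.2 ⟨γ, rfl, rfl⟩)⟩
  exact ⟨fun h => (e (cent_K.1 (pairK.rad_le h))).1 h, fun h => (e (OO_le h)).2 h⟩

theorem V_K {k : K} : k ∈ closure ({zz, zs} : Set K) ↔ k ∈ frK.lf T0S := by
  rw [pairK.mem_V, frK.mem_V, zz_mul_tq]; rfl

theorem exists_triK {y : K} (h1 : (y, Sh) ∈ GK) (h2 : y ∈ H0 GK tq) (h3 : y ^ 23 = 1) :
    ∃ x, Tri frK x y ∧ (∀ o ∈ OO GK tq, ∃ a ∈ frK.lf EvS, ∃ b ∈ frK.lf EvS, o = x * a * x⁻¹ * b) ∧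
      ∀ w ∈ frK.lf V12S, x * w * x⁻¹ * w⁻¹ ∈ frK.lf T0S := by
  have := finite_K
  have : Fact (Nat.Prime 23) := ⟨by norm_num⟩
  obtain ⟨φ, p1, -, p3, p4⟩ := pairK.exists_phi
  obtain ⟨⟨x, hx⟩, q1, q2⟩ := p3 (finRotate 3)
  have a1 : x * zz * x⁻¹ = zs := by simpa [q1] using p1 ⟨x, hx⟩ 0
  have a2 : x * zs * x⁻¹ = zz * zs := by simpa [q1] using p1 ⟨x, hx⟩ 1
  have H : ∀ x ∈ QK ⊔ Qs, ∀ h ∈ H0 GK tq, x * h * x⁻¹ * h⁻¹ ∈ OO GK tq := fun x hx h hh =>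
    rad_K.1 (pairK.comm_X_C hx h (cent_K.2 hh))
  obtain ⟨o, ho, a3⟩ := exists_conj (O := OO GK tq) (p := 23) (fun h => by
    obtain ⟨n, hn⟩ := IsPGroup.iff_card.1 pairK.rad_isPGroup
    rw [← Subgroup.ext fun _ => rad_K, hn] at h
    exact absurd (Nat.Prime.dvd_of_dvd_pow this.out h) (by norm_num)) h3
    (show (x * y * x⁻¹) ^ 23 = 1 by rw [conj_pow, h3]; simp) (H x q2 y h2) fun o => frK.conj_OO h2
  have b0 : o * x ∈ QK ⊔ Qs := mul_mem (pairK.rad_le_X (rad_K.2 ho)) q2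
  have b3 : o * x * y * (o * x)⁻¹ = y := by simpa [mul_assoc] using a3
  have oc : ∀ v ∈ frK.lf T0S, o * v * o⁻¹ = v := fun v hv => by
    rw [← frK.V_comm (OO_le ho) hv, mul_inv_cancel_right]
  have b1 : o * x * zz * (o * x)⁻¹ = zs := by
    rw [← oc zs (frK.mem_lf.2 t0_v0), ← a1]; group
  have b2 : o * x * zs * (o * x)⁻¹ = tq 0 v0 := by
    rw [← oc (tq 0 v0) (frK.mem_lf.2 t0_v0), show tq 0 v0 = zz * zs from (zz_mul_tq 1 _).symm, ← a2]; group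
  generalize o * x = u at b0 b1 b2 b3
  have b4 : u * tq 0 v0 * u⁻¹ = zz := by
    calc _ = u * zz * u⁻¹ * (u * zs * u⁻¹) := by rw [show tq 0 v0 = zz * zs from (zz_mul_tq 1 _).symm]; group
      _ = _ := by rw [b1, b2, tq_mul, ll_add_self]; simp [zz]
  have c0 : u * u * u ∈ H0 GK tq := mem_H0K.2 ⟨(mul_inv_eq_iff_eq_mul.1 (by
    calc _ = u * (u * (u * zz * u⁻¹) * u⁻¹) * u⁻¹ := by group
      _ = _ := by rw [b1, b2, b4])).symm, (mul_inv_eq_iff_eq_mul.1 (by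
    calc _ = u * (u * (u * zs * u⁻¹) * u⁻¹) * u⁻¹ := by group
      _ = _ := by rw [b2, b4, b1])).symm⟩
  have c1 := mul_mem (mul_mem b0 b0) b0
  have yu : Commute y u := (mul_inv_eq_iff_eq_mul.1 b3).symm
  have c2 := frK.V_of_comm h1 (rad_K.1 (p4 _ c1 (cent_K.2 c0))) (by
    rw [((yu.mul_right yu).mul_right yu).eq, mul_inv_cancel_right, mul_inv_cancel]; exact one_mem _)
  have c3 : ∀ h ∈ H0 GK tq, u * (u * u * u) * h * (u * (u * u * u))⁻¹ = u * h * u⁻¹ := fun h hh => by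
    rw [mul_assoc u, frK.V_comm hh c2]; group
  have c4 := frK.V_sq (frK.V_le_W c2)
  have d0 := mul_mem b0 c1
  have d1 := (c3 _ (frK.P_H0.2 t0_zero.v12.2)).trans b1
  have d2 := (c3 _ (frK.P_H0.2 t0_v0.v12.2)).trans b2
  have d3 := (c3 _ h2).trans b3
  have d4 := (c3 _ (frK.P_H0.2 t0_v0.v12.2)).trans b4
  have d5 : u * (u * u * u) * (u * (u * u * u)) * (u * (u * u * u)) = 1 := by
    calc _ = u * u * u * (u * u * u) * (u * u * u * (u * u * u)) := by group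
      _ = 1 := by rw [c4, one_mul]
  generalize u * (u * u * u) = x at d0 d1 d2 d3 d4 d5
  have T : Tri frK x y := ⟨d5, d1, d2, H x d0, h1, h2, d3, fun e a ha => by
    have e1 : x * tq e a * zz * (x * tq e a)⁻¹ = zs := by
      rw [← d1, mul_assoc x, tq_mul_zz, ← zz_mul_tq]; simp [zz, mul_assoc]
    have e2 : x * tq e a * zs * (x * tq e a)⁻¹ = zz := by
      have := tq_conj e 1 a v0
      rw [pol_comm, (z2_cases _).resolve_left (mt ev0_iff.2 ha), z2_add_self] at this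
      rw [← d4, ← this]; group
    generalize x * tq e a = n at e1 e2
    refine mem_H0K.2 ⟨(mul_inv_eq_iff_eq_mul.1 ?_).symm, (mul_inv_eq_iff_eq_mul.1 ?_).symm⟩
    · calc _ = n * (n * zz * n⁻¹) * n⁻¹ := by group
        _ = _ := by rw [e1, e2]
    · calc _ = n * (n * zs * n⁻¹) * n⁻¹ := by group
        _ = _ := by rw [e2, e1]⟩
  refine ⟨x, T, fun o ho => ?_, fun w hw => V_K.1 (pairK.comm_X_E d0 w ⟨?_, ?_⟩)⟩
  · obtain ⟨a, ha, b, hb, rfl⟩ := pairK.exists_mul_of_mem_rad (rad_K.2 ho)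
    obtain ⟨e, w, t⟩ := (inQ_zs.2 ha.1).of_conj (g := x⁻¹) (by rw [← d1]; simp [zz, mul_assoc])
    obtain ⟨f, v, rfl⟩ := hb.1
    refine ⟨_, frK.mem_lf.2 (frK.P_H0.1 (T.tw1.xH' (tq e w) ?_)), tq f v,
      frK.mem_lf.2 (ev0_iff.2 (tq_comm_iff.1 (mem_centralizer_singleton.1 hb.2))), by rw [← t]; group⟩
    rw [← t, show x * (x⁻¹ * a * x⁻¹⁻¹) * x⁻¹ = a by group]
    exact OO_le (rad_K.1 (mem_sup_left ha))
  · exact let ⟨e, a, _, t⟩ := hw; ⟨e, a, t⟩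
  · obtain ⟨w, rfl⟩ := (MulAut.conj x).surjective w
    obtain ⟨e, a, -, t⟩ := T.tw1.W_iff.1 hw
    exact inQ_zs.1 (d1 ▸ (inQ_zz.2 ⟨e, a, t⟩).conj x)

end Cfsg.Agent.Gr.Am
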