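import Mathlib
import Cfsg.Agent.Gr.Am.KTri
import Cfsg.Agent.Gr6.M0
import Cfsg.Agent.Spor.MTBaby

/-! Coordinates for a group of shape `2^(1+24).Co1`. -/

set_option autoImplicit false

namespace Cfsg.Agent.Gr.Am

open Cfsg.Agent.Spor Cfsg.Agent.Spor.Leech Cfsg.Agent.Spor.MT Cfsg.Agent.Gr.Rk Subgroup

attribute [local irreducible] sgC cls twoC csm perm negOne pc Sh tq act tau

theorem split2 {X : Type*} [Group X] [Finite X] {D W : Subgroup X} (h : W ≤ D) (sq : ∀ t ∈ D, t * t ∈ W) {ζ : X}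
    (h1 : ζ ∈ D) (h2 : ζ ∉ W) : ∃ Φ, W ≤ Φ ∧ Φ ≤ D ∧ ζ ∉ Φ ∧ ∀ t ∈ D, t ∈ Φ ∨ t * ζ ∈ Φ := by
  obtain ⟨Φ, h3, ⟨h4, h5⟩, h6⟩ := Finite.exists_le_maximal (p := fun Φ => Φ ≤ D ∧ ζ ∉ Φ) ⟨h, h2⟩
  have s : ∀ t ∈ D, t * t ∈ Φ := fun t ht => h3 (sq t ht)
  have n : ∀ t ∈ D, ∀ a ∈ Φ, t * a * t ∈ Φ := fun t ht a ha => by
    simpa [mul_assoc] using mul_mem (s _ (mul_mem ht (h4 ha))) (inv_mem ha)
  refine ⟨Φ, h3, h4, h5, fun t ht => or_iff_not_imp_right.2 fun u => ?_⟩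
  let B : Subgroup X :=
    { carrier := {a | a ∈ Φ ∨ t * a ∈ Φ}
      one_mem' := Or.inl (one_mem _)
      mul_mem' := by
        rintro a b (ha | ha) (hb | hb)
        · exact Or.inl (mul_mem ha hb)
        · exact Or.inr (by simpa [mul_assoc] using mul_mem (mul_mem (n t ht a ha) (inv_mem (s t ht))) hb)
        · exact Or.inr (mul_assoc t a b ▸ mul_mem ha hb)
        · exact Or.inl (by simpa [mul_assoc] using mul_mem (n _ (inv_mem ht) _ ha) hb)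
      inv_mem' := by
        rintro a (ha | ha)
        · exact Or.inl (inv_mem ha)
        · exact Or.inr (by simpa [mul_assoc] using n t ht _ (inv_mem ha)) }
  exact h6 (y := B) ⟨fun a ha => ha.elim (h4 ·) fun v => (mul_mem_cancel_left ht).1 (h4 v),
    fun v => v.elim h5 u⟩ (fun a ha => Or.inl ha) (Or.inr (s t ht))

theorem exists_P {X : Type*} [Group X] [Finite X] {Q : Subgroup X} {z : X} {π : centralizer {z} →* Cfsg.Spor.Co1}
    {r : Λ → X} (h : MData Q z π r) : ∃ P : ZMod 2 → LL → X,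
      (∀ e f a b, P e a * P f b = P (e + f + b.2 ⬝ᵥ a.1) (a + b)) ∧ (∀ e v, Eqv z (P e (cls v)) (r v)) ∧
      ∀ e a, P (e + 1) a = z * P e a := by
  have := finite_K
  have zz2 := h.zz
  let D : Subgroup (X × K) :=
    { carrier := {t | ∃ v e, Eqv z t.1 (r v) ∧ t.2 = tq e (cls v)}
      one_mem' := ⟨0, 0, ((h.r_one 0).2 (Cg.refl _)).symm zz2, by rw [cls_zero, tq_zero]; rfl⟩
      mul_mem' := fun ⟨v, e, a, b⟩ ⟨w, f, c, d⟩ => ⟨v + w, _,
        (a.mul zz2 c (h.es.z_comm _ (h.mem_of_eqv a))).trans zz2 ((h.r_add v w).symm zz2), by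
          rw [Prod.snd_mul, b, d, tq_mul, cls_add]⟩
      inv_mem' := fun {t} ⟨v, e, a, b⟩ => ⟨v, _, (h.es.aes.eqv_inv (h.mem_of_eqv a)).trans zz2 a, by
        rw [Prod.snd_inv, b, frK.inv]⟩ }
  have z2 : ((z, zz) : X × K) * (z, zz) = 1 := Prod.ext zz2 zz_mul_self
  have r0 : Eqv z z (r 0) := Eqv.trans zz2 (Or.inr (mul_one z).symm) (((h.r_one 0).2 (Cg.refl _)).symm zz2)
  obtain ⟨Φ, h1, h2, h3, h4⟩ := split2 (D := D) (W := zpowers (z, zz)) (ζ := (z, 1))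
    (zpowers_le.2 ⟨0, 1, r0, by rw [cls_zero]; rfl⟩) (fun ⟨q, k⟩ ⟨v, e, a, b⟩ => by
      have m := h.mem_of_eqv a
      have s := (sqf_eqv h.es.aes (h.r_mem v) a).trans (h.sqf_eq v)
      rw [mem_zpowers_iff_of_sq z2, Prod.mk_mul_mk, show k = _ from b, tq_mul_self, qL_cls, qd, ← s]
      rcases h.es.sq _ m with u | u
      · rw [sqf_eq_zero.2 u, tq_zero, show q * q = 1 from u]; exact Or.inl rfl
      · rw [sqf_eq_one.2 (u ▸ h.es.z_ne), show q * q = z from u]; exact Or.inr rfl)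
    ⟨0, 0, r0, by rw [cls_zero, tq_zero]⟩ fun u => ((mem_zpowers_iff_of_sq z2).1 u).elim
      (fun v => h.es.z_ne (congrArg Prod.fst v)) fun v => zz_ne_one (congrArg Prod.snd v).symm
  have ex : ∀ e a, ∃ q, (q, tq e a) ∈ Φ := fun e a => by
    obtain ⟨v, rfl⟩ := cls_surjective a
    exact (h4 (r v, tq e (cls v)) ⟨v, e, Or.inl rfl, rfl⟩).elim (⟨_, ·⟩) fun u => ⟨_, by simpa using u⟩
  have cl : ∀ {q e v}, (q, tq e (cls v)) ∈ Φ → Eqv z q (r v) := fun t => by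
    obtain ⟨w, f, a, b⟩ := h2 t
    exact a.trans zz2 (h.eqv_iff.2 (cls_eq_iff.1 (tq_inj.1 b).2).symm)
  have un : ∀ {q q' e a}, (q, tq e a) ∈ Φ → (q', tq e a) ∈ Φ → q = q' := fun {q q' e a} t t' => by
    obtain ⟨v, rfl⟩ := cls_surjective a
    refine ((cl t).trans zz2 ((cl t').symm zz2)).resolve_right fun u => h3 ?_
    simpa [u] using Φ.mul_mem t (Φ.inv_mem t')
  choose P hP using ex
  exact ⟨P, fun e f a b => un (tq_mul e f a b ▸ mul_mem2 (hP e a) (hP f b)) (hP _ _), fun e v => cl (hP _ _),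
    fun e a => un (hP _ _) (zz_mul_tq e a ▸ mul_mem2 (h1 (mem_zpowers _)) (hP e a))⟩

theorem exists_fr {G : Type*} [Group G] (C : Subgroup G) (Q : Subgroup C) [Q.Normal]
    (hQ : IsExtraspecial 2 (Q.map C.subtype)) (hc : Nat.card (Q.map C.subtype) = 2 ^ 25)
    (hcc : C ⊓ centralizer (Q.map C.subtype : Set G) ≤ Q.map C.subtype) (hCo : Cfsg.Spor.IsoCo1 (C ⧸ Q)) :
    Finite C ∧ ∃ Γ P, Fr (G := G) Γ P ∧ pre Γ ⊤ = C ∧ ∀ r, (r, 1) ∈ Γ ↔ r ∈ Q.map C.subtype := by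
  obtain ⟨ε⟩ := hCo
  rw [card_map_of_injective C.subtype_injective] at hc
  have : Finite C := Nat.finite_of_card_ne_zero (by
    rw [card_eq_card_quotient_mul_card_subgroup Q, hc, Nat.card_congr ε.toEquiv, card_Co1]; norm_num)
  have hE := isExtraspecial_congr (Q.equivMapOfInjective _ C.subtype_injective).symm hQ
  have h2c : centralizer (Q : Set C) ≤ Q := fun c hc => by
    obtain ⟨q, h1, h2⟩ := hcc ⟨c.2, by rintro _ ⟨q, h, rfl⟩; exact congrArg Subtype.val (hc q h)⟩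
    exact (Subtype.ext h2 : q = c) ▸ h1
  obtain ⟨ψ, h1, h2, h3, h4⟩ := Gr6.exists_leech Q hE hc h2c ε
  obtain ⟨z, h⟩ := exists_ES2 hE
  have zz2 := h.z_sq
  have zc : ∀ c : C, c ∈ centralizer {z} := fun c => mem_centralizer_singleton.2 (mul_inv_eq_iff_eq_mul.1
    (h.conj_z_of_norm (by rw [normalizer_eq_top]; trivial))).symm
  let r : Λ → C := fun v => ((ψ v).out : Q)
  have hr : ∀ (v : Λ) (x : Q), ψ v = QuotientGroup.mk x ↔ Eqv z (r v) x := fun v x => by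
    rw [← mk_eq_iff_eqv h, QuotientGroup.out_eq']
  let π := ε.toMonoidHom.comp (QuotientGroup.mk' Q)
  have ker : ∀ c, π c = 1 ↔ c ∈ Q := fun c => by simp [π]
  have sj : Function.Surjective π := ε.surjective.comp (QuotientGroup.mk'_surjective Q)
  have M : MData Q z (π.comp (centralizer {z}).subtype) r := ⟨h, h.lg h2c (by rw [normalizer_eq_top]; exact le_top),
    hc, fun g => let ⟨c, e⟩ := sj g; ⟨⟨c, zc c⟩, e⟩, fun c => ker c, fun v => (ψ v).out.2,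
    fun v w => (hr (v + w) ((ψ v).out * (ψ w).out)).1 (by
      rw [h1, QuotientGroup.mk_mul, QuotientGroup.out_eq', QuotientGroup.out_eq']),
    fun q hq => let ⟨v, hv⟩ := h2 (QuotientGroup.mk ⟨q, hq⟩); ⟨v, ((hr v _).1 hv).symm zz2⟩,
    fun v => by rw [cg_zero_iff, ← h3]; exact (hr v 1).symm,
    fun x g hg v => (hr _ _).1 (h4 x g hg v (ψ v).out (QuotientGroup.out_eq' _).symm)⟩
  obtain ⟨P, p1, p2, p3⟩ := exists_P M
  have p4 : ∀ {q v}, Eqv z q (r v) → ∃ e, q = P e (cls v) := fun {q v} t =>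
    (t.trans zz2 ((p2 0 v).symm zz2)).elim (⟨_, ·⟩) fun u => ⟨_, u.trans (p3 _ _).symm⟩
  let Γ : Subgroup (G × Co0) := ((π.comp (MonoidHom.fst _ _)).eqLocus (pr.comp (MonoidHom.snd _ _))).map
    (C.subtype.prodMap (MonoidHom.id _))
  have mem : ∀ {c g}, (c, g) ∈ Γ ↔ ∃ h : C, π h = pr g ∧ h = c := fun {c g} =>
    ⟨fun ⟨t, a, b⟩ => ⟨t.1, (show π t.1 = pr t.2 from a).trans (congrArg (pr ·.2) b), congrArg Prod.fst b⟩,
      fun ⟨h, a, b⟩ => ⟨(h, g), a, b ▸ rfl⟩⟩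
  have one : ∀ r, (r, 1) ∈ Γ ↔ r ∈ Q.map C.subtype := fun r => mem.trans
    (exists_congr fun h => and_congr (by rw [map_one, ker]; rfl) Iff.rfl)
  refine ⟨this, Γ, fun e a => P e a, ⟨fun e f a b => congrArg Subtype.val (p1 e f a b), fun {e f a b} t => ?_,
    fun e a => ?_, mem.2 ⟨1, by rw [map_one, pr_eq_one_iff.2 (Or.inr rfl)], rfl⟩,
    fun g => let ⟨c, e⟩ := sj (pr g); ⟨c, mem.2 ⟨c, e, rfl⟩⟩, fun c t => ?_, fun c g t e a => ?_⟩,
    le_antisymm (fun c ⟨g, _, t⟩ => let ⟨h, _, b⟩ := mem.1 t; b ▸ h.2) fun c hc => ?_, one⟩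
  · have t : P e a = P f b := Subtype.ext t
    obtain ⟨v, rfl⟩ := cls_surjective a
    obtain ⟨w, rfl⟩ := cls_surjective b
    have u := cls_eq_iff.2 (M.eqv_iff.1 (((p2 e v).symm zz2).trans zz2 (t ▸ p2 f w)))
    refine ⟨by_contra fun ne => h.z_ne ?_, u⟩
    rwa [z2_ne ne, p3, u, mul_eq_right] at t
  · obtain ⟨v, rfl⟩ := cls_surjective a
    exact (one _).2 ⟨_, M.mem_of_eqv (p2 e v), rfl⟩
  · obtain ⟨q, hq, rfl⟩ := (one _).1 t
    obtain ⟨v, u⟩ := M.r_surj q hq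
    obtain ⟨e, rfl⟩ := p4 u
    exact ⟨e, _, rfl⟩
  · obtain ⟨c, u, rfl⟩ := mem.1 t
    obtain ⟨v, rfl⟩ := cls_surjective a
    obtain ⟨f, w⟩ := p4 (((p2 e v).conj (mem_centralizer_singleton.1 (zc c))).trans zz2
      ((M.r_smul ⟨c, zc c⟩ g u.symm v).symm zz2))
    exact ⟨f, by rw [csm_cls]; exact congrArg Subtype.val w⟩
  · obtain ⟨g, u⟩ := pr_surjective (π ⟨c, hc⟩)
    exact ⟨g, trivial, mem.2 ⟨_, u.symm, rfl⟩⟩

end Cfsg.Agent.Gr.Am
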