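import Mathlib
import Cfsg.Agent.Gr.Am.KTri

/-! Triangles of the collinearity graph on the class of `zz` that are not lines. -/

set_option autoImplicit false

namespace Cfsg.Agent.Gr.Am

open Cfsg.Agent.Spor Cfsg.Agent.Spor.Leech Cfsg.Agent.Gr.Rk Subgroup Relation
open scoped Pointwise

attribute [local irreducible] sgC cls twoC csm perm negOne pc Sh tq act tau

theorem ind_pair {i j : Pt} (h : i ≠ j) : BinCode.ind {i, j} = e2 i j := funext fun p => by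
  rw [e2_apply, BinCode.ind]
  by_cases h1 : p = i <;> by_cases h2 : p = j <;> simp_all

/-- The classes that belong to sextets. -/
def Sx4 (w : LL) : Prop := V12 w ∧ w.2 ≠ 0 ∧ w ∉ ShS

theorem Sx4.tetrad {w : LL} (h : Sx4 w) : ∃ t : Finset Pt, t.card = 4 ∧ w.2 = sy (BinCode.ind t) := by
  obtain ⟨δ, hδ⟩ := sy_surjective w.2
  obtain ⟨t, ht, hw⟩ := Golay.isGolay.exists_small δ
  have e : w.2 = sy (BinCode.ind t) := hδ ▸ cd_eq_of_add (by rw [← map_add]; exact sy_eq_zero_iff.2 hw)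
  have ev := h.1.2
  rw [e, sy_dot_om, even_wt, wt_eq_card, BinCode.support_ind] at ev
  refine ⟨t, by_contra fun ne => ?_, e⟩
  obtain k | k : t.card = 0 ∨ t.card = 2 := by omega
  · rw [Finset.card_eq_zero.1 k, show BinCode.ind (∅ : Finset Pt) = 0 from funext fun p => by
      simp [BinCode.ind], map_zero] at e
    exact h.2.1 e
  · obtain ⟨i, j, hij, rfl⟩ := Finset.card_eq_two.1 k
    rw [ind_pair hij] at e
    rcases h.1.1 with u | u
    · exact h.2.2 ((Prod.ext u e : w = clB i j) ▸ clB_mem hij)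
    · exact h.2.2 ((Prod.ext u e : w = clC i j) ▸ clC_mem hij)

theorem Sx4.trans {w w' : LL} (h : Sx4 w) (h' : Sx4 w') : ∃ g ∈ Mon, csm g w = w' := by
  obtain ⟨t, t1, t2⟩ := h.tetrad
  obtain ⟨s, s1, s2⟩ := h'.tetrad
  obtain ⟨σ, hσ, e⟩ := Golay.exists_smul_finset_eq (t1.trans s1.symm) (by omega)
  obtain ⟨a, b⟩ := h.1.csm_mon t2 0 ⟨σ, hσ⟩
  rw [support_inj (a := pm ⟨σ, hσ⟩ (BinCode.ind t)) (b := BinCode.ind s) (by
    rw [support_pm, BinCode.support_ind, BinCode.support_ind, e]), ← s2] at b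
  rcases (t0_iff (w := _ + w')).2 ⟨D0.add a.1 h'.1.1, by rw [Prod.snd_add, b, cd_add_self]⟩ with u | u
  · exact ⟨_, mon_mem _ _, ll_eq_of_add u⟩
  obtain ⟨k, hk⟩ := Function.ne_iff.1 h'.2.1
  refine ⟨_, mul_mem (sgC_mem_Mon (Pi.single k 1)) (mon_mem 0 ⟨σ, hσ⟩), ?_⟩
  rw [csm_mul, a.csm_sgC, b, dotProduct_single_one, (z2_cases _).resolve_left hk, one_smul]
  exact (congrArg _ u.symm).trans (ll_cancel _ _)

/-- A triangle that is not a line. -/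
structure Pl (a b c : K) : Prop where
  ab : adjZ a b
  ac : adjZ a c
  bc : adjZ b c
  ne : c ≠ a * b

variable {a b c a' b' c' g : K}

theorem Pl.conj (h : Pl a b c) (g : K) : Pl (g * a * g⁻¹) (g * b * g⁻¹) (g * c * g⁻¹) :=
  ⟨(adjZ_conj g).2 h.ab, (adjZ_conj g).2 h.ac, (adjZ_conj g).2 h.bc, by
    rw [← conj_mul', ne_eq, conj_eq_iff]; exact h.ne⟩

theorem Pl.std (h : Pl zz zs c) : ∃ e w, c = tq e w ∧ Sx4 w := by
  obtain ⟨h1, h2, e, w, rfl⟩ := adjZ_zz.1 h.ac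
  have := finite_K
  have hw : tq e w ∈ OO GK tq := frK.P_OO.2 (ev0_iff.2 (tq_comm_iff.1 (ZH.comm h.bc.2.2)))
  have v : V12 w := frK.mem_lf.1 ((frK.W_iff hw).2 fun o ho =>
    V_K.1 (pairK.comm_X_E (pairK.rad_le_X (rad_K.2 ho)) _ ⟨⟨e, w, rfl⟩, inQ_zs.1 h.bc.2.2⟩))
  refine ⟨e, w, rfl, v, fun k => ?_, fun k => ZH.not_DD h1 (tq_mem_DD_iff.2 k)⟩
  rcases frK.mem_V.1 (frK.mem_lf.2 (t0_iff.2 ⟨v.1, k⟩) : tq e w ∈ _) with u | u | u | u
  exacts [ZH.ne_one h1 u, h2 u, h.bc.2.1 u, h.ne (u.trans (zz_mul_tq 1 _).symm)]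

theorem Pl.trans (h : Pl a b c) (h' : Pl a' b' c') :
    ∃ g, g * a * g⁻¹ = a' ∧ g * b * g⁻¹ = b' ∧ g * c * g⁻¹ = c' := by
  obtain ⟨p, p1, p2⟩ := ZH.adj_std h.ab
  obtain ⟨q, q1, q2⟩ := ZH.adj_std h'.ab
  obtain ⟨e, w, t, s⟩ := Pl.std (p1 ▸ p2 ▸ h.conj p)
  obtain ⟨f, w', t', s'⟩ := Pl.std (q1 ▸ q2 ▸ h'.conj q)
  obtain ⟨k, hk, rfl⟩ := s.trans s'
  obtain ⟨γ, rfl, g1, g2⟩ := exists_lift_two k (a := v0) (b := w) ZH.om_ne.1 (fun u => s.2.1 (by rw [u]; rfl))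
    (fun u => s.2.1 (by rw [← u])) 0 (e + f)
  refine ⟨q⁻¹ * (act γ * p), ?_, ?_, ?_⟩ <;> rw [← conj_conj, ← conj_conj]
  · rw [p1, ← zz_comm_act, mul_inv_cancel_right, ← q1, ZH.cj_inv]
  · rw [p2, act_conj, g1, csm_v0 hk, add_zero, ← show _ = tq 1 v0 from q2, ZH.cj_inv]
  · rw [t, act_conj, g2, ← add_assoc, z2_add_self, zero_add, ← t', ZH.cj_inv]

theorem Pl.dc (h : Pl a b c) (h1 : a * g = g * a)
    (H : ∀ k, k * a * k⁻¹ = a → k * b * k⁻¹ = b → k * c * k⁻¹ = c → k * g * k⁻¹ = g) :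
    ∃ i < 2, ∃ j < 2, ∃ k < 2, g = a ^ i * b ^ j * c ^ k := by
  obtain ⟨p, p1, p2⟩ := ZH.adj_std h.ab
  obtain ⟨e, w, t, s⟩ := Pl.std (p1 ▸ p2 ▸ h.conj p)
  have H' : ∀ x, pol x v0 = 0 → pol x w = 0 → tq 0 x * (p * g * p⁻¹) * (tq 0 x)⁻¹ = p * g * p⁻¹ :=
    fun x k1 k2 => by
      have cj : ∀ {a b : K}, p * a * p⁻¹ = b → tq 0 x * b * (tq 0 x)⁻¹ = b →
          p⁻¹ * tq 0 x * p * a * (p⁻¹ * tq 0 x * p)⁻¹ = a := fun {a b} u v => by
        calc _ = p⁻¹ * (tq 0 x * (p * a * p⁻¹) * (tq 0 x)⁻¹) * p⁻¹⁻¹ := by group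
          _ = a := by rw [u, v, ← u, ZH.cj_inv]
      have := H _ (cj p1 (by rw [zz, tq_conj, pol_zero_right, add_zero])) (cj p2 (by rw [tq_conj, k1, add_zero]))
        (cj t (by rw [tq_conj, k2, add_zero]))
      conv_rhs => rw [← this]
      group
  obtain ⟨γ, u⟩ := exists_GK.2 (show zz * (p * g * p⁻¹) = p * g * p⁻¹ * zz by
    rw [← p1, ← conj_mul', ← conj_mul', h1])
  have fx : ∀ x, pol x v0 = 0 → pol x w = 0 → csm γ x = x := fun x k1 k2 => by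
    obtain ⟨f, v⟩ := frK.act _ _ u 0 x
    rw [← mul_inv_eq_iff_eq_mul.1 (H' x k1 k2), mul_inv_cancel_right] at v
    exact (tq_inj.1 v).2.symm
  have fv : ∀ x, V12 x → csm γ x = x := fun x k => fx x (k.pol t0_v0.v12) (k.pol s.1)
  obtain ⟨d, σ, rfl⟩ := exists_mon (mem_Mon_of_csm (fv _ t0_v0.v12))
  obtain rfl : σ = 1 := Subtype.ext (Equiv.ext fun p => by_contra fun hp => by
    obtain ⟨q, -, hq⟩ := exists_pt (δ := 1) [p, σ.1 p] (by rw [wt_one]; simp)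
    simp only [List.mem_cons, List.not_mem_nil, or_false, not_or] at hq
    exact moved hp hq.1 hq.2 (fv _ (v12_clB p q)))
  rw [map_one, mul_one] at u fv
  obtain ⟨f, l, v⟩ := frK.ker' u (sgC_pm.2 (d0_of_v12 fv))
  have key : ∀ j < 2, ∀ k < 2, ∀ f', zs ^ j * tq e w ^ k = tq f' l →
      ∃ i < 2, ∃ j < 2, ∃ k < 2, g = a ^ i * b ^ j * c ^ k := fun j hj k hk f' r => by
    have : ∀ i, zz ^ i * tq f' l = tq f l → g = a ^ i * b ^ j * c ^ k := fun i q => by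
      rw [← v, ← r, ← p1, ← p2, ← t, conj_pow, conj_pow, conj_pow, ← conj_mul', ← conj_mul', conj_eq_iff] at q
      rw [← q, mul_assoc]
    by_cases q : f = f'
    · exact ⟨0, by omega, j, hj, k, hk, this 0 (by rw [q, pow_zero, one_mul])⟩
    · exact ⟨1, by omega, j, hj, k, hk, this 1 (by rw [z2_ne q, pow_one, zz_mul_tq])⟩
  rcases mem_span_of_pol (a := v0) (b := w) (c := l) (fun x k1 k2 => by
    have := H' x k1 k2
    rw [v, tq_conj] at this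
    exact add_eq_left.1 (tq_inj.1 this).1) with rfl | rfl | rfl | rfl
  · exact key 0 (by omega) 0 (by omega) 0 (by simp [tq_zero])
  · exact key 1 (by omega) 0 (by omega) 1 (by simp)
  · exact key 0 (by omega) 1 (by omega) e (by simp)
  · exact key 1 (by omega) 1 (by omega) _ (by rw [pow_one, pow_one, tq_mul])

theorem connZ (ha : a ∈ ZC) (hb : b ∈ ZC) : ReflTransGen adjZ a b := by
  obtain ⟨s, s1, s2⟩ := ZH.ex_DD ha
  obtain ⟨t, t1, t2⟩ := ZH.ex_DD hb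
  have m : ∀ {t z z' : K}, t ∈ DD → InQ z t → InQ z' t → ReflTransGen adjZ z z' := fun h a b =>
    ZH.rtg_map id (fun _ _ k => k.1) (ZH.connB h a b)
  have := connM s s1 t t1
  clear hb
  induction this generalizing b with
  | refl => exact m s1 s2 t2
  | @tail x y _ k ih =>
    obtain ⟨g, g1, g2⟩ := O1_std0 k.1 k.2
    have : g⁻¹ * y3 * g⁻¹⁻¹ ∈ RR x y := by
      rw [← ZH.cj_inv g x, ← ZH.cj_inv g y, g1, g2]; exact (GE.cj_NN _).2 y3_mem_NN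
    have := ZH.Gm.of_RR k.1 k.2 this
    exact (ih k.1 this.1).trans (m t1 this.2 t2)

end Cfsg.Agent.Gr.Am
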