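import Mathlib
import Cfsg.Agent.Gr.Am.HolK

/-! A completion of the amalgam in which one triangle closes up to a normal subgroup. -/

set_option autoImplicit false

namespace Cfsg.Agent.Gr.Am

open Cfsg.Agent.Spor Subgroup Relation

attribute [local irreducible] tq act tau

variable {X : Type*} [Group X]

/-- The data of the completion. -/
structure HD (π : X →* K) (C : Subgroup X) (n : X) (N : Subgroup X) : Prop where
  map : C.map π = centralizer {zz}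
  h1 : π n * zz * (π n)⁻¹ = zs
  sq : n * n ∈ C
  uniq : ∀ h ∈ C, π h * zs = zs * π h → n⁻¹ * h * n ∈ C
  nrm : N.Normal
  d1 : ∀ δ ∈ N, δ ∈ C → δ = 1
  d2 : ∀ δ ∈ N, π δ = 1 → δ = 1
  line : ∃ u ∈ C, π u * zs * (π u)⁻¹ = zz * zs ∧ ∃ a ∈ C, ∃ b ∈ C, n⁻¹ * u * n = a * n * b
  one : ∃ c ∈ C, ∃ d ∈ C, ∃ e ∈ C, ∃ δ ∈ N, π c * zs * (π c)⁻¹ ≠ zz * zs ∧ zz * π δ = π δ * zz ∧
    n⁻¹ * c * n = d * n * e * δ

noncomputable def pt (π : X →* K) {C : Subgroup X} (y : X ⧸ C) : K := π y.out * zz * (π y.out)⁻¹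

def Aj {C : Subgroup X} (n : X) (y y' : X ⧸ C) : Prop := ∃ g : X, (g : X ⧸ C) = y ∧ ((g * n : X) : X ⧸ C) = y'

/-- The path `b, c, a` closes up to `δ`. -/
structure Hol (π : X →* K) {C : Subgroup X} (n : X) (N : Subgroup X) (a b c : X ⧸ C) (δ : X) : Prop where
  ba : Aj n b a
  bc : Aj n b c
  ca : Aj n (δ • c) a
  mem : δ ∈ N
  fix : π δ * pt π a * (π δ)⁻¹ = pt π a

variable {π : X →* K} {C N : Subgroup X} {n g δ δ' : X} {a b c a' b' c' : X ⧸ C} {k : K}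

theorem smul_mk (g h : X) : g • (h : X ⧸ C) = (g * h : X) := rfl

theorem Aj.smul (h : Aj n a b) (g : X) : Aj n (g • a) (g • b) := by
  obtain ⟨x, rfl, rfl⟩ := h
  exact ⟨g * x, rfl, by rw [smul_mk, mul_assoc]⟩

theorem Aj.inv (h : Aj n (g • a) b) : Aj n a (g⁻¹ • b) := by simpa using h.smul g⁻¹

namespace HD

variable (D : HD π C n N)
include D

theorem fix (h : g ∈ C) : π g * zz * (π g)⁻¹ = zz := by
  have : π g ∈ centralizer {zz} := D.map ▸ mem_map_of_mem π h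
  rw [mem_centralizer_singleton_iff.1 this, mul_inv_cancel_right]

theorem pt_mk (g : X) : pt π (g : X ⧸ C) = π g * zz * (π g)⁻¹ := by
  obtain ⟨h, e⟩ := QuotientGroup.mk_out_eq_mul C g
  rw [pt, e, map_mul, ← conj_conj, D.fix h.2]

theorem pt_smul (g : X) (a : X ⧸ C) : pt π (g • a) = π g * pt π a * (π g)⁻¹ := by
  obtain ⟨x, rfl⟩ := QuotientGroup.mk_surjective a
  rw [smul_mk, D.pt_mk, D.pt_mk, map_mul, conj_conj]

theorem pt_n (g : X) : pt π ((g * n : X) : X ⧸ C) = π g * zs * (π g)⁻¹ := by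
  rw [D.pt_mk, map_mul, ← conj_conj, D.h1]

theorem symm (h : Aj n a b) : Aj n b a := by
  obtain ⟨x, rfl, rfl⟩ := h
  exact ⟨x * n, rfl, by rw [mul_assoc, QuotientGroup.mk_mul_of_mem x D.sq]⟩

theorem adj (h : Aj n a b) : adjZ (pt π a) (pt π b) := by
  obtain ⟨x, rfl, rfl⟩ := h
  rw [D.pt_mk, D.pt_n]
  exact (adjZ_conj _).2 ZH.adj_zs

theorem trans (h : k * pt π a * k⁻¹ = pt π b) : ∃ g, π g = k ∧ g • a = b := by
  obtain ⟨x, rfl⟩ := QuotientGroup.mk_surjective a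
  obtain ⟨y, rfl⟩ := QuotientGroup.mk_surjective b
  rw [D.pt_mk, D.pt_mk] at h
  obtain ⟨c, hc, e⟩ : (π y)⁻¹ * (k * π x) ∈ C.map π := D.map ▸ mem_centralizer_singleton_iff.2
    (mul_inv_eq_iff_eq_mul.1 (by rw [← conj_conj, ← conj_conj, h, ZH.cj_inv]))
  exact ⟨y * c * x⁻¹, by simp [e], by rw [smul_mk, inv_mul_cancel_right, QuotientGroup.mk_mul_of_mem y hc]⟩

theorem eq_of (h : Aj n a b) (h' : Aj n a c) (e : pt π b = pt π c) : b = c := by
  obtain ⟨x, rfl, rfl⟩ := h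
  obtain ⟨y, t, rfl⟩ := h'
  have := D.uniq _ (QuotientGroup.eq.1 t) (by
    rw [D.pt_n, D.pt_n] at e
    rw [map_mul, map_inv, ← mul_inv_eq_iff_eq_mul, ← conj_conj, e, ZH.cj_inv])
  exact (QuotientGroup.eq.2 (by simpa [mul_assoc] using this)).symm

theorem lift (h : adjZ (pt π a) k) : ∃ b, Aj n a b ∧ pt π b = k := by
  obtain ⟨p, p1, p2⟩ := ZH.adj_std h
  obtain ⟨g, g1, rfl⟩ := D.trans (a := ((1 : X) : X ⧸ C)) (b := a) (k := p⁻¹) (by
    rw [D.pt_mk, map_one, inv_one, one_mul, mul_one, ← p1, ZH.cj_inv])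
  exact ⟨_, ⟨g * 1, rfl, rfl⟩, by rw [D.pt_n, mul_one, g1, ← p2, ZH.cj_inv]⟩

theorem move (h : Aj n a b) (h' : Aj n (g • a) b') (e : π g * pt π b * (π g)⁻¹ = pt π b') : g • b = b' :=
  D.eq_of (h.smul g) h' (by rw [D.pt_smul, e])

theorem free (h : δ ∈ N) (e : δ • a = a) : δ = 1 := by
  obtain ⟨x, rfl⟩ := QuotientGroup.mk_surjective a
  have := D.d1 _ (D.nrm.conj_mem _ h x⁻¹) (by simpa [mul_assoc] using QuotientGroup.eq.1 e.symm)
  rwa [conj_eq_one_iff] at this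

theorem of_line (h : Aj n a b) (h' : Aj n a c) (e : pt π c = pt π a * pt π b) : Aj n b c := by
  obtain ⟨u, hu, e1, p, hp, q, hq, e2⟩ := D.line
  obtain ⟨x, rfl, rfl⟩ := h
  rw [← D.eq_of (b := (x * u * n : X)) ⟨x * u, QuotientGroup.mk_mul_of_mem x hu, rfl⟩ h' (by
    rw [e, D.pt_n, D.pt_n, D.pt_mk, map_mul, ← conj_conj, e1, conj_mul'])]
  refine ⟨x * n * p, QuotientGroup.mk_mul_of_mem _ hp, ?_⟩
  rw [← QuotientGroup.mk_mul_of_mem _ hq, mul_assoc (x * n), mul_assoc (x * n), ← e2]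
  simp [mul_assoc]

theorem hol_pt (h : Hol π n N a b c δ) : pt π (δ⁻¹ • a) = pt π a := by
  rw [D.pt_smul, map_inv]
  conv_lhs => rw [← h.fix]
  exact ZH.cj_inv _ _

theorem hol_eq (h : Hol π n N a b c δ) (h' : Hol π n N a b c δ') : δ = δ' := by
  have := D.eq_of h.ca.inv h'.ca.inv ((D.hol_pt h).trans (D.hol_pt h').symm)
  rw [inv_smul_eq_iff, smul_smul] at this
  exact mul_inv_eq_one.1 (D.free (mul_mem h.mem (inv_mem h'.mem)) this.symm)

theorem hol_smul (h : Hol π n N a b c δ) (g : X) : Hol π n N (g • a) (g • b) (g • c) (g * δ * g⁻¹) :=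
  ⟨h.ba.smul g, h.bc.smul g, by simpa [mul_smul] using h.ca.smul g, D.nrm.conj_mem _ h.mem g, by
    rw [D.pt_smul]
    conv_rhs => rw [← h.fix]
    simp [mul_assoc]⟩

theorem exists_hol : ∃ (a b c : X ⧸ C) (δ : X), Hol π n N a b c δ ∧ Pl (pt π a) (pt π b) (pt π c) := by
  obtain ⟨c, hc, d, hd, e, he, δ, h1, h2, h3, h4⟩ := D.one
  have a1 : Aj n ((1 : X) : X ⧸ C) (c * n : X) := ⟨c, QuotientGroup.eq.2 (by simpa using hc), rfl⟩
  have a2 : Aj n ((1 * n : X) : X ⧸ C) (n * d * n * e : X) :=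
    ⟨n * d, by rw [one_mul, QuotientGroup.mk_mul_of_mem _ hd], (QuotientGroup.mk_mul_of_mem _ he).symm⟩
  have a3 : (n * d * n * e * δ * (n * d * n * e)⁻¹) • ((n * d * n * e : X) : X ⧸ C) = (c * n : X) := by
    rw [smul_mk, inv_mul_cancel_right, mul_assoc n d, mul_assoc n, mul_assoc n, ← h4]; simp [mul_assoc]
  have a4 : pt π ((c * n : X) : X ⧸ C) = pt π ((n * d * n * e : X) : X ⧸ C) := by
    rw [← a3, smul_mk, inv_mul_cancel_right, D.pt_mk, D.pt_mk, map_mul _ _ δ, ← conj_conj, ← h3,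
      mul_inv_cancel_right]
  refine ⟨_, _, _, _, ⟨a1, ⟨1, rfl, rfl⟩, a3 ▸ a2.smul _, D.nrm.conj_mem _ h1 _, ?_⟩,
    ZH.symm (D.adj a1), a4 ▸ ZH.symm (D.adj a2), D.adj ⟨1, rfl, rfl⟩, fun u => h2 ?_⟩
  · conv_lhs => rw [a4, ← D.pt_smul, a3]
  · rw [D.pt_n, D.pt_n, D.pt_mk, map_one, inv_one, one_mul, one_mul, mul_one, mul_one] at u
    rw [ZH.comm ZH.adj_zs.2.2, eq_mul_inv_iff_mul_eq.2 u.symm, inv_eq_of_mul_eq_one_left zz_mul_self]

theorem word : ∃ i < 2, ∃ j < 2, ∃ l < 2, ∀ a b c : X ⧸ C, Aj n b a → Aj n b c → Pl (pt π a) (pt π b) (pt π c) →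
    ∃ δ, Hol π n N a b c δ ∧ π δ = pt π a ^ i * pt π b ^ j * pt π c ^ l := by
  obtain ⟨a, b, c, δ, h, p⟩ := D.exists_hol
  obtain ⟨i, hi, j, hj, l, hl, e⟩ := p.dc (mul_inv_eq_iff_eq_mul.1 h.fix).symm fun k k1 k2 k3 => by
    obtain ⟨g, rfl, g1⟩ := D.trans k2
    have := D.hol_smul h g
    rw [D.move h.ba (g1.symm ▸ h.ba) k1, D.move h.bc (g1.symm ▸ h.bc) k3, g1] at this
    simpa using congrArg π (D.hol_eq this h)
  refine ⟨i, hi, j, hj, l, hl, fun a' b' c' h1 h2 p' => ?_⟩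
  obtain ⟨k, k1, k2, k3⟩ := p.trans p'
  obtain ⟨g, rfl, rfl⟩ := D.trans k2
  obtain rfl := D.move h.ba h1 k1
  obtain rfl := D.move h.bc h2 k3
  exact ⟨_, D.hol_smul h g, by
    rw [D.pt_smul, D.pt_smul, D.pt_smul, conj_pow, conj_pow, conj_pow, ← conj_mul', ← conj_mul', ← e]; simp⟩

theorem tri (h : Aj n b a) (h' : Aj n b c) (k : adjZ (pt π c) (pt π a)) : Aj n c a := by
  by_cases e : pt π a = pt π b * pt π c
  · exact D.of_line h' h e
  obtain ⟨i, hi, j, hj, l, hl, W⟩ := D.word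
  have ba := D.adj h
  have bc := D.adj h'
  have sa := ZH.sq ba.1
  have sb := ZH.sq ba.2.2.mem
  have sc := ZH.sq bc.1
  have c1 : Commute (pt π b) (pt π a) := ZH.comm ba.2.2
  have c2 : Commute (pt π b) (pt π c) := ZH.comm bc.2.2
  have c3 : Commute (pt π c) (pt π a) := ZH.comm k.2.2
  have n1 : pt π c ≠ pt π a * pt π b := fun u => e (by rw [u, ← c1.eq, ← mul_assoc, sb, one_mul])
  have n2 : pt π b ≠ pt π a * pt π c := fun u => e (by rw [u, mul_assoc, sc, mul_one])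
  obtain ⟨δ, h1, e1⟩ := W a b c h h' ⟨ZH.symm ba, ZH.symm k, bc, n1⟩
  have f1 := D.hol_pt h1
  obtain ⟨δ1, h2, e2⟩ := W (δ⁻¹ • a) c b h1.ca.inv (D.symm h') (f1 ▸ ⟨ZH.symm k, ZH.symm ba, ZH.symm bc, n2⟩)
  obtain rfl : δ⁻¹ = δ1 := D.hol_eq ⟨h2.ba, h2.bc, h.smul _, inv_mem h1.mem, by rw [f1, ← D.pt_smul, f1]⟩ h2
  obtain ⟨k1, k2⟩ := ZH.adj_mul k
  have k3 : adjZ (pt π b) (pt π c * pt π a) := ⟨k1.1, fun u => n2 (by rw [← u, c3.eq]), bc.2.2.mul ba.2.2⟩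
  obtain ⟨d, d1, d2⟩ := D.lift k3
  obtain ⟨δ2, h3, e3⟩ := W d b c d1 h' (d2 ▸ ⟨ZH.symm k3, ZH.symm k1, bc, fun u => ba.2.1 (by
    rw [mul_assoc, left_eq_mul] at u
    rw [← mul_one (pt π a), ← sb, ← mul_assoc, u, one_mul])⟩)
  obtain ⟨δ3, h4, e4⟩ := W d b a d1 h (d2 ▸ ⟨ZH.symm k3, ZH.symm k2, ba, fun u => bc.2.1 (by
    rw [c3.eq, mul_assoc, left_eq_mul] at u
    rw [← mul_one (pt π c), ← sb, ← mul_assoc, u, one_mul])⟩)
  have c4 : Commute (π δ) (pt π d) := by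
    rw [e1, d2]
    exact (((c3.symm.mul_right (.refl _)).pow_left i).mul_left ((c2.mul_right c1).pow_left j)).mul_left
      (((Commute.refl _).mul_right c3).pow_left l)
  obtain rfl : δ2 * δ⁻¹ = δ3 := D.hol_eq ⟨d1, h, by
    simpa [mul_smul] using (D.of_line h1.ca.inv h3.ca.inv (by rw [D.hol_pt h3, f1, d2])).smul δ2,
    mul_mem h3.mem (inv_mem h1.mem), by
      rw [map_mul, map_inv, ← conj_conj, c4.inv_left.eq, mul_inv_cancel_right, h3.fix]⟩ h4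
  rw [map_mul, map_inv, mul_inv_eq_iff_eq_mul, e3, e1, mul_assoc (_ * _) (pt π a ^ l), mul_right_inj,
    ← mul_assoc, right_eq_mul] at e4
  rw [map_inv, f1, inv_eq_iff_mul_eq_one, e1] at e2
  have na := ZH.ne_one ba.1
  have nb := ZH.ne_one ba.2.2.mem
  have n3 : pt π a * pt π b ≠ 1 := fun u => ba.2.1 (by rw [← mul_one (pt π a), ← sb, ← mul_assoc, u, one_mul])
  have n4 : pt π a * pt π c * (pt π a * pt π b) ≠ 1 := fun u => bc.2.1 (by
    rw [← c3.eq, mul_assoc, ← mul_assoc (pt π a), sa, one_mul] at u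
    rw [← mul_one (pt π c), ← sb, ← mul_assoc, u, one_mul])
  have : π δ = 1 := by
    rw [e1]
    interval_cases i <;> interval_cases j <;> interval_cases l <;> simp_all [← mul_assoc]
  simpa [D.d2 _ h1.mem this] using h1.ca

theorem surj : Function.Surjective π := fun k => by
  have : ∀ z, ReflTransGen adjZ zz z → ∃ a : X ⧸ C, pt π a = z := fun z h => by
    induction h with
    | refl => exact ⟨(1 : X), by simp [D.pt_mk]⟩
    | tail _ k ih =>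
      obtain ⟨a, rfl⟩ := ih
      exact (D.lift k).imp fun _ => And.right
  obtain ⟨a, e⟩ := this _ (connZ zz_mem_ZC ((conj_mem_ZC k).2 zz_mem_ZC))
  exact (D.trans (a := (1 : X)) (b := a) (by simp [D.pt_mk, e])).imp fun _ => And.left

theorem inj (h : ∀ c ∈ C, π c = 1 → c = 1) (gen : closure (insert n C) = ⊤) (h2 : π n * zs * (π n)⁻¹ = zz) :
    Function.Injective π := SC_Z π C n h D.map gen D.h1 h2 D.sq D.uniq fun g hg k1 k2 => by
  obtain ⟨x, t, u⟩ := D.tri (b := (1 : X)) (c := (1 * n : X)) (a := (g * n : X))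
    ⟨g, QuotientGroup.eq.2 (by simpa using hg), rfl⟩ ⟨1, rfl, rfl⟩ (by
      rw [D.pt_n, D.pt_n, map_one, one_mul, inv_one, mul_one]
      exact ⟨(conj_mem_ZC _).2 ZH.zs_mem, k2, inQ_zs.2 k1⟩)
  exact ⟨_, QuotientGroup.eq.1 t.symm, _, QuotientGroup.eq.1 u, by group⟩

end HD

end Cfsg.Agent.Gr.Am
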