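import Mathlib
import Cfsg.Agent.Gr.Am.Hol
import Cfsg.Agent.Gr.Am.DegB
import Cfsg.Agent.Gr.Monster

/-! The identification of a completion of the amalgam. -/

set_option autoImplicit false

namespace Cfsg.Agent.Gr.Am

open Cfsg.Agent.Spor Cfsg.Agent.Spor.Leech Cfsg.Agent.Gr.Rk Subgroup

attribute [local irreducible] sgC cls twoC csm perm negOne pc Sh tq act tau

variable {G : Type*} [Group G] {Γ : Subgroup (G × Co0)} {P : ZMod 2 → LL → G} {F : Fr Γ P} {x y c d e : G}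
  {g g' g'' : Co0} {H A R S : Subgroup G}

theorem Amg.iso {Φ : Subgroup (G × K)} {n : G × K} (M : Amg F frK Φ n)
    (gen : closure (insert n.1 (pre Γ ⊤)) = ⊤) (hc : (c, g) ∈ Γ) (hg : g ∉ Mon) (hd : (d, g') ∈ Γ)
    (he : (e, g'') ∈ Γ) (t : n.1⁻¹ * c * n.1 = d * n.1 * e) : Nonempty (K ≃* G) := by
  let X := closure (insert n (Φ : Set (G × K)))
  have hn : n ∈ X := subset_closure (Set.mem_insert _ _)
  have hX : Φ ≤ X := fun t h => subset_closure (Set.mem_insert_of_mem _ h)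
  let π : X →* K := (MonoidHom.snd _ _).comp X.subtype
  let φ : X →* G := (MonoidHom.fst _ _).comp X.subtype
  have D : HD π (Φ.subgroupOf X) ⟨n, hn⟩ φ.ker := by
    refine ⟨le_antisymm ?_ fun k hk => ?_, M.z2, M.sq, fun h hh u => M.norm' hh (mem_H0K.2
      ⟨dl_zc frK (M.cpl.le hh), u.symm⟩), inferInstance, fun δ h1 h2 => ?_,
      fun δ h1 h2 => Subtype.ext (Prod.ext h1 h2), ?_, ?_⟩
    · rintro _ ⟨t, h, rfl⟩
      exact mem_centralizer_singleton_iff.2 (dl_zc frK (M.cpl.le h)).symm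
    · obtain ⟨g, u⟩ := exists_GK.2 (mem_centralizer_singleton_iff.1 hk).symm
      obtain ⟨c, v⟩ := M.tot2 u
      exact ⟨⟨_, hX v⟩, v, rfl⟩
    · have h1 : δ.1.1 = 1 := h1
      exact Subtype.ext (Prod.ext h1 (M.inj2 (h1 ▸ (h2 : δ.1 ∈ Φ))))
    · obtain ⟨u, h1, h2, a, h3, b, h4, h5⟩ := M.line'
      exact ⟨⟨u, hX h1⟩, h1, h2, ⟨a, hX h3⟩, h3, ⟨b, hX h4⟩, h4, Subtype.ext h5⟩
    · obtain ⟨c, h1, d, h2, e, h3, δ, h4, -, h5, h6, h7⟩ := M.one hc hg hd he t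
      exact ⟨⟨c, hX h1⟩, h1, ⟨d, hX h2⟩, h2, ⟨e, hX h3⟩, h3, ⟨δ, (X.mul_mem_cancel_left (mul_mem (mul_mem (hX h2) hn)
        (hX h3))).1 (h7 ▸ mul_mem (mul_mem (inv_mem hn) (hX h1)) hn)⟩, h4, h5, h6, Subtype.ext h7⟩
  let ε := MulEquiv.ofBijective π ⟨D.inj (fun c h k => Subtype.ext (Prod.ext (M.inj1 (k ▸ (h : c.1 ∈ Φ))) k)) (by
    rw [← closure_preimage_eq_top]
    congr 1
    ext t
    exact or_congr Subtype.ext_iff Iff.rfl) M.s2, D.surj⟩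
  have sj : Function.Surjective φ := by
    rw [← MonoidHom.range_eq_top, eq_top_iff, ← gen, closure_le]
    rintro _ (rfl | ⟨g, -, u⟩)
    · exact ⟨⟨n, hn⟩, rfl⟩
    · obtain ⟨k, v⟩ := M.tot _ _ u
      exact ⟨⟨_, hX v⟩, rfl⟩
  have := simple_K
  refine ⟨MulEquiv.ofBijective (φ.comp ε.symm.toMonoidHom) ⟨?_, sj.comp ε.symm.surjective⟩⟩
  rw [← MonoidHom.ker_eq_bot_iff]
  refine (IsSimpleGroup.eq_bot_or_eq_top_of_normal _ inferInstance).resolve_right fun u => F.z_ne ?_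
  obtain ⟨k, v⟩ := sj.comp ε.symm.surjective (P 1 0)
  exact v.symm.trans (show k ∈ (φ.comp ε.symm.toMonoidHom).ker from u ▸ mem_top k)

theorem Tri.iso (T : Tri F x y) (y23 : y ^ 23 = 1) (gen : closure (insert x (pre Γ ⊤)) = ⊤)
    (hc : (c, g) ∈ Γ) (hg : g ∉ Mon) (hd : d ∈ pre Γ ⊤) (he : e ∈ pre Γ ⊤) (t : x⁻¹ * c * x = d * x * e) :
    Nonempty (K ≃* G) := by
  obtain ⟨k, hk⟩ := dl_tot F frK T.yS
  have h1 := pow_mem hk 24
  rw [Prod.pow_mk, pow_succ y, y23, one_mul] at h1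
  have h2 := pow_mem hk 23
  rw [Prod.pow_mk, y23] at h2
  obtain ⟨x', T', E1, E2⟩ := exists_triK (dl_over F frK h1 T.yS) (dl_H0 F h1 T.yH) (by
    rw [← pow_mul, show 24 * 23 = 23 * (2 * 12) from rfl, pow_mul, pow_mul]
    rcases dl_one F frK h2 with u | u <;> rw [u]
    · simp
    · rw [pow_two, frK.z_sq, one_pow])
  obtain ⟨Φ, n, M, a, u⟩ := ext T T' h1 E1 E2
  have hp : P 0 a ∈ pre Γ ⊤ := ⟨1, trivial, F.mem 0 a⟩
  obtain ⟨_, -, d1⟩ := mul_mem (inv_mem hp) hd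
  obtain ⟨_, -, e1⟩ := mul_mem (mul_mem (inv_mem hp) he) hp
  refine M.iso (eq_top_iff.2 (gen.symm.trans_le ((closure_le _).2 ?_))) hc hg d1 e1 (by
    rw [u, mul_inv_rev, mul_assoc _ x⁻¹, ← mul_assoc _ x, mul_assoc _ _ x, t]; group)
  rintro _ (rfl | h)
  · exact (mul_mem_cancel_right (subset_closure (Set.mem_insert_of_mem _ hp))).1
      (u ▸ subset_closure (Set.mem_insert _ _))
  · exact subset_closure (Set.mem_insert_of_mem _ h)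

theorem iso_of_mark (F : Fr Γ P) (D : ND (pre Γ ⊤) H A R S x y) (hy : (y, Sh) ∈ Γ)
    (L1 : ¬ ∀ r ∈ S, (r, 1) ∈ Γ) (gen : closure (insert x (pre Γ ⊤)) = ⊤) (hc : c ∈ pre Γ ⊤) (h0 : c ∉ H)
    (hd : d ∈ pre Γ ⊤) (he : e ∈ pre Γ ⊤) (t : x⁻¹ * c * x = d * x * e) : Nonempty (K ≃* G) := by
  obtain ⟨h1, T | T⟩ := deg F D hy L1
  · obtain ⟨g, -, u⟩ := hc
    exact T.iso D.y23 gen u (fun v => h0 (h1 ▸ ⟨g, v, u⟩)) hd he t
  obtain ⟨u, u1, u2⟩ := D.exu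
  have u3 := D.ix.le (D.xu u (D.SH u1) u2)
  have u4 := D.SH u1
  obtain ⟨g, -, v⟩ := mul_mem (mul_mem (D.HC u4) hc) (inv_mem (D.HC u4))
  generalize hk : x * u * (x * u) = k at u3
  have e1 : x⁻¹ = u * x * (u * k⁻¹) := by rw [← hk]; group
  have m := D.HC (mul_mem u4 (inv_mem u3))
  refine T.iso D.y23 (eq_top_iff.2 (gen.symm.trans_le ((closure_le _).2 ?_))) v (fun w => h0 ?_)
    (mul_mem (mul_mem (inv_mem m) hd) (inv_mem (D.HC u4))) (mul_mem (mul_mem (inv_mem m) he) m) ?_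
  · rintro _ (rfl | h)
    · exact inv_mem_iff.1 (subset_closure (Set.mem_insert _ _))
    · exact subset_closure (Set.mem_insert_of_mem _ h)
  · simpa [mul_assoc] using mul_mem (mul_mem (inv_mem u4) (h1 ▸ ⟨g, w, v⟩ : u * c * u⁻¹ ∈ H)) u4
  · rw [e1]
    calc _ = (u * k⁻¹)⁻¹ * (x⁻¹ * c * x) * (u * k⁻¹) := by group
      _ = _ := by rw [t]; group

theorem iso_of_nd (F : Fr Γ P) (D : ND (pre Γ ⊤) H A R S x y) (hy : y ≠ 1)
    (L1 : ¬ ∀ r ∈ S, (r, 1) ∈ Γ) (gen : closure (insert x (pre Γ ⊤)) = ⊤) (hc : c ∈ pre Γ ⊤) (h0 : c ∉ H)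
    (hd : d ∈ pre Γ ⊤) (he : e ∈ pre Γ ⊤) (t : x⁻¹ * c * x = d * x * e) : Nonempty (K ≃* G) := by
  obtain ⟨g, -, u⟩ := D.HC (D.ix.le D.yK)
  have h1 := pow_mem u 24
  rw [Prod.pow_mk, pow_succ y, D.y23, one_mul] at h1
  have h2 := pow_mem u 23
  rw [Prod.pow_mk, D.y23] at h2
  obtain ⟨k, i, v⟩ := exists_mark (g := g ^ 24) (by
    rw [← pow_mul, show 24 * 23 = 23 * (2 * 12) from rfl, pow_mul, pow_mul]
    rcases F.pm_of_one h2 with u | u <;> rw [u]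
    · simp
    · rw [pow_two, negOne_mul_self, one_pow]) fun w => hy (by
      obtain ⟨e, a, rfl⟩ := F.ker _ (w ▸ h1)
      have := pow_succ (P e a) 23
      rwa [D.y23, one_mul, show 23 + 1 = 4 * 6 from rfl, pow_mul, F.pow_four, one_pow, eq_comm] at this)
  obtain ⟨γ, rfl⟩ := exists_lift k
  have e1 : pre (Γ.comap ((MonoidHom.id G).prodMap (MulAut.conj γ.1.2).toMonoidHom)) ⊤ = pre Γ ⊤ :=
    Subgroup.ext fun c => ⟨fun ⟨g, _, h⟩ => ⟨_, trivial, h⟩, fun ⟨g, _, h⟩ =>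
      ⟨γ.1.2⁻¹ * g * γ.1.2, trivial, by simpa [mul_assoc] using h⟩⟩
  rw [← e1] at D gen hc hd he
  exact iso_of_mark (F.remark γ) (D.pow i) (by simpa [v] using pow_mem h1 i)
    (fun w => L1 fun r h => by simpa using w r h) gen hc h0 hd he t

end Cfsg.Agent.Gr.Am
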